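import Mathlib
import Cfsg.Prelude.Def_Transfer

/-!
# PF section 9, module N6, part A (helper62, for helper4): abstract lemmas

* `scalar_or_comm`: a Schur-type dichotomy.  Let `V` be a `ZMod p`-module of order `p ^ q`, `q`
  prime, `S` an irreducible set of endomorphisms and `Z` a commuting set of endomorphisms all of
  which commute with `S`.  Then either every member of `Z` is a scalar, or `S` is commutative.
* `hom_eq_one_of_nilpotent`: a homomorphism from a nilpotent group whose image has trivial centre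
  is trivial.
* `mem_of_fpf_comm`: if `w` acts without fixed points on `U` and normalises `C ≤ U`, then an
  element of `U` which is fixed by `w` modulo `C` lies in `C`.
-/

set_option autoImplicit false
set_option linter.style.haveILetI false

namespace Cfsg.Agent.Lib.Helper62.PF9

universe u

theorem scalar_or_comm {p q : ℕ} [hp : Fact p.Prime] (hq : q.Prime) {V : Type u} [AddCommGroup V]
    [Finite V] [Module (ZMod p) V] (hcard : Nat.card V = p ^ q)
    (S Z : Set (Module.End (ZMod p) V))
    (hZc : ∀ a ∈ Z, ∀ b ∈ Z, a * b = b * a)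
    (hZS : ∀ a ∈ Z, ∀ s ∈ S, a * s = s * a)
    (hirr : ∀ W : Submodule (ZMod p) V, (∀ s ∈ S, ∀ w ∈ W, s w ∈ W) → W = ⊥ ∨ W = ⊤) :
    (∀ z ∈ Z, ∃ c : ZMod p, z = c • (1 : Module.End (ZMod p) V)) ∨
      (∀ s ∈ S, ∀ t ∈ S, s * t = t * s) := by
  classical
  let A : Subalgebra (ZMod p) (Module.End (ZMod p) V) := Algebra.adjoin (ZMod p) Z
  have hZA : ∀ z ∈ Z, z ∈ A := fun z hz => Algebra.subset_adjoin hz
  letI instCR : CommRing A := Algebra.adjoinCommRingOfComm (ZMod p) hZc
  have hcommA : ∀ (a : A) (s : Module.End (ZMod p) V), s ∈ S →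
      (a : Module.End (ZMod p) V) * s = s * a := by
    intro a s hs
    have h1 : A ≤ Subalgebra.centralizer (ZMod p) {s} := by
      apply Algebra.adjoin_le
      intro z hz
      rw [SetLike.mem_coe, Subalgebra.mem_centralizer_iff]
      intro g hg
      rw [Set.mem_singleton_iff.mp hg]
      exact (hZS z hz s hs).symm
    have h2 := (Subalgebra.mem_centralizer_iff (ZMod p)).mp (h1 a.2) s rfl
    exact h2.symm
  have hinj : ∀ a : A, a ≠ 0 → Function.Injective (a : Module.End (ZMod p) V) := by
    intro a ha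
    have hker : ∀ s ∈ S, ∀ w ∈ LinearMap.ker (a : Module.End (ZMod p) V),
        s w ∈ LinearMap.ker (a : Module.End (ZMod p) V) := by
      intro s hs w hw
      rw [LinearMap.mem_ker] at hw ⊢
      have h1 : (a : Module.End (ZMod p) V) (s w) = ((a : Module.End (ZMod p) V) * s) w := rfl
      rw [h1, hcommA a s hs, Module.End.mul_apply, hw, map_zero]
    rcases hirr _ hker with h | h
    · exact LinearMap.ker_eq_bot.mp h
    · exfalso
      apply ha
      apply Subtype.ext
      exact LinearMap.ker_eq_top.mp h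
  -- a nonzero vector
  have hp2 : 2 ≤ p := hp.out.two_le
  have hV1 : 1 < Nat.card V := by
    rw [hcard]
    exact Nat.one_lt_pow hq.ne_zero hp.out.one_lt
  haveI : Nontrivial V := Finite.one_lt_card_iff_nontrivial.mp hV1
  obtain ⟨w₀, hw₀⟩ := exists_ne (0 : V)
  haveI : Finite (Module.End (ZMod p) V) := DFunLike.finite _
  haveI : Finite A := inferInstance
  have h01 : (0 : A) ≠ 1 := by
    intro h
    have h1 : ((0 : A) : Module.End (ZMod p) V) w₀ = ((1 : A) : Module.End (ZMod p) V) w₀ := by
      rw [h]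
    apply hw₀
    simpa using h1.symm
  haveI : Nontrivial A := ⟨⟨0, 1, h01⟩⟩
  haveI : NoZeroDivisors A := by
    constructor
    intro a b hab
    by_contra hcon
    push Not at hcon
    obtain ⟨ha, hb⟩ := hcon
    apply hb
    apply Subtype.ext
    ext v
    have h1 : ((a * b : A) : Module.End (ZMod p) V) v = 0 := by rw [hab]; rfl
    have h2 : (a : Module.End (ZMod p) V) ((b : Module.End (ZMod p) V) v) = 0 := h1
    have h3 := hinj a ha (h2.trans (map_zero _).symm)
    exact h3
  haveI : IsDomain A := NoZeroDivisors.to_isDomain A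
  letI := Fintype.ofFinite A
  letI instF : Field A := Fintype.fieldOfDomain A
  -- cardinalities
  have hcV : Nat.card V = Nat.card A ^ Module.finrank A V :=
    Module.natCard_eq_pow_finrank (K := A) (V := V)
  have hcA : Nat.card A = p ^ Module.finrank (ZMod p) A := by
    rw [Module.natCard_eq_pow_finrank (K := ZMod p) (V := A), Nat.card_zmod]
  set k := Module.finrank (ZMod p) A with hk
  set d := Module.finrank A V with hd
  have hqkd : q = k * d := by
    have h1 : p ^ q = p ^ (k * d) := by
      rw [← hcard, hcV, hcA, pow_mul]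
    exact Nat.pow_right_injective hp2 h1
  have hk1 : k = 1 ∨ k = q := (Nat.dvd_prime hq).mp ⟨d, hqkd⟩
  -- evaluation at `w₀`
  have hφinj : Function.Injective (fun a : A => (a : Module.End (ZMod p) V) w₀) := by
    intro a b hab
    by_contra hne
    have h1 : ((a - b : A) : Module.End (ZMod p) V) w₀ = 0 := by
      have h2 : ((a - b : A) : Module.End (ZMod p) V) w₀ =
          (a : Module.End (ZMod p) V) w₀ - (b : Module.End (ZMod p) V) w₀ := rfl
      rw [h2]
      exact sub_eq_zero.mpr hab
    exact hw₀ (hinj (a - b) (sub_ne_zero.mpr hne) (h1.trans (map_zero _).symm))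
  rcases hk1 with h1 | h1
  · left
    have hcA' : Nat.card A = p := by rw [hcA, h1, pow_one]
    have hinjalg : Function.Injective (algebraMap (ZMod p) A) := (algebraMap (ZMod p) A).injective
    have hbij : Function.Bijective (algebraMap (ZMod p) A) :=
      hinjalg.bijective_of_nat_card_le (by rw [hcA', Nat.card_zmod])
    intro z hz
    obtain ⟨c, hc⟩ := hbij.2 ⟨z, hZA z hz⟩
    refine ⟨c, ?_⟩
    have h2 := congrArg Subtype.val hc
    rw [← Algebra.algebraMap_eq_smul_one]
    exact h2.symm
  · right
    have hcA' : Nat.card A = Nat.card V := by rw [hcA, h1, hcard]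
    have hbij : Function.Bijective (fun a : A => (a : Module.End (ZMod p) V) w₀) :=
      hφinj.bijective_of_nat_card_le hcA'.ge
    have hmem : ∀ s ∈ S, ∃ b : A, (b : Module.End (ZMod p) V) = s := by
      intro s hs
      obtain ⟨b, hb⟩ := hbij.2 (s w₀)
      refine ⟨b, ?_⟩
      apply LinearMap.ext
      intro v
      obtain ⟨a, rfl⟩ := hbij.2 v
      show (b : Module.End (ZMod p) V) ((a : Module.End (ZMod p) V) w₀) =
        s ((a : Module.End (ZMod p) V) w₀)
      have e1 : s ((a : Module.End (ZMod p) V) w₀) = (s * (a : Module.End (ZMod p) V)) w₀ := rfl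
      have e2 : ((a : Module.End (ZMod p) V) * s) w₀ = (a : Module.End (ZMod p) V) (s w₀) := rfl
      have e3 : (b : Module.End (ZMod p) V) w₀ = s w₀ := hb
      rw [e1, ← hcommA a s hs, e2, ← e3]
      have e4 : (a : Module.End (ZMod p) V) ((b : Module.End (ZMod p) V) w₀) =
          ((a * b : A) : Module.End (ZMod p) V) w₀ := rfl
      have e5 : (b : Module.End (ZMod p) V) ((a : Module.End (ZMod p) V) w₀) =
          ((b * a : A) : Module.End (ZMod p) V) w₀ := rfl
      rw [e4, e5, mul_comm]
    intro s hs t ht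
    obtain ⟨b, rfl⟩ := hmem s hs
    obtain ⟨c, rfl⟩ := hmem t ht
    have := mul_comm b c
    exact congrArg Subtype.val this

/-- A homomorphism from a nilpotent group such that every element whose image commutes with the
whole image is in the kernel is trivial. -/
theorem hom_eq_one_of_nilpotent {H M : Type*} [Group H] [hH : Group.IsNilpotent H] [Monoid M]
    (τ : H →* M) (h : ∀ z : H, (∀ u : H, τ z * τ u = τ u * τ z) → τ z = 1) : ∀ u : H, τ u = 1 := by
  have key : ∀ n : ℕ, Subgroup.upperCentralSeries H n ≤ τ.ker := by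
    intro n
    induction n with
    | zero =>
      rw [Subgroup.upperCentralSeries_zero]
      exact bot_le
    | succ n ih =>
      intro x hx
      rw [Subgroup.mem_upperCentralSeries_succ_iff] at hx
      rw [MonoidHom.mem_ker]
      apply h
      intro y
      have h1 := ih (hx y)
      rw [MonoidHom.mem_ker, commutatorElement_def] at h1
      have h2 : x * y = (x * y * x⁻¹ * y⁻¹) * (y * x) := by group
      rw [← map_mul, ← map_mul, h2, map_mul, h1, one_mul]
  obtain ⟨n, hn⟩ := hH.nilpotent
  intro u
  have : u ∈ Subgroup.upperCentralSeries H n := by rw [hn]; trivial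
  exact MonoidHom.mem_ker.mp (key n this)

/-- If `w` acts without fixed points on `U` and normalises the finite subgroup `C ≤ U`, then any
`z ∈ U` with `z⁻¹ z^w ∈ C` lies in `C`. -/
theorem mem_of_fpf_comm {G : Type*} [Group G] (U C : Subgroup G) [Finite C] (hCU : C ≤ U) (w : G)
    (hwC : ∀ c ∈ C, w * c * w⁻¹ ∈ C) (hfpf : ∀ u ∈ U, w * u = u * w → u = 1)
    (z : G) (hz : z ∈ U) (hzC : z⁻¹ * (w * z * w⁻¹) ∈ C) : z ∈ C := by
  have hinjU : ∀ a ∈ U, ∀ b ∈ U, a⁻¹ * (w * a * w⁻¹) = b⁻¹ * (w * b * w⁻¹) → a = b := by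
    intro a ha b hb hab
    have h1 : w * (b * a⁻¹) = (b * a⁻¹) * w := by
      have h2 : w * a = a * (a⁻¹ * (w * a * w⁻¹)) * w := by group
      have h3 : w * b = b * (b⁻¹ * (w * b * w⁻¹)) * w := by group
      calc w * (b * a⁻¹) = (w * b) * a⁻¹ := by group
        _ = b * (b⁻¹ * (w * b * w⁻¹)) * w * a⁻¹ := by rw [← h3]
        _ = b * (a⁻¹ * (w * a * w⁻¹)) * w * a⁻¹ := by rw [hab]
        _ = (b * a⁻¹) * w := by group
    have h4 := hfpf (b * a⁻¹) (U.mul_mem hb (U.inv_mem ha)) h1
    have h5 : b = a := by
      have := mul_inv_eq_one.mp h4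
      exact this
    exact h5.symm
  let σ : ↥C → ↥C := fun c => ⟨(c : G)⁻¹ * (w * c * w⁻¹), C.mul_mem (C.inv_mem c.2) (hwC c c.2)⟩
  have hσinj : Function.Injective σ := by
    intro a b hab
    apply Subtype.ext
    exact hinjU a (hCU a.2) b (hCU b.2) (congrArg Subtype.val hab)
  have hσsurj : Function.Surjective σ := Finite.injective_iff_surjective.mp hσinj
  obtain ⟨m, hm⟩ := hσsurj ⟨_, hzC⟩
  have h1 : (m : G)⁻¹ * (w * m * w⁻¹) = z⁻¹ * (w * z * w⁻¹) := congrArg Subtype.val hm
  have h2 := hinjU m (hCU m.2) z hz h1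
  rw [← h2]
  exact m.2

end Cfsg.Agent.Lib.Helper62.PF9
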