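import Mathlib
import Cfsg.Prelude.Def_Transfer
import Cfsg.Agent.Lib.Helper62.PFNineN6A

/-!
# PF section 9, module N6 (helper62, for helper4): the Galois case gives an abelian action

`abelian_action_of_irreducible`: let `P` be elementary abelian of order `p ^ q`, `q` a prime, let
the nilpotent group `U` act irreducibly on `P`, and let `W₁` of order `q` normalise `U` and `P` and
act on `U` without fixed points.  Then `U` acts on `P` through an abelian group; the conclusion is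
verbatim the hypothesis `hUab` of module N4
(`Cfsg.Agent.Lib.Helper72.PFNineN4.exists_field_of_irreducible_abelian_action`).
-/

set_option autoImplicit false
set_option linter.style.haveILetI false

namespace Cfsg.Agent.Lib.Helper62.PF9

open scoped IsMulCommutative

/-- **PF (9.7), Galois case: the action is abelian.** -/
theorem abelian_action_of_irreducible {G : Type*} [Group G] [Finite G] (p q : ℕ) [Fact p.Prime]
    (hq : q.Prime) (P U W₁ : Subgroup G) (hP : Cfsg.IsElementaryAbelian p P)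
    (hcard : Nat.card P = p ^ q) (hW₁ : Nat.card W₁ = q)
    (hUP : U ≤ Subgroup.normalizer (P : Set G)) (hWP : W₁ ≤ Subgroup.normalizer (P : Set G))
    (hWU : W₁ ≤ Subgroup.normalizer (U : Set G))
    (hfpf : ∀ x ∈ W₁, x ≠ 1 → ∀ u ∈ U, x * u = u * x → u = 1)
    (hUnil : Group.IsNilpotent U)
    (hirr : ∀ Q : Subgroup G, Q ≤ P → U ≤ Subgroup.normalizer (Q : Set G) → Q = ⊥ ∨ Q = P) :
    ∀ u ∈ U, ∀ v ∈ U, ∀ x ∈ P, (u * v) * x * (u * v)⁻¹ = (v * u) * x * (v * u)⁻¹ := by
  classical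
  haveI instC : IsMulCommutative ↥P := hP.1
  have hA : ∀ x : Additive ↥P, p • x = 0 := fun x => by
    show Additive.ofMul ((Additive.toMul x) ^ p) = Additive.ofMul 1
    apply congrArg Additive.ofMul
    apply Subtype.ext
    exact hP.2 _ (Additive.toMul x).2
  have instM : Module (ZMod p) (Additive ↥P) := AddCommGroup.zmodModule hA
  haveI : Finite (Additive ↥P) := inferInstanceAs (Finite ↥P)
  have hcardV : Nat.card (Additive ↥P) = p ^ q := hcard
  -- conjugation by elements of the normaliser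
  have hcj : ∀ n ∈ Subgroup.normalizer (P : Set G), ∀ x ∈ P, n * x * n⁻¹ ∈ P := fun n hn x hx =>
    (Subgroup.mem_normalizer_iff.mp hn x).mp hx
  let cj : ↥(Subgroup.normalizer (P : Set G)) → (Additive ↥P →+ Additive ↥P) := fun n =>
    { toFun := fun x => Additive.ofMul
        (⟨(n : G) * ((Additive.toMul x : ↥P) : G) * (n : G)⁻¹,
          hcj n n.2 _ (Additive.toMul x).2⟩ : ↥P)
      map_zero' := by
        apply congrArg Additive.ofMul
        apply Subtype.ext
        show (n : G) * ((1 : ↥P) : G) * (n : G)⁻¹ = 1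
        simp
      map_add' := by
        intro x y
        apply congrArg Additive.ofMul
        apply Subtype.ext
        show (n : G) * (((Additive.toMul x : ↥P) : G) * ((Additive.toMul y : ↥P) : G)) * (n : G)⁻¹
          = ((n : G) * ((Additive.toMul x : ↥P) : G) * (n : G)⁻¹) *
            ((n : G) * ((Additive.toMul y : ↥P) : G) * (n : G)⁻¹)
        group }
  let T : ↥(Subgroup.normalizer (P : Set G)) →* Module.End (ZMod p) (Additive ↥P) :=
    { toFun := fun n => (cj n).toZModLinearMap p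
      map_one' := by
        apply LinearMap.ext
        intro v
        obtain ⟨⟨x, hx⟩, rfl⟩ := Additive.ofMul.surjective v
        apply congrArg Additive.ofMul
        apply Subtype.ext
        show ((1 : ↥(Subgroup.normalizer (P : Set G))) : G) * x *
          ((1 : ↥(Subgroup.normalizer (P : Set G))) : G)⁻¹ = x
        simp
      map_mul' := by
        intro a b
        apply LinearMap.ext
        intro v
        obtain ⟨⟨x, hx⟩, rfl⟩ := Additive.ofMul.surjective v
        apply congrArg Additive.ofMul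
        apply Subtype.ext
        show ((a : G) * (b : G)) * x * ((a : G) * (b : G))⁻¹ =
          (a : G) * ((b : G) * x * (b : G)⁻¹) * (a : G)⁻¹
        group }
  have hT : ∀ (n : ↥(Subgroup.normalizer (P : Set G))) (x : G) (hx : x ∈ P),
      T n (Additive.ofMul (⟨x, hx⟩ : ↥P)) =
      Additive.ofMul (⟨(n : G) * x * (n : G)⁻¹, hcj n n.2 x hx⟩ : ↥P) := fun n x hx => rfl
  -- the restriction to `U`
  let τ : ↥U →* Module.End (ZMod p) (Additive ↥P) := T.comp (Subgroup.inclusion hUP)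
  have hτ : ∀ (u : ↥U) (x : G) (hx : x ∈ P), τ u (Additive.ofMul (⟨x, hx⟩ : ↥P)) =
      Additive.ofMul (⟨(u : G) * x * (u : G)⁻¹, hcj u (hUP u.2) x hx⟩ : ↥P) := fun u x hx => rfl
  -- the final step: commuting images give the conclusion
  have hfinal : (∀ a b : ↥U, τ a * τ b = τ b * τ a) →
      ∀ u ∈ U, ∀ v ∈ U, ∀ x ∈ P, (u * v) * x * (u * v)⁻¹ = (v * u) * x * (v * u)⁻¹ := by
    intro hc u hu v hv x hx
    have h1 : τ (⟨u, hu⟩ * ⟨v, hv⟩) = τ (⟨v, hv⟩ * ⟨u, hu⟩) := by
      rw [map_mul, map_mul]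
      exact hc _ _
    have h2 := LinearMap.congr_fun h1 (Additive.ofMul (⟨x, hx⟩ : ↥P))
    rw [hτ, hτ] at h2
    have h3 := Additive.ofMul.injective h2
    exact congrArg Subtype.val h3
  -- irreducibility
  have hTirr : ∀ W : Submodule (ZMod p) (Additive ↥P),
      (∀ s ∈ Set.range τ, ∀ w ∈ W, s w ∈ W) → W = ⊥ ∨ W = ⊤ := by
    intro W hW'
    have hW : ∀ i : ↥U, ∀ w ∈ W, τ i w ∈ W := fun i w hw => hW' _ ⟨i, rfl⟩ w hw
    let Q : Subgroup G :=
      { carrier := {g | ∃ hg : g ∈ P, Additive.ofMul (⟨g, hg⟩ : ↥P) ∈ W}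
        one_mem' := ⟨P.one_mem, W.zero_mem⟩
        mul_mem' := by
          rintro a b ⟨ha, ha'⟩ ⟨hb, hb'⟩
          refine ⟨P.mul_mem ha hb, ?_⟩
          have : Additive.ofMul (⟨a * b, P.mul_mem ha hb⟩ : ↥P) =
              Additive.ofMul (⟨a, ha⟩ : ↥P) + Additive.ofMul (⟨b, hb⟩ : ↥P) := rfl
          rw [this]
          exact W.add_mem ha' hb'
        inv_mem' := by
          rintro a ⟨ha, ha'⟩
          refine ⟨P.inv_mem ha, ?_⟩
          have : Additive.ofMul (⟨a⁻¹, P.inv_mem ha⟩ : ↥P) =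
              - Additive.ofMul (⟨a, ha⟩ : ↥P) := rfl
          rw [this]
          exact W.neg_mem ha' }
    have hQmem : ∀ g : G, g ∈ Q ↔ ∃ hg : g ∈ P, Additive.ofMul (⟨g, hg⟩ : ↥P) ∈ W :=
      fun g => Iff.rfl
    have hQP : Q ≤ P := fun g hg => ((hQmem g).mp hg).1
    have hQU : U ≤ Subgroup.normalizer (Q : Set G) := by
      intro u hu
      rw [Subgroup.mem_normalizer_iff]
      intro x
      constructor
      · rintro ⟨hx, hx'⟩
        refine ⟨hcj u (hUP hu) x hx, ?_⟩
        have := hW ⟨u, hu⟩ _ hx'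
        rwa [hτ] at this
      · rintro ⟨hx, hx'⟩
        have hx0 : x ∈ P := by
          have := hcj u⁻¹ (hUP (U.inv_mem hu)) _ hx
          simpa [mul_assoc] using this
        refine ⟨hx0, ?_⟩
        have := hW ⟨u⁻¹, U.inv_mem hu⟩ _ hx'
        rw [hτ] at this
        have h2 : (⟨((⟨u⁻¹, U.inv_mem hu⟩ : ↥U) : G) * (u * x * u⁻¹) *
            ((⟨u⁻¹, U.inv_mem hu⟩ : ↥U) : G)⁻¹,
            hcj _ (hUP (U.inv_mem hu)) _ hx⟩ : ↥P) = ⟨x, hx0⟩ := by
          apply Subtype.ext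
          show u⁻¹ * (u * x * u⁻¹) * u⁻¹⁻¹ = x
          group
        rwa [h2] at this
    rcases hirr Q hQP hQU with h | h
    · left
      rw [Submodule.eq_bot_iff]
      intro w hw
      obtain ⟨⟨x, hx⟩, rfl⟩ := Additive.ofMul.surjective w
      have h1 : x ∈ Q := ⟨hx, hw⟩
      rw [h, Subgroup.mem_bot] at h1
      apply congrArg Additive.ofMul
      exact Subtype.ext h1
    · right
      rw [Submodule.eq_top_iff']
      intro w
      obtain ⟨⟨x, hx⟩, rfl⟩ := Additive.ofMul.surjective w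
      have h1 : x ∈ Q := by rw [h]; exact hx
      obtain ⟨_, h2⟩ := (hQmem x).mp h1
      exact h2
  -- the centre of the image
  let Z : Set (Module.End (ZMod p) (Additive ↥P)) :=
    {a | ∃ z : ↥U, τ z = a ∧ ∀ u : ↥U, τ z * τ u = τ u * τ z}
  have hZc : ∀ a ∈ Z, ∀ b ∈ Z, a * b = b * a := by
    rintro _ ⟨z, rfl, hz⟩ _ ⟨z', rfl, -⟩
    exact hz z'
  have hZS : ∀ a ∈ Z, ∀ s ∈ Set.range τ, a * s = s * a := by
    rintro _ ⟨z, rfl, hz⟩ _ ⟨u, rfl⟩
    exact hz u
  apply hfinal
  rcases scalar_or_comm hq hcardV (Set.range τ) Z hZc hZS hTirr with hsc | hcomm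
  · -- the centre acts by scalars, so the image is trivial
    -- a nontrivial element of `W₁`
    have hW1 : 1 < Nat.card ↥W₁ := by rw [hW₁]; exact hq.one_lt
    haveI : Nontrivial ↥W₁ := Finite.one_lt_card_iff_nontrivial.mp hW1
    obtain ⟨⟨w, hw⟩, hw1'⟩ := exists_ne (1 : ↥W₁)
    have hw1 : w ≠ 1 := fun h => hw1' (Subtype.ext h)
    have hwN : w ∈ Subgroup.normalizer (P : Set G) := hWP hw
    have hwU : ∀ u ∈ U, w * u * w⁻¹ ∈ U := fun u hu =>
      (Subgroup.mem_normalizer_iff.mp (hWU hw) u).mp hu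
    have hTw : T ⟨w, hwN⟩ * T ⟨w⁻¹, inv_mem hwN⟩ = 1 := by
      rw [← map_mul]
      have : (⟨w, hwN⟩ : ↥(Subgroup.normalizer (P : Set G))) * ⟨w⁻¹, inv_mem hwN⟩ = 1 := by
        apply Subtype.ext
        show w * w⁻¹ = 1
        group
      rw [this, map_one]
    -- the kernel
    let C : Subgroup G := (τ.ker).map U.subtype
    have hCmem : ∀ g : G, g ∈ C ↔ ∃ hg : g ∈ U, τ ⟨g, hg⟩ = 1 := by
      intro g
      constructor
      · rintro ⟨u, hu, rfl⟩
        exact ⟨u.2, MonoidHom.mem_ker.mp hu⟩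
      · rintro ⟨hg, h1⟩
        exact ⟨⟨g, hg⟩, MonoidHom.mem_ker.mpr h1, rfl⟩
    have hCU : C ≤ U := fun g hg => ((hCmem g).mp hg).1
    -- conjugation by `w` on the image
    have hτw : ∀ (u : G) (hu : u ∈ U), τ ⟨w * u * w⁻¹, hwU u hu⟩ =
        T ⟨w, hwN⟩ * τ ⟨u, hu⟩ * T ⟨w⁻¹, inv_mem hwN⟩ := by
      intro u hu
      show T _ = T _ * T _ * T _
      rw [← map_mul, ← map_mul]
      congr 1
    have hwC : ∀ c ∈ C, w * c * w⁻¹ ∈ C := by
      intro c hc
      obtain ⟨hcU, hc1⟩ := (hCmem c).mp hc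
      rw [hCmem]
      refine ⟨hwU c hcU, ?_⟩
      rw [hτw c hcU, hc1, mul_one, hTw]
    have h1 : ∀ u : ↥U, τ u = 1 := by
      apply hom_eq_one_of_nilpotent τ
      intro z hz
      obtain ⟨c, hc⟩ := hsc (τ z) ⟨z, rfl, hz⟩
      have hzC : (z : G)⁻¹ * (w * z * w⁻¹) ∈ C := by
        rw [hCmem]
        refine ⟨U.mul_mem (U.inv_mem z.2) (hwU z z.2), ?_⟩
        have e1 : (⟨(z : G)⁻¹ * (w * z * w⁻¹), U.mul_mem (U.inv_mem z.2) (hwU z z.2)⟩ : ↥U) =
            z⁻¹ * ⟨w * z * w⁻¹, hwU z z.2⟩ := rfl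
        rw [e1, map_mul, hτw z z.2]
        have e2 : τ ⟨(z : G), z.2⟩ = τ z := rfl
        rw [e2, hc]
        have e3 : T ⟨w, hwN⟩ * c • (1 : Module.End (ZMod p) (Additive ↥P)) * T ⟨w⁻¹, inv_mem hwN⟩ =
            c • (1 : Module.End (ZMod p) (Additive ↥P)) := by
          rw [mul_smul_comm, mul_one, smul_mul_assoc, hTw]
        rw [e3, ← hc, ← map_mul, inv_mul_cancel, map_one]
      have h2 := mem_of_fpf_comm U C hCU w hwC (hfpf w hw hw1) z z.2 hzC
      obtain ⟨_, h3⟩ := (hCmem _).mp h2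
      exact h3
    intro a b
    rw [h1 a, h1 b]
  · intro a b
    exact hcomm _ ⟨a, rfl⟩ _ ⟨b, rfl⟩

end Cfsg.Agent.Lib.Helper62.PF9
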