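import Mathlib
import Cfsg.Prelude.Def_Characters
import Cfsg.Agent.Lib.Helper77.Deflation
import Cfsg.Agent.Lib.Helper81.IrrTwist

/-!
# PF section 9, module G3b, part A (helper62, for helper58): quotient tools

* `exists_mul_fixed`: coprime action of an element of prime order on a coset of a normal subgroup
  has a fixed point.
* `map_inf_centralizer_singleton`: `C_{K/N}(x) = C_K(x) N / N` for `x` of prime order `q ∤ |N|`.
* `exists_irr_of_surjective`: an irreducible character whose kernel contains the kernel of a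
  surjective homomorphism factors through it.
* `invQuot_range`, `invQuot_pull_injective`: the irreducible characters of a normal subgroup `K`
  with a normal subgroup `N ≤ K` of the whole group in the kernel which are invariant under `W₁`
  are the pullbacks of the `W₁ N / N`-invariant irreducible characters of `K / N`.
-/

set_option autoImplicit false

namespace Cfsg.Agent.Lib.Helper62.PF9G3

open Cfsg

section Group

variable {L : Type*} [Group L]

/-- If `x ^ q = 1`, `q` a prime not dividing `|N|`, and `x` centralises `k` modulo the normal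
subgroup `N`, then `x` centralises some element of the coset `k N`. -/
theorem exists_mul_fixed (N : Subgroup L) [hN : N.Normal] [Finite N] (q : ℕ) [hq : Fact q.Prime]
    (hqN : ¬ q ∣ Nat.card N) (x k : L) (hx : x ^ q = 1) (hk : x * k * x⁻¹ * k⁻¹ ∈ N) :
    ∃ n ∈ N, x * (k * n) * x⁻¹ = k * n := by
  classical
  letI : Fintype ↥N := Fintype.ofFinite _
  have hmem : ∀ n : ↥N, k⁻¹ * (x * (k * (n : L)) * x⁻¹) ∈ N := by
    intro n
    have h1 : k⁻¹ * (x * k * x⁻¹ * k⁻¹) * k⁻¹⁻¹ ∈ N := hN.conj_mem _ hk k⁻¹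
    have h2 : x * (n : L) * x⁻¹ ∈ N := hN.conj_mem _ n.2 x
    have h3 : k⁻¹ * (x * (k * (n : L)) * x⁻¹) =
        (k⁻¹ * (x * k * x⁻¹ * k⁻¹) * k⁻¹⁻¹) * (x * (n : L) * x⁻¹) := by group
    rw [h3]
    exact N.mul_mem h1 h2
  let f : ↥N → ↥N := fun n => ⟨k⁻¹ * (x * (k * (n : L)) * x⁻¹), hmem n⟩
  have hf : Function.Injective f := by
    intro a b hab
    have h1 : k⁻¹ * (x * (k * (a : L)) * x⁻¹) = k⁻¹ * (x * (k * (b : L)) * x⁻¹) :=
      congrArg Subtype.val hab
    apply Subtype.ext
    have h2 := mul_left_cancel h1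
    have h3 := mul_right_cancel h2
    have h4 := mul_left_cancel h3
    exact mul_left_cancel h4
  let σ : Equiv.Perm ↥N := Equiv.ofBijective f ⟨hf, Finite.injective_iff_surjective.mp hf⟩
  have hσ : ∀ n : ↥N, ((σ n : ↥N) : L) = k⁻¹ * (x * (k * (n : L)) * x⁻¹) := fun n => rfl
  have hpow : ∀ (j : ℕ) (n : ↥N), (((σ ^ j) n : ↥N) : L) = k⁻¹ * (x ^ j * (k * (n : L)) * (x ^ j)⁻¹) := by
    intro j
    induction j with
    | zero =>
      intro n
      simp
    | succ j ih =>
      intro n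
      rw [pow_succ', Equiv.Perm.mul_apply, hσ, ih, pow_succ']
      group
  have hσq : σ ^ q ^ 1 = 1 := by
    rw [pow_one]
    ext n
    rw [hpow, hx]
    simp
  have hcard : ¬ q ∣ Fintype.card ↥N := by
    rwa [← Nat.card_eq_fintype_card]
  obtain ⟨n, hn⟩ := Equiv.Perm.exists_fixed_point_of_prime hcard hσq
  refine ⟨n, n.2, ?_⟩
  have h1 : k⁻¹ * (x * (k * (n : L)) * x⁻¹) = n := by
    rw [← hσ, hn]
  calc x * (k * (n : L)) * x⁻¹ = k * (k⁻¹ * (x * (k * (n : L)) * x⁻¹)) := by group
    _ = k * n := by rw [h1]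

/-- Coprime action: the centraliser of `x` in `K / N` is the image of the centraliser in `K`. -/
theorem map_inf_centralizer_singleton (N K : Subgroup L) [hN : N.Normal] [Finite N] (hNK : N ≤ K)
    (q : ℕ) [hq : Fact q.Prime] (hqN : ¬ q ∣ Nat.card N) (x : L) (hx : x ^ q = 1) :
    K.map (QuotientGroup.mk' N) ⊓ Subgroup.centralizer {QuotientGroup.mk' N x} =
      (K ⊓ Subgroup.centralizer {x}).map (QuotientGroup.mk' N) := by
  apply le_antisymm
  · intro y hy
    obtain ⟨hyK, hyC⟩ := Subgroup.mem_inf.mp hy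
    obtain ⟨k, hkK, rfl⟩ := Subgroup.mem_map.mp hyK
    rw [Subgroup.mem_centralizer_singleton_iff] at hyC
    have h1 : x * k * x⁻¹ * k⁻¹ ∈ N := by
      rw [← QuotientGroup.eq_one_iff]
      have h2 : ((x * k * x⁻¹ * k⁻¹ : L) : L ⧸ N) =
          QuotientGroup.mk' N x * QuotientGroup.mk' N k * (QuotientGroup.mk' N x)⁻¹ *
            (QuotientGroup.mk' N k)⁻¹ := by
        simp
      rw [h2, ← hyC]
      group
    obtain ⟨n, hnN, hn⟩ := exists_mul_fixed N q hqN x k hx h1
    refine Subgroup.mem_map.mpr ⟨k * n, Subgroup.mem_inf.mpr ⟨K.mul_mem hkK (hNK hnN), ?_⟩, ?_⟩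
    · rw [Subgroup.mem_centralizer_singleton_iff]
      calc k * n * x = (x * (k * n) * x⁻¹) * x := by rw [hn]
        _ = x * (k * n) := by group
    · rw [map_mul]
      have : QuotientGroup.mk' N n = 1 := (QuotientGroup.eq_one_iff n).mpr hnN
      rw [this, mul_one]
  · intro y hy
    obtain ⟨k, hk, rfl⟩ := Subgroup.mem_map.mp hy
    obtain ⟨hkK, hkC⟩ := Subgroup.mem_inf.mp hk
    refine Subgroup.mem_inf.mpr ⟨Subgroup.mem_map.mpr ⟨k, hkK, rfl⟩, ?_⟩
    rw [Subgroup.mem_centralizer_singleton_iff] at hkC ⊢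
    rw [← map_mul, ← map_mul, hkC]

end Group

section Transport

variable {A B : Type*} [Group A] [Group B]

/-- An irreducible character which is constant on the kernel of a surjective homomorphism factors
through it. -/
theorem exists_irr_of_surjective [Finite A] (φ : A →* B) (hφ : Function.Surjective φ)
    {θ : A → ℂ} (hθ : IsIrrCharacter A θ) (hker : ∀ a ∈ φ.ker, θ a = θ 1) :
    ∃ θ' : B → ℂ, IsIrrCharacter B θ' ∧ ∀ a, θ' (φ a) = θ a := by
  obtain ⟨χ', hχ', hval⟩ := Cfsg.Agent.Lib.Helper77.isIrrCharacter_deflate φ.ker hθ hker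
  refine ⟨χ' ∘ (QuotientGroup.quotientKerEquivOfSurjective φ hφ).symm,
    Cfsg.Agent.Lib.Helper81.isIrrCharacter_comp_mulEquiv hχ' _, ?_⟩
  intro a
  have h1 : (QuotientGroup.quotientKerEquivOfSurjective φ hφ).symm (φ a) = (a : A ⧸ φ.ker) := by
    rw [MulEquiv.symm_apply_eq]
    rfl
  show χ' ((QuotientGroup.quotientKerEquivOfSurjective φ hφ).symm (φ a)) = θ a
  rw [h1, hval]

end Transport

section Quot

variable {L : Type*} [Group L] (K N W₁ : Subgroup L) [hK : K.Normal] [hN : N.Normal]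

/-- the image of `K` in `L ⧸ N` is normal -/
theorem map_mk_normal : (K.map (QuotientGroup.mk' N)).Normal :=
  hK.map (QuotientGroup.mk' N) (QuotientGroup.mk'_surjective N)

/-- the `W₁`-invariant irreducible characters of the image of `K` in `L ⧸ N` -/
def InvIrrQuot : Type _ :=
  {θ : IrrCharacter ↥(K.map (QuotientGroup.mk' N)) //
    ∀ x ∈ W₁.map (QuotientGroup.mk' N),
      (fun k : ↥(K.map (QuotientGroup.mk' N)) =>
        (θ : ↥(K.map (QuotientGroup.mk' N)) → ℂ)
          ⟨x * k * x⁻¹, (map_mk_normal K N).conj_mem (k : L ⧸ N) k.2 x⟩) = θ}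

/-- pull back to `K` -/
def invQuotPull (t : InvIrrQuot K N W₁) : ↥K → ℂ :=
  (t.1 : ↥(K.map (QuotientGroup.mk' N)) → ℂ) ∘ ((QuotientGroup.mk' N).subgroupMap K)

theorem invQuotPull_injective : Function.Injective (invQuotPull K N W₁) := by
  intro t t' h
  have h1 := ((QuotientGroup.mk' N).subgroupMap_surjective K).injective_comp_right h
  exact Subtype.ext (Subtype.ext h1)

theorem invQuot_range [Finite L] :
    Set.range (invQuotPull K N W₁) =
      {θ : ↥K → ℂ | IsIrrCharacter ↥K θ ∧ (∀ a : ↥K, (a : L) ∈ N → θ a = θ 1) ∧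
        ∀ x ∈ W₁, (fun k : ↥K => θ ⟨x * k * x⁻¹, hK.conj_mem (k : L) k.2 x⟩) = θ} := by
  have hsurj := (QuotientGroup.mk' N).subgroupMap_surjective K
  have hconj : ∀ (x : L) (k : ↥K),
      (QuotientGroup.mk' N).subgroupMap K ⟨x * k * x⁻¹, hK.conj_mem (k : L) k.2 x⟩ =
        ⟨QuotientGroup.mk' N x * ((QuotientGroup.mk' N).subgroupMap K k : L ⧸ N) *
          (QuotientGroup.mk' N x)⁻¹,
          (map_mk_normal K N).conj_mem _ ((QuotientGroup.mk' N).subgroupMap K k).2 _⟩ := by
    intro x k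
    apply Subtype.ext
    show QuotientGroup.mk' N (x * k * x⁻¹) = _
    rw [map_mul, map_mul, map_inv]
    rfl
  have hkerN : ∀ a : ↥K, (a : L) ∈ N → (QuotientGroup.mk' N).subgroupMap K a = 1 := by
    intro a ha
    apply Subtype.ext
    show QuotientGroup.mk' N (a : L) = 1
    exact (QuotientGroup.eq_one_iff (a : L)).mpr ha
  apply Set.eq_of_subset_of_subset
  · rintro _ ⟨t, rfl⟩
    refine ⟨Cfsg.Agent.Lib.Helper81.isIrrCharacter_comp_surjective t.1.2 _ hsurj, ?_, ?_⟩
    · intro a ha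
      show (t.1 : ↥(K.map (QuotientGroup.mk' N)) → ℂ) _ = (t.1 : ↥(K.map (QuotientGroup.mk' N)) → ℂ) _
      rw [hkerN a ha, map_one]
    · intro x hx
      funext k
      show (t.1 : ↥(K.map (QuotientGroup.mk' N)) → ℂ) _ = (t.1 : ↥(K.map (QuotientGroup.mk' N)) → ℂ) _
      rw [hconj x k]
      exact congrFun (t.2 (QuotientGroup.mk' N x) (Subgroup.mem_map_of_mem _ hx))
        ((QuotientGroup.mk' N).subgroupMap K k)
  · rintro θ ⟨hθ, hθN, hθW⟩
    haveI : Finite ↥K := inferInstance
    have hker : ∀ a ∈ ((QuotientGroup.mk' N).subgroupMap K).ker, θ a = θ 1 := by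
      intro a ha
      apply hθN
      rw [MonoidHom.mem_ker] at ha
      have h1 : QuotientGroup.mk' N (a : L) = 1 := congrArg Subtype.val ha
      exact (QuotientGroup.eq_one_iff (a : L)).mp h1
    obtain ⟨θ', hθ', hval⟩ := exists_irr_of_surjective _ hsurj hθ hker
    refine ⟨⟨⟨θ', hθ'⟩, ?_⟩, ?_⟩
    · rintro _ ⟨x, hx, rfl⟩
      funext kb
      obtain ⟨k, rfl⟩ := hsurj kb
      show θ' _ = θ' _
      rw [← hconj x k, hval, hval]
      exact congrFun (hθW x hx) k
    · funext k
      exact hval k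

end Quot

end Cfsg.Agent.Lib.Helper62.PF9G3
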