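import Mathlib
import Cfsg.Agent.Lib.Helper58.PFNineDefs
import Cfsg.Agent.Lib.Helper62.PFNineG3bA
import Cfsg.Agent.Lib.Helper78.CharMore
import Cfsg.Agent.S1513
import Cfsg.Agent.S1512

/-!
# PF section 9, module G3b (helper62, for helper58): the `W₁`-invariant members of `X(N)`

`ncard_W1Inv_Xset`: in the setting `Ctx K H U W₁ W₂ H₀ p q` of `Lib/Helper58/PFNineDefs.lean`, for a
normal subgroup `N ≤ K` of `L` with `N ∩ H = H₀`, exactly `p - 1` members of `X(N)` are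
`W₁`-invariant.  (S1513 in `L ⧸ N` gives `p` invariant irreducible characters of `K / N`;
Brauer's permutation lemma and S1512 in `L ⧸ H` show that the principal character is the only
invariant one with `H` in its kernel.)
-/

set_option autoImplicit false
set_option linter.style.haveILetI false
set_option linter.unusedSectionVars false

namespace Cfsg.Agent.Lib.Helper62.PF9G3

open Cfsg Cfsg.Agent.Lib.Helper58.PF9

universe u

variable {L : Type u} [Group L] [Fintype L] {K H U W₁ W₂ H₀ : Subgroup L} {p q : ℕ}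

theorem ctx_not_dvd_card (c : Ctx K H U W₁ W₂ H₀ p q) (N : Subgroup L) (hNK : N ≤ K) :
    ¬ q ∣ Nat.card N := by
  intro h
  have h1 : q ∣ Nat.card K := h.trans (Subgroup.card_dvd_of_le hNK)
  have h2 := (Nat.Prime.coprime_iff_not_dvd c.q_prime).mp c.coprime_q.symm
  exact h2 h1

theorem ctx_pow_eq_one (c : Ctx K H U W₁ W₂ H₀ p q) {x : L} (hx : x ∈ W₁) : x ^ q = 1 := by
  have h1 : (⟨x, hx⟩ : ↥W₁) ^ Nat.card ↥W₁ = 1 := pow_card_eq_one'
  rw [c.card_W₁] at h1
  have := congrArg Subtype.val h1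
  simpa using this

theorem ctx_exists_ne_one (c : Ctx K H U W₁ W₂ H₀ p q) : ∃ x ∈ W₁, x ≠ 1 := by
  have h1 : 1 < Nat.card ↥W₁ := by rw [c.card_W₁]; exact c.q_prime.one_lt
  haveI : Nontrivial ↥W₁ := Finite.one_lt_card_iff_nontrivial.mp h1
  obtain ⟨⟨x, hx⟩, hx1⟩ := exists_ne (1 : ↥W₁)
  exact ⟨x, hx, fun h => hx1 (Subtype.ext h)⟩

theorem ctx_mk_ne_one (c : Ctx K H U W₁ W₂ H₀ p q) (N : Subgroup L) [hN : N.Normal] (hNK : N ≤ K)
    {x : L} (hx : x ∈ W₁) (hx1 : x ≠ 1) : QuotientGroup.mk' N x ≠ 1 := by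
  intro h
  have h1 : x ∈ N := (QuotientGroup.eq_one_iff x).mp h
  have h2 : x ∈ K ⊓ W₁ := Subgroup.mem_inf.mpr ⟨hNK h1, hx⟩
  rw [c.KW_inf, Subgroup.mem_bot] at h2
  exact hx1 h2

/-- centralisers in the quotient -/
theorem ctx_quot_cent (c : Ctx K H U W₁ W₂ H₀ p q) (N : Subgroup L) [hN : N.Normal] (hNK : N ≤ K)
    {x : L} (hx : x ∈ W₁) (hx1 : x ≠ 1) :
    K.map (QuotientGroup.mk' N) ⊓ Subgroup.centralizer {QuotientGroup.mk' N x} =
      W₂.map (QuotientGroup.mk' N) := by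
  haveI : Fact q.Prime := ⟨c.q_prime⟩
  rw [map_inf_centralizer_singleton N K hNK q (ctx_not_dvd_card c N hNK) x (ctx_pow_eq_one c hx),
    c.cent x hx hx1]

theorem ctx_coprime_quot (c : Ctx K H U W₁ W₂ H₀ p q) (N : Subgroup L) [hN : N.Normal] :
    (Nat.card ↥(K.map (QuotientGroup.mk' N))).Coprime q :=
  Nat.Coprime.coprime_dvd_left (Subgroup.card_map_dvd K _) c.coprime_q

/-- S1513 in `L ⧸ N`. -/
theorem ctx_card_invIrrQuot (c : Ctx K H U W₁ W₂ H₀ p q) (N : Subgroup L) [hN : N.Normal]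
    (hNK : N ≤ K) (hW₂N : W₂.map (QuotientGroup.mk' N) ≠ ⊥) :
    haveI := c.K_normal
    Nat.card (InvIrrQuot K N W₁) = Nat.card ↥(W₂.map (QuotientGroup.mk' N)) := by
  classical
  haveI := c.K_normal
  letI : Fintype (L ⧸ N) := Fintype.ofFinite _
  have hsurj := QuotientGroup.mk'_surjective N
  have hKW₁ : K.map (QuotientGroup.mk' N) ⊓ W₁.map (QuotientGroup.mk' N) = ⊥ := by
    rw [eq_bot_iff]
    intro y hy
    obtain ⟨hyK, hyW⟩ := Subgroup.mem_inf.mp hy
    obtain ⟨k, hk, rfl⟩ := Subgroup.mem_map.mp hyK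
    obtain ⟨w, hw, hwk⟩ := Subgroup.mem_map.mp hyW
    rw [Subgroup.mem_bot]
    have h1 : k⁻¹ * w ∈ N := by
      rw [← QuotientGroup.eq_one_iff]
      show QuotientGroup.mk' N (k⁻¹ * w) = 1
      rw [map_mul, map_inv, hwk, inv_mul_cancel]
    have h2 : w ∈ K := by
      have := K.mul_mem hk (hNK h1)
      rwa [mul_inv_cancel_left] at this
    have h3 : w ∈ K ⊓ W₁ := Subgroup.mem_inf.mpr ⟨h2, hw⟩
    rw [c.KW_inf, Subgroup.mem_bot] at h3
    rw [← hwk, h3, map_one]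
  have hKW₁' : K.map (QuotientGroup.mk' N) ⊔ W₁.map (QuotientGroup.mk' N) = ⊤ := by
    rw [← Subgroup.map_sup, c.KW_sup, Subgroup.map_top_of_surjective _ hsurj]
  obtain ⟨x₀, hx₀, hx₀1⟩ := ctx_exists_ne_one c
  have hW₁ : W₁.map (QuotientGroup.mk' N) ≠ ⊥ := by
    intro h
    have h1 : QuotientGroup.mk' N x₀ ∈ W₁.map (QuotientGroup.mk' N) :=
      Subgroup.mem_map_of_mem _ hx₀
    rw [h, Subgroup.mem_bot] at h1
    exact ctx_mk_ne_one c N hNK hx₀ hx₀1 h1
  have hW₁c : IsCyclic ↥(W₁.map (QuotientGroup.mk' N)) := by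
    haveI : Fact (Nat.card ↥W₁).Prime := ⟨by rw [c.card_W₁]; exact c.q_prime⟩
    haveI : IsCyclic ↥W₁ := isCyclic_of_prime_card rfl
    exact isCyclic_of_surjective _ ((QuotientGroup.mk' N).subgroupMap_surjective W₁)
  have hcompl : Subgroup.IsComplement' (K.map (QuotientGroup.mk' N))
      (W₁.map (QuotientGroup.mk' N)) := by
    haveI := map_mk_normal K N
    apply Subgroup.isComplement'_of_disjoint_and_mul_eq_univ
    · rw [disjoint_iff]; exact hKW₁
    · rw [← Subgroup.normal_mul, hKW₁']; rfl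
  have hHall : Nat.Coprime (Nat.card ↥(W₁.map (QuotientGroup.mk' N)))
      (W₁.map (QuotientGroup.mk' N)).index := by
    rw [hcompl.index_eq_card]
    have h1 : Nat.card ↥(W₁.map (QuotientGroup.mk' N)) ∣ q := by
      rw [← c.card_W₁]; exact Subgroup.card_map_dvd W₁ _
    exact Nat.Coprime.coprime_dvd_left h1 (ctx_coprime_quot c N).symm
  have hW₂c : IsCyclic ↥(W₂.map (QuotientGroup.mk' N)) := by
    haveI := c.W₂_cyclic
    exact isCyclic_of_surjective _ ((QuotientGroup.mk' N).subgroupMap_surjective W₂)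
  have hHK : H ≤ K := by rw [← c.HU_sup]; exact le_sup_left
  have hW₂K : W₂.map (QuotientGroup.mk' N) ≤ K.map (QuotientGroup.mk' N) :=
    Subgroup.map_mono (c.W₂_le.trans hHK)
  have hC : ∀ x ∈ W₁.map (QuotientGroup.mk' N), x ≠ 1 →
      K.map (QuotientGroup.mk' N) ⊓ Subgroup.centralizer ({x} : Set (L ⧸ N)) =
        W₂.map (QuotientGroup.mk' N) := by
    rintro _ ⟨x, hx, rfl⟩ hx1
    have hx1' : x ≠ 1 := by
      rintro rfl
      exact hx1 (map_one _)
    exact ctx_quot_cent c N hNK hx hx1'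
  have hodd : Odd (Nat.card ↥(W₁.map (QuotientGroup.mk' N) ⊔ W₂.map (QuotientGroup.mk' N))) := by
    have h1 := Subgroup.card_subgroup_dvd_card
      (W₁.map (QuotientGroup.mk' N) ⊔ W₂.map (QuotientGroup.mk' N))
    have h2 : Nat.card (L ⧸ N) ∣ Nat.card L := Subgroup.card_quotient_dvd_card N
    exact c.odd.of_dvd_nat (h1.trans h2)
  exact (@Cfsg.Agent.S1513.result (L ⧸ N) _ _ (K.map (QuotientGroup.mk' N))
    (W₁.map (QuotientGroup.mk' N)) (W₂.map (QuotientGroup.mk' N)) (map_mk_normal K N)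
    hKW₁ hKW₁' hW₁ hW₁c hHall hW₂N hW₂c hW₂K hC hodd).2.1

/-- Brauer + S1512 in `L ⧸ N` when `W₂ ≤ N`: at most one invariant irreducible character. -/
theorem ctx_invIrrQuot_subsingleton (c : Ctx K H U W₁ W₂ H₀ p q) (N : Subgroup L) [hN : N.Normal]
    (hNK : N ≤ K) (hW₂N : W₂ ≤ N) :
    haveI := c.K_normal
    ∀ t t' : InvIrrQuot K N W₁, t = t' := by
  classical
  haveI := c.K_normal
  haveI hKb := map_mk_normal K N
  obtain ⟨x, hx, hx1⟩ := ctx_exists_ne_one c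
  have hxb1 : QuotientGroup.mk' N x ≠ 1 := ctx_mk_ne_one c N hNK hx hx1
  have hxq : (QuotientGroup.mk' N x) ^ q = 1 := by
    rw [← map_pow, ctx_pow_eq_one c hx, map_one]
  have hcop : Nat.Coprime (orderOf (QuotientGroup.mk' N x))
      (Nat.card ↥(K.map (QuotientGroup.mk' N))) :=
    Nat.Coprime.coprime_dvd_left (orderOf_dvd_of_pow_eq_one hxq) (ctx_coprime_quot c N).symm
  have hW₂b : W₂.map (QuotientGroup.mk' N) = ⊥ := by
    rw [Subgroup.map_eq_bot_iff, QuotientGroup.ker_mk']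
    exact hW₂N
  have hC : ∀ y ∈ Subgroup.zpowers (QuotientGroup.mk' N x), y ≠ 1 →
      K.map (QuotientGroup.mk' N) ⊓ Subgroup.centralizer ({y} : Set (L ⧸ N)) = ⊥ := by
    intro y hy hy1
    obtain ⟨j, rfl⟩ := Subgroup.mem_zpowers_iff.mp hy
    have h1 : (QuotientGroup.mk' N x) ^ j = QuotientGroup.mk' N (x ^ j) := (map_zpow _ x j).symm
    rw [h1] at hy1 ⊢
    have hxj1 : x ^ j ≠ 1 := by
      intro h
      rw [h, map_one] at hy1
      exact hy1 rfl
    rw [ctx_quot_cent c N hNK (W₁.zpow_mem hx j) hxj1, hW₂b]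
  have hle := Cfsg.Agent.S1512.result (K.map (QuotientGroup.mk' N)) ⊥ (QuotientGroup.mk' N x)
    hxb1 hcop hC
  rw [Subgroup.card_bot, ← Cfsg.Agent.S1513.brauer_perm] at hle
  haveI := Finite.card_le_one_iff_subsingleton.mp hle
  intro t t'
  have h1 : (⟨t.1, t.2 _ (Subgroup.mem_map_of_mem _ hx)⟩ :
      {χ : IrrCharacter ↥(K.map (QuotientGroup.mk' N)) //
        Cfsg.Agent.Lib.Helper75.conjFun (K.map (QuotientGroup.mk' N)) (QuotientGroup.mk' N x) χ.1
          = χ.1}) = ⟨t'.1, t'.2 _ (Subgroup.mem_map_of_mem _ hx)⟩ := Subsingleton.elim _ _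
  have h2 : (t.1 : IrrCharacter ↥(K.map (QuotientGroup.mk' N))) = t'.1 :=
    congrArg (fun s : {χ : IrrCharacter ↥(K.map (QuotientGroup.mk' N)) //
        Cfsg.Agent.Lib.Helper75.conjFun (K.map (QuotientGroup.mk' N)) (QuotientGroup.mk' N x) χ.1
          = χ.1} => s.1) h1
  exact Subtype.ext h2

/-- **[G3b]** exactly `p - 1` members of `X(N)` are `W₁`-invariant. -/
theorem ncard_W1Inv_Xset (c : Ctx K H U W₁ W₂ H₀ p q) (N : Subgroup L) (hN : N.Normal)
    (hNK : N ≤ K) (hNH : N ⊓ H = H₀) :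
    {θ : ↥K → ℂ | θ ∈ Xset K H N ∧ IsW1Inv K W₁ c.K_normal θ}.ncard = p - 1 := by
  classical
  haveI := c.K_normal
  haveI := hN
  haveI := c.H_normal
  have hHK : H ≤ K := by rw [← c.HU_sup]; exact le_sup_left
  -- the order of the image of `W₂`
  have hcardW₂ : Nat.card ↥(W₂.map (QuotientGroup.mk' N)) = p := by
    rw [← Subgroup.relIndex_ker, QuotientGroup.ker_mk', ← Subgroup.inf_relIndex_right,
      ← c.relIndex_W₂]
    congr 1
    rw [← hNH, inf_assoc, inf_eq_right.mpr c.W₂_le]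
  have hW₂N : W₂.map (QuotientGroup.mk' N) ≠ ⊥ := by
    intro h
    rw [h, Subgroup.card_bot] at hcardW₂
    exact c.p_prime.one_lt.ne hcardW₂
  -- the set of invariant characters with `N` in the kernel
  have hA := invQuot_range K N W₁
  have hAcard : (Set.range (invQuotPull K N W₁)).ncard = p := by
    rw [Set.ncard_range_of_injective (invQuotPull_injective K N W₁), ctx_card_invIrrQuot c N hNK hW₂N,
      hcardW₂]
  -- the principal character
  have hone : IsIrrCharacter ↥K (fun _ : ↥K => (1 : ℂ)) :=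
    Cfsg.Agent.Lib.Helper78.isIrrCharacter_one
  have hone_mem : ∀ N' : Subgroup L, (fun _ : ↥K => (1 : ℂ)) ∈
      {θ : ↥K → ℂ | IsIrrCharacter ↥K θ ∧ (∀ a : ↥K, (a : L) ∈ N' → θ a = θ 1) ∧
        ∀ x ∈ W₁, (fun k : ↥K => θ ⟨x * k * x⁻¹, c.K_normal.conj_mem (k : L) k.2 x⟩) = θ} :=
    fun N' => ⟨hone, fun _ _ => rfl, fun _ _ => rfl⟩
  -- the invariant characters with `H` in the kernel
  have hH := invQuot_range K H W₁
  have huniq : ∀ θ : ↥K → ℂ, IsIrrCharacter ↥K θ → (∀ a : ↥K, (a : L) ∈ H → θ a = θ 1) →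
      (∀ x ∈ W₁, (fun k : ↥K => θ ⟨x * k * x⁻¹, c.K_normal.conj_mem (k : L) k.2 x⟩) = θ) →
      θ = fun _ => 1 := by
    intro θ h1 h2 h3
    have m1 : θ ∈ Set.range (invQuotPull K H W₁) := by rw [hH]; exact ⟨h1, h2, h3⟩
    have m2 : (fun _ : ↥K => (1 : ℂ)) ∈ Set.range (invQuotPull K H W₁) := by
      rw [hH]; exact hone_mem H
    obtain ⟨t, rfl⟩ := m1
    obtain ⟨t', ht'⟩ := m2
    rw [← ht', ctx_invIrrQuot_subsingleton c H hHK c.W₂_le t t']
  -- the set in question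
  have hset : {θ : ↥K → ℂ | θ ∈ Xset K H N ∧ IsW1Inv K W₁ c.K_normal θ} =
      Set.range (invQuotPull K N W₁) \ {fun _ => 1} := by
    rw [hA]
    ext θ
    constructor
    · rintro ⟨⟨h1, h2, h, hhH, hne⟩, h3⟩
      refine ⟨⟨h1, h2, h3⟩, ?_⟩
      intro h4
      rw [Set.mem_singleton_iff] at h4
      rw [h4] at hne
      exact hne rfl
    · rintro ⟨⟨h1, h2, h3⟩, h4⟩
      refine ⟨⟨h1, h2, ?_⟩, h3⟩
      by_contra hcon
      push Not at hcon
      apply h4
      rw [Set.mem_singleton_iff]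
      exact huniq θ h1 (fun a ha => hcon a ha) h3
  rw [hset, Set.ncard_sdiff_singleton_of_mem, hAcard]
  rw [hA]
  exact hone_mem N

end Cfsg.Agent.Lib.Helper62.PF9G3
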