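/-
helper62: the dual Hall–Higman Lemma 1.2.3: in a finite `p`-solvable group with `O_p(G) = 1`,
`C_G(O_{p'}(G)) ≤ O_{p'}(G)`.  (Adapted from `Cfsg.Agent.Lib.Helper76.centralizer_pCore_le`.)
-/
import Mathlib
import Cfsg.Prelude.Def_Local
import Cfsg.Agent.Lib.Helper76.PCore
import Cfsg.Agent.Lib.Helper97.Cores
import Cfsg.Agent.Lib.Helper55.Cores

set_option autoImplicit false
open Cfsg

namespace Cfsg.Agent.Lib.Helper62

section hhdual

variable {G : Type*} [Group G]

/-- Key step: a normal subgroup `A` with a `G`-normal central `p'`-subgroup `B` of `p`-power index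
equals `B`, if `G` has no nontrivial normal `p`-subgroups. -/
theorem le_of_central_ppow_relIndex [Finite G] (p : ℕ) [Fact p.Prime]
    (hcore : ∀ N : Subgroup G, N.Normal → IsPGroup p N → N = ⊥)
    (A B : Subgroup G) (hA : A.Normal) (hBA : B ≤ A) (hB : B.Normal)
    (hBp : (Nat.card B).Coprime p)
    (hcomm : ∀ b ∈ B, ∀ a ∈ A, a * b = b * a)
    (j : ℕ) (hidx : B.relIndex A = p ^ j) : A ≤ B := by
  have hB'n : (B.subgroupOf A).Normal := inferInstance
  have hB'card : Nat.card (B.subgroupOf A) = Nat.card B :=
    Nat.card_congr (Subgroup.subgroupOfEquivOfLe hBA).toEquiv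
  have hcop : Nat.Coprime (Nat.card (B.subgroupOf A)) (B.subgroupOf A).index := by
    rw [hB'card]
    have : (B.subgroupOf A).index = p ^ j := hidx
    rw [this]
    exact Nat.Coprime.pow_right j hBp
  obtain ⟨M', hM'⟩ := Subgroup.exists_right_complement'_of_coprime hcop
  set M : Subgroup G := M'.map A.subtype with hM
  have hMA : M ≤ A := Subgroup.map_subtype_le M'
  have hMcard : Nat.card M = B.relIndex A := by
    rw [hM, Subgroup.card_subtype]
    exact hM'.symm.index_eq_card.symm
  have hMp : IsPGroup p M := IsPGroup.of_card (hMcard.trans hidx)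
  -- every `p`-element of `A` lies in `M`
  have hmem : ∀ y ∈ A, (∃ k : ℕ, y ^ p ^ k = 1) → y ∈ M := by
    intro y hy hyo
    obtain ⟨k, hk⟩ := hyo
    obtain ⟨⟨⟨b, hb⟩, ⟨m, hm⟩⟩, hbm, -⟩ := hM'.existsUnique ⟨y, hy⟩
    simp only at hbm
    have hbB : (b : G) ∈ B := by simpa [Subgroup.mem_subgroupOf] using hb
    have hmA : (m : G) ∈ A := m.2
    have hyeq : y = (b : G) * (m : G) := by
      have := congrArg Subtype.val hbm
      simpa using this.symm
    have hc : Commute (b : G) (m : G) := (hcomm _ hbB _ hmA).symm
    have h1 : (b : G) ^ p ^ k * (m : G) ^ p ^ k = 1 := by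
      rw [← hc.mul_pow, ← hyeq, hk]
    have hbn : (b ^ p ^ k : A) ∈ B.subgroupOf A := Subgroup.pow_mem _ hb _
    have hbn' : (b ^ p ^ k : A) ∈ M' := by
      have : (b ^ p ^ k : A) = (m ^ p ^ k)⁻¹ := by
        apply Subtype.ext
        have := eq_inv_of_mul_eq_one_left h1
        simpa using this
      rw [this]
      exact M'.inv_mem (M'.pow_mem hm _)
    have hb1 : (b ^ p ^ k : A) = 1 := by
      have := hM'.disjoint.le_bot ⟨hbn, hbn'⟩
      simpa using this
    have hb1' : (b : G) ^ p ^ k = 1 := by
      have := congrArg Subtype.val hb1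
      simpa using this
    have hbcard : (b : G) ^ Nat.card B = 1 := by
      have h := pow_card_eq_one' (G := B) (x := ⟨(b : G), hbB⟩)
      have h' := congrArg Subtype.val h
      rw [Subgroup.coe_pow] at h'
      exact h'
    have hbone : (b : G) = 1 :=
      Cfsg.Agent.Lib.Helper76.eq_one_of_pow_eq_one_of_coprime p _ _ k hBp hbcard hb1'
    rw [hyeq, hbone, one_mul]
    exact ⟨m, hm, rfl⟩
  have hMn : M.Normal := by
    constructor
    intro x hx g
    apply hmem
    · exact hA.conj_mem x (hMA hx) g
    · obtain ⟨k, hk⟩ := hMp ⟨x, hx⟩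
      refine ⟨k, ?_⟩
      have hxk : x ^ p ^ k = 1 := by
        have := congrArg Subtype.val hk
        simpa using this
      rw [conj_pow, hxk]; simp
  have hMbot : M = ⊥ := hcore M hMn hMp
  have hidx1 : B.relIndex A = 1 := by
    rw [← hMcard, hMbot]; simp
  exact Subgroup.relIndex_eq_one.mp hidx1

/-- **Dual Hall–Higman Lemma 1.2.3**: in a finite `p`-solvable group with trivial `p`-core, the
centralizer of `O_{p'}(G)` is contained in `O_{p'}(G)`. -/
theorem centralizer_pPrimeCore_le [Finite G] (p : ℕ) [Fact p.Prime] (hsolv : IsPSolvable p G)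
    (hcore : ∀ N : Subgroup G, N.Normal → IsPGroup p N → N = ⊥) :
    Subgroup.centralizer (pPrimeCore p G : Set G) ≤ pPrimeCore p G := by
  have hRn : (pPrimeCore p G).Normal := Cfsg.Agent.Lib.Helper55.pPrimeCore_normal' p
  have hCn : (Subgroup.centralizer (pPrimeCore p G : Set G)).Normal := Subgroup.normal_centralizer
  have hRcop : (Nat.card (pPrimeCore p G)).Coprime p := Cfsg.Agent.Lib.Helper97.card_pPrimeCore_coprime p
  set R := pPrimeCore p G with hR
  set C := Subgroup.centralizer (R : Set G) with hC
  obtain ⟨n, H, h0, hlast, hmono, hnorm, hstep⟩ := hsolv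
  have key : ∀ i : Fin (n + 1), C ⊓ H i ≤ R := by
    intro i
    induction i using Fin.induction with
    | zero => rw [h0]; simp
    | succ i ih =>
      have hle : H i.castSucc ≤ H i.succ := hmono (Fin.castSucc_lt_succ (i := i)).le
      set A := C ⊓ H i.succ with hAdef
      set B := C ⊓ H i.castSucc with hBdef
      have hAn : A.Normal := by
        have := hnorm i.succ
        exact inferInstance
      have hBn : B.Normal := by
        have := hnorm i.castSucc
        exact inferInstance
      have hBA : B ≤ A := inf_le_inf_left C hle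
      have hBcop : (Nat.card B).Coprime p :=
        Nat.Coprime.coprime_dvd_left (Subgroup.card_dvd_of_le ih) hRcop
      have hdvd : B.relIndex A ∣ (H i.castSucc).relIndex (H i.succ) := by
        have h1 : B = A ⊓ H i.castSucc := by
          rw [hBdef, hAdef, inf_assoc, inf_eq_right.mpr hle]
        rw [h1, Subgroup.inf_relIndex_left]
        have := hnorm i.castSucc
        have h2 : (H i.castSucc).relIndex A = (H i.castSucc).relIndex (H i.castSucc ⊔ A) := by
          rw [Subgroup.relIndex_sup_left]
        rw [h2]
        have h3 : H i.castSucc ⊔ A ≤ H i.succ := sup_le hle inf_le_right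
        have h4 := Subgroup.relIndex_mul_relIndex (H i.castSucc) (H i.castSucc ⊔ A) (H i.succ)
          le_sup_left h3
        exact Dvd.intro _ h4
      have hcardA : Nat.card B * B.relIndex A = Nat.card A := by
        have h1 : Nat.card (B.subgroupOf A) * B.relIndex A = Nat.card A :=
          Subgroup.card_mul_index _
        have h2 : Nat.card (B.subgroupOf A) = Nat.card B :=
          Nat.card_congr (Subgroup.subgroupOfEquivOfLe hBA).toEquiv
        rw [h2] at h1
        exact h1
      rcases hstep i with ⟨m, hm⟩ | hc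
      · -- `p`-power case
        rw [hm] at hdvd
        obtain ⟨j, _, hj⟩ := (Nat.dvd_prime_pow Fact.out).mp hdvd
        have hcomm : ∀ b ∈ B, ∀ a ∈ A, a * b = b * a := by
          intro b hb a ha
          have haC : a ∈ C := ha.1
          have hbR : b ∈ R := ih hb
          exact (Subgroup.mem_centralizer_iff.mp haC b hbR).symm
        exact (le_of_central_ppow_relIndex p hcore A B hAn hBA hBn hBcop hcomm j hj).trans ih
      · -- `p'` case: `A` is a normal `p'`-subgroup
        have hcop : (B.relIndex A).Coprime p := Nat.Coprime.coprime_dvd_left hdvd hc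
        have hAcop : (Nat.card A).Coprime p := by
          rw [← hcardA]
          exact Nat.Coprime.mul_left hBcop hcop
        exact Cfsg.Agent.Lib.Helper97.le_pPrimeCore_of_normal hAn hAcop
  have := key (Fin.last n)
  rw [hlast, inf_top_eq] at this
  exact this

end hhdual

end Cfsg.Agent.Lib.Helper62
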