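/-
helper62 shared library: π-numbers and the Prelude predicate `Cfsg.IsPiHallOf`
(Def_OddOrderLocal), with Hall's theorems for solvable subgroups in relative form
(built on helper1's `hall_exists`, `hall_conj`, `hall_dom`).
All declarations live in `Cfsg.Agent.Lib.Helper62`.
-/
import Mathlib
import Cfsg.Prelude.Def_OddOrderLocal
import Cfsg.Agent.Lib.Helper1.HallDom
import Cfsg.Agent.Lib.Helper54.Coprime

set_option autoImplicit false

namespace Cfsg.Agent.Lib.Helper62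

open Cfsg Pointwise

/-- `n` is a `π`-number. -/
def IsPiNum (π : Set ℕ) (n : ℕ) : Prop := ∀ p : ℕ, p.Prime → p ∣ n → p ∈ π

/-- `n` is a `π'`-number. -/
def IsPiPrimeNum (π : Set ℕ) (n : ℕ) : Prop := ∀ p : ℕ, p.Prime → p ∈ π → ¬ p ∣ n

section Numbers

variable {π : Set ℕ} {m n m' n' : ℕ}

theorem IsPiNum.of_dvd (h : IsPiNum π n) (hd : m ∣ n) : IsPiNum π m :=
  fun p hp hpm => h p hp (hpm.trans hd)

theorem IsPiPrimeNum.of_dvd (h : IsPiPrimeNum π n) (hd : m ∣ n) : IsPiPrimeNum π m :=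
  fun p hp hpπ hpm => h p hp hpπ (hpm.trans hd)

theorem IsPiNum.mul (hm : IsPiNum π m) (hn : IsPiNum π n) : IsPiNum π (m * n) :=
  fun p hp h => (hp.dvd_mul.mp h).elim (hm p hp) (hn p hp)

theorem IsPiPrimeNum.mul (hm : IsPiPrimeNum π m) (hn : IsPiPrimeNum π n) :
    IsPiPrimeNum π (m * n) :=
  fun p hp hpπ h => (hp.dvd_mul.mp h).elim (hm p hp hpπ) (hn p hp hpπ)

theorem isPiNum_one : IsPiNum π 1 :=
  fun _ hp h => absurd (Nat.dvd_one.mp h) hp.one_lt.ne'

theorem isPiPrimeNum_one : IsPiPrimeNum π 1 :=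
  fun _ hp _ h => hp.one_lt.ne' (Nat.dvd_one.mp h)

theorem coprime_of_pi (hm : IsPiNum π m) (hn : IsPiPrimeNum π n) : m.Coprime n :=
  Nat.coprime_of_dvd fun k hk hkm hkn => hn k hk (hm k hk hkm) hkn

/-- Uniqueness of the `π`-part. -/
theorem pi_part_unique (h : m * n = m' * n') (hm : IsPiNum π m) (hn : IsPiPrimeNum π n)
    (hm' : IsPiNum π m') (hn' : IsPiPrimeNum π n') : m = m' := by
  apply Nat.dvd_antisymm
  · have : m ∣ m' * n' := ⟨n, h.symm⟩
    exact (coprime_of_pi hm hn').dvd_of_dvd_mul_right this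
  · have : m' ∣ m * n := ⟨n', h⟩
    exact (coprime_of_pi hm' hn).dvd_of_dvd_mul_right this

/-- Existence of the `π`-decomposition of a positive integer. -/
theorem exists_pi_decomp (π : Set ℕ) :
    ∀ N : ℕ, 0 < N → ∃ m n : ℕ, N = m * n ∧ IsPiNum π m ∧ IsPiPrimeNum π n := by
  intro N
  induction N using Nat.strong_induction_on with
  | _ N ih =>
    intro hN
    by_cases h1 : N = 1
    · exact ⟨1, 1, by simp [h1], isPiNum_one, isPiPrimeNum_one⟩
    obtain ⟨q, hq, hqN⟩ := Nat.exists_prime_and_dvd h1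
    obtain ⟨N', rfl⟩ := hqN
    have hN' : 0 < N' := Nat.pos_of_mul_pos_left hN
    have hlt : N' < q * N' := by nlinarith [hq.two_le]
    obtain ⟨m, n, hmn, hm, hn⟩ := ih N' hlt hN'
    by_cases hqπ : q ∈ π
    · refine ⟨q * m, n, by rw [hmn]; ring, ?_, hn⟩
      intro p hp h
      rcases hp.dvd_mul.mp h with h | h
      · rw [(Nat.prime_dvd_prime_iff_eq hp hq).mp h]; exact hqπ
      · exact hm p hp h
    · refine ⟨m, q * n, by rw [hmn]; ring, hm, ?_⟩
      intro p hp hpπ h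
      rcases hp.dvd_mul.mp h with h | h
      · rw [(Nat.prime_dvd_prime_iff_eq hp hq).mp h] at hpπ; exact hqπ hpπ
      · exact hn p hp hpπ h

end Numbers

section Hall

variable {G : Type*} [Group G] {π : Set ℕ} {H H₀ H₁ H₂ M U : Subgroup G}

theorem isPiHallOf_iff : IsPiHallOf π H M ↔
    H ≤ M ∧ IsPiNum π (Nat.card H) ∧ IsPiPrimeNum π (H.relIndex M) := Iff.rfl

theorem isPiHallOf_card_mul (h : IsPiHallOf π H M) :
    Nat.card H * H.relIndex M = Nat.card M :=
  Cfsg.Agent.Lib.Helper54.card_mul_relIndex h.1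

theorem card_eq_of_isPiHallOf (h₁ : IsPiHallOf π H₁ M) (h₂ : IsPiHallOf π H₂ M) :
    Nat.card H₁ = Nat.card H₂ :=
  pi_part_unique (by rw [(isPiHallOf_card_mul h₁), (isPiHallOf_card_mul h₂)]) h₁.2.1 h₁.2.2 h₂.2.1 h₂.2.2

theorem isPiHallOf_of_card_eq [Finite G] (h₀ : IsPiHallOf π H₀ M) (hle : H ≤ M)
    (hc : Nat.card H = Nat.card H₀) : IsPiHallOf π H M := by
  refine ⟨hle, by rw [hc]; exact h₀.2.1, ?_⟩
  have h1 := Cfsg.Agent.Lib.Helper54.card_mul_relIndex hle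
  have h2 := Cfsg.Agent.Lib.Helper54.card_mul_relIndex h₀.1
  have : H.relIndex M = H₀.relIndex M := by
    rw [hc] at h1
    exact Nat.eq_of_mul_eq_mul_left Nat.card_pos (h1.trans h2.symm)
  rw [this]; exact h₀.2.2

theorem isPiHallOf_of_card_mul [Finite G] (hle : H ≤ M) {m n : ℕ} (hM : Nat.card M = m * n)
    (hm : IsPiNum π m) (hn : IsPiPrimeNum π n) (hH : Nat.card H = m) : IsPiHallOf π H M := by
  refine ⟨hle, by rw [hH]; exact hm, ?_⟩
  have h1 := Cfsg.Agent.Lib.Helper54.card_mul_relIndex hle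
  rw [hH, hM] at h1
  have hmpos : 0 < m := by rw [← hH]; exact Nat.card_pos
  rw [Nat.eq_of_mul_eq_mul_left hmpos h1]; exact hn

theorem isPiHallOf_card_eq_of_card_mul (h : IsPiHallOf π H M) {m n : ℕ}
    (hM : Nat.card M = m * n) (hm : IsPiNum π m) (hn : IsPiPrimeNum π n) : Nat.card H = m :=
  pi_part_unique ((isPiHallOf_card_mul h).trans hM) h.2.1 h.2.2 hm hn

/-- Conjugation by an element normalizing `M` preserves Hall `π`-subgroups of `M`. -/
theorem isPiHallOf_conj_smul [Finite G] (h : IsPiHallOf π H M) {g : G}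
    (hg : g ∈ Subgroup.normalizer (M : Set G)) : IsPiHallOf π (MulAut.conj g • H) M := by
  have hle : MulAut.conj g • H ≤ M := by
    have := Cfsg.Agent.Lib.Helper54.conj_smul_le_conj_smul (g := g) h.1
    rwa [Cfsg.Agent.Lib.Helper54.mem_normalizer_iff_conj_smul.mp hg] at this
  exact isPiHallOf_of_card_eq h hle (Cfsg.Agent.Lib.Helper54.card_conj_smul g H)

/-- Hall: existence, for a solvable subgroup `M`. -/
theorem exists_isPiHallOf [Finite G] (π : Set ℕ) (M : Subgroup G) (hs : Group.IsSolvable M) :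
    ∃ H : Subgroup G, IsPiHallOf π H M := by
  obtain ⟨m, n, hmn, hm, hn⟩ := exists_pi_decomp π (Nat.card M) Nat.card_pos
  obtain ⟨H', hH'⟩ := Cfsg.Agent.Lib.Helper1.hall_exists (G := ↥M) m n hmn (coprime_of_pi hm hn)
  refine ⟨H'.map M.subtype, isPiHallOf_of_card_mul (Subgroup.map_subtype_le _) hmn hm hn ?_⟩
  rw [Subgroup.card_map_of_injective M.subtype_injective, hH']

/-- Hall: conjugacy, for a solvable subgroup `M`. -/
theorem isPiHallOf_conj [Finite G] (hs : Group.IsSolvable M) (h₁ : IsPiHallOf π H₁ M)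
    (h₂ : IsPiHallOf π H₂ M) : ∃ k ∈ M, MulAut.conj k • H₁ = H₂ := by
  have hmn : Nat.card M = Nat.card H₁ * H₁.relIndex M := (isPiHallOf_card_mul h₁).symm
  obtain ⟨g, hg⟩ := Cfsg.Agent.Lib.Helper1.hall_conj (G := ↥M) _ _ hmn
    (coprime_of_pi h₁.2.1 h₁.2.2) (H₁.subgroupOf M) (H₂.subgroupOf M)
    (Cfsg.Agent.Lib.Helper1.card_subgroupOf_of_le h₁.1)
    ((Cfsg.Agent.Lib.Helper1.card_subgroupOf_of_le h₂.1).trans (card_eq_of_isPiHallOf h₂ h₁))
  exact ⟨g, g.2, Cfsg.Agent.Lib.Helper1.conj_smul_eq_of_subgroupOf h₁.1 h₂.1 g hg⟩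

/-- Hall: dominance, for a solvable subgroup `M`. -/
theorem isPiHallOf_dom [Finite G] (hs : Group.IsSolvable M) (hU : U ≤ M)
    (hUπ : IsPiNum π (Nat.card U)) : ∃ H : Subgroup G, IsPiHallOf π H M ∧ U ≤ H := by
  obtain ⟨m, n, hmn, hm, hn⟩ := exists_pi_decomp π (Nat.card M) Nat.card_pos
  obtain ⟨H', hH', hle⟩ := Cfsg.Agent.Lib.Helper1.hall_dom (G := ↥M) m n hmn
    (coprime_of_pi hm hn) (U.subgroupOf M)
    (by rw [Cfsg.Agent.Lib.Helper1.card_subgroupOf_of_le hU]; exact coprime_of_pi hUπ hn)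
  refine ⟨H'.map M.subtype, isPiHallOf_of_card_mul (Subgroup.map_subtype_le _) hmn hm hn ?_, ?_⟩
  · rw [Subgroup.card_map_of_injective M.subtype_injective, hH']
  · have := Subgroup.map_mono (f := M.subtype) hle
    rwa [Subgroup.map_subgroupOf_eq_of_le hU] at this

end Hall

end Cfsg.Agent.Lib.Helper62
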