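import Mathlib
import Cfsg.Agent.S1545
import Cfsg.Agent.Lib.Helper1.FrobFixedB

/-!
helper62 shared library (PF section 9, module N3, abstract part A).

Preimages of subgroups of `N_X(N)/N` (`pre`), and the Frobenius-Wielandt fixed point formula
`S1545` applied in the quotient `N_X(H₀)/H₀`: if the Frobenius group `UE` acts coprimely on the
solvable group `H`, `H₀ ≤ H` is normal and `UE`-invariant, `C_H(E) = W` and `C_H(U) ≤ H₀`, then
`|H/H₀| = |W H₀/H₀| ^ |E|` and `C_{H/H₀}(U) = 1`.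
-/

set_option autoImplicit false

namespace Cfsg.Agent.Lib.Helper62.PF9

open Cfsg.Agent.Lib.Helper1.FrobFixed

section Pre

variable {X : Type*} [Group X] (N : Subgroup X)

/-- the preimage in `X` of a subgroup of `N_X(N)/N` -/
def pre (K : Subgroup (QG N)) : Subgroup X :=
  (K.comap (qmap N)).map (Subgroup.normalizer (N : Set X)).subtype

variable {N}

theorem mem_pre {K : Subgroup (QG N)} {g : X} :
    g ∈ pre N K ↔ ∃ hg : g ∈ Subgroup.normalizer (N : Set X), qmap N ⟨g, hg⟩ ∈ K := by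
  constructor
  · rintro ⟨x, hx, rfl⟩
    exact ⟨x.2, hx⟩
  · rintro ⟨hg, h⟩
    exact ⟨⟨g, hg⟩, h, rfl⟩

theorem le_pre (K : Subgroup (QG N)) : N ≤ pre N K := by
  intro g hg
  refine mem_pre.mpr ⟨Subgroup.le_normalizer hg, ?_⟩
  have : qmap N ⟨g, Subgroup.le_normalizer hg⟩ = 1 := qmap_eq_one_iff.mpr hg
  rw [this]
  exact K.one_mem

theorem pre_le_of_le_img {K : Subgroup (QG N)} {H : Subgroup X} (hNH : N ≤ H)
    (hK : K ≤ img N H) : pre N K ≤ H := by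
  intro g hg
  obtain ⟨hgn, hgK⟩ := mem_pre.mp hg
  obtain ⟨h, hh, hhn, heq⟩ := mem_img.mp (hK hgK)
  rw [qmap_eq_iff] at heq
  have h3 : h⁻¹ * g ∈ N := heq
  have : g = h * (h⁻¹ * g) := by group
  rw [this]
  exact H.mul_mem hh (hNH h3)

theorem normalizer_pre {K : Subgroup (QG N)} {T : Subgroup X}
    (hT : T ≤ Subgroup.normalizer (N : Set X))
    (hinv : ∀ t ∈ img N T, ∀ y ∈ K, t * y * t⁻¹ ∈ K) :
    T ≤ Subgroup.normalizer (pre N K : Set X) := by
  have key : ∀ t ∈ T, ∀ g ∈ pre N K, t * g * t⁻¹ ∈ pre N K := by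
    intro t ht g hg
    obtain ⟨hgn, hgK⟩ := mem_pre.mp hg
    have htn := hT ht
    refine mem_pre.mpr ⟨(Subgroup.normalizer (N : Set X)).mul_mem
      ((Subgroup.normalizer (N : Set X)).mul_mem htn hgn)
      ((Subgroup.normalizer (N : Set X)).inv_mem htn), ?_⟩
    have h1 := hinv (qmap N ⟨t, htn⟩) (mem_img.mpr ⟨t, ht, htn, rfl⟩) _ hgK
    rw [← map_inv, ← map_mul, ← map_mul] at h1
    exact h1
  intro t ht
  rw [Subgroup.mem_normalizer_iff]
  intro g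
  constructor
  · exact key t ht g
  · intro h
    have := key t⁻¹ (T.inv_mem ht) _ h
    simpa [mul_assoc] using this

theorem eq_bot_of_pre_eq {K : Subgroup (QG N)} {H : Subgroup X} (hK : K ≤ img N H)
    (h : pre N K = N) : K = ⊥ := by
  rw [eq_bot_iff]
  intro y hy
  obtain ⟨g, hg, hgn, rfl⟩ := mem_img.mp (hK hy)
  have h2 : g ∈ pre N K := mem_pre.mpr ⟨hgn, hy⟩
  rw [h] at h2
  rw [Subgroup.mem_bot]
  exact qmap_eq_one_iff.mpr h2

theorem eq_img_of_pre_eq {K : Subgroup (QG N)} {H : Subgroup X} (hK : K ≤ img N H)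
    (h : pre N K = H) : K = img N H := by
  apply le_antisymm hK
  intro y hy
  obtain ⟨g, hg, hgn, rfl⟩ := mem_img.mp hy
  have h2 : g ∈ pre N K := by rw [h]; exact hg
  obtain ⟨_, hgK⟩ := mem_pre.mp h2
  exact hgK

theorem img_eq_bot_of_le {S : Subgroup X} (h : S ≤ N) : img N S = ⊥ := by
  rw [eq_bot_iff]
  intro y hy
  obtain ⟨s, hs, hsn, rfl⟩ := mem_img.mp hy
  rw [Subgroup.mem_bot]
  exact qmap_eq_one_iff.mpr (h hs)

end Pre

/-- `S1545` in the quotient `N_X(H₀)/H₀`. -/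
theorem card_img_eq_pow {X : Type*} [Group X] [Finite X] (U E H H₀ W : Subgroup X)
    (hU1 : U ≠ ⊥) (hE1 : E ≠ ⊥) (hUE : U ⊓ E = ⊥)
    (hUn : ∀ e ∈ E, ∀ u ∈ U, e * u * e⁻¹ ∈ U)
    (hfpf : ∀ e ∈ E, e ≠ 1 → ∀ u ∈ U, e * u = u * e → u = 1)
    (hHn : ∀ x ∈ U ⊔ E, ∀ h ∈ H, x * h * x⁻¹ ∈ H)
    (hdisj : H ⊓ (U ⊔ E) = ⊥) (hsolv : Group.IsSolvable H)
    (hcop : Nat.Coprime (Nat.card H) (Nat.card ↥(U ⊔ E)))
    (hNle : H₀ ≤ H) (hHN : H ≤ Subgroup.normalizer (H₀ : Set X))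
    (hBN : U ⊔ E ≤ Subgroup.normalizer (H₀ : Set X))
    (hCE : H ⊓ Subgroup.centralizer (E : Set X) = W)
    (hCU : H ⊓ Subgroup.centralizer (U : Set X) ≤ H₀) :
    img H₀ H ⊓ Subgroup.centralizer ((img H₀ U : Subgroup (QG H₀)) : Set (QG H₀)) = ⊥ ∧
      Nat.card (img H₀ H) = Nat.card (img H₀ W) ^ Nat.card E := by
  have hNB : ∀ x ∈ U ⊔ E, x ∈ H₀ → x = 1 := by
    intro x hx hxN
    have : x ∈ H ⊓ (U ⊔ E) := ⟨hNle hxN, hx⟩
    rw [hdisj, Subgroup.mem_bot] at this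
    exact this
  have hUB : U ≤ U ⊔ E := le_sup_left
  have hEB : E ≤ U ⊔ E := le_sup_right
  have hUY : U ≤ Subgroup.normalizer (H₀ : Set X) := hUB.trans hBN
  have hEY : E ≤ Subgroup.normalizer (H₀ : Set X) := hEB.trans hBN
  have hBH : U ⊔ E ≤ Subgroup.normalizer (H : Set X) := by
    intro x hx
    rw [Subgroup.mem_normalizer_iff]
    intro h
    constructor
    · intro hh
      exact hHn x hx h hh
    · intro hh
      have := hHn x⁻¹ ((U ⊔ E).inv_mem hx) _ hh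
      simpa [mul_assoc] using this
  have hcardU' : Nat.card (img H₀ U) = Nat.card U := by
    apply card_img_of_disjoint U hUY
    rw [eq_bot_iff]
    rintro x ⟨h1, h2⟩
    rw [Subgroup.mem_bot]
    exact hNB x (hUB h1) h2
  have hcardE' : Nat.card (img H₀ E) = Nat.card E := by
    apply card_img_of_disjoint E hEY
    rw [eq_bot_iff]
    rintro x ⟨h1, h2⟩
    rw [Subgroup.mem_bot]
    exact hNB x (hEB h1) h2
  have hcardH' : Nat.card (img H₀ H) * Nat.card H₀ = Nat.card H := by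
    have := card_img_mul H hHN
    rwa [inf_of_le_right hNle] at this
  have hcardB' : Nat.card (img H₀ (U ⊔ E)) ∣ Nat.card ↥(U ⊔ E) :=
    Dvd.intro _ (card_img_mul (U ⊔ E) hBN)
  have hU1' : img H₀ U ≠ ⊥ := by
    intro h
    apply hU1
    rw [← Subgroup.card_eq_one, ← hcardU', h, Subgroup.card_bot]
  have hE1' : img H₀ E ≠ ⊥ := by
    intro h
    apply hE1
    rw [← Subgroup.card_eq_one, ← hcardE', h, Subgroup.card_bot]
  have hUE' : img H₀ U ⊓ img H₀ E = ⊥ := by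
    rw [eq_bot_iff]
    rintro y ⟨h1, h2⟩
    rw [Subgroup.mem_bot]
    obtain ⟨u, hu, hun, rfl⟩ := mem_img.mp h1
    obtain ⟨e, he, hen, heq⟩ := mem_img.mp h2
    rw [qmap_eq_iff] at heq
    have h3 : e⁻¹ * u = 1 := hNB _ ((U ⊔ E).mul_mem ((U ⊔ E).inv_mem (hEB he)) (hUB hu)) heq
    have h4 : u = e := by
      have : u = e * (e⁻¹ * u) := by group
      rw [this, h3, mul_one]
    have h5 : u ∈ U ⊓ E := ⟨hu, h4 ▸ he⟩
    rw [hUE, Subgroup.mem_bot] at h5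
    rw [qmap_eq_one_iff]
    show u ∈ H₀
    rw [h5]
    exact H₀.one_mem
  have hUn' : ∀ e ∈ img H₀ E, ∀ u ∈ img H₀ U, e * u * e⁻¹ ∈ img H₀ U := by
    intro e' he' u' hu'
    obtain ⟨e, he, hen, rfl⟩ := mem_img.mp he'
    obtain ⟨u, hu, hun, rfl⟩ := mem_img.mp hu'
    rw [← map_inv, ← map_mul, ← map_mul]
    exact mem_img.mpr ⟨e * u * e⁻¹, hUn e he u hu,
      (Subgroup.normalizer (H₀ : Set X)).mul_mem
        ((Subgroup.normalizer (H₀ : Set X)).mul_mem hen hun)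
        ((Subgroup.normalizer (H₀ : Set X)).inv_mem hen), rfl⟩
  have hfpf' : ∀ e ∈ img H₀ E, e ≠ 1 → ∀ u ∈ img H₀ U, e * u = u * e → u = 1 := by
    intro e' he' hne u' hu' hcomm
    obtain ⟨e, he, hen, rfl⟩ := mem_img.mp he'
    obtain ⟨u, hu, hun, rfl⟩ := mem_img.mp hu'
    rw [← map_mul, ← map_mul, qmap_eq_iff] at hcomm
    have h1 : (e * u)⁻¹ * (u * e) = 1 :=
      hNB _ ((U ⊔ E).mul_mem ((U ⊔ E).inv_mem ((U ⊔ E).mul_mem (hEB he) (hUB hu)))
        ((U ⊔ E).mul_mem (hUB hu) (hEB he))) hcomm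
    have h2 : e * u = u * e := by
      have : u * e = (e * u) * ((e * u)⁻¹ * (u * e)) := by group
      rw [this, h1, mul_one]
    have he1 : e ≠ 1 := by
      rintro rfl
      apply hne
      rw [qmap_eq_one_iff]
      exact H₀.one_mem
    have h3 := hfpf e he he1 u hu h2
    rw [qmap_eq_one_iff]
    show u ∈ H₀
    rw [h3]
    exact H₀.one_mem
  have hHn' : ∀ x ∈ img H₀ U ⊔ img H₀ E, ∀ h ∈ img H₀ H, x * h * x⁻¹ ∈ img H₀ H := by
    rw [← img_sup hUY hEY]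
    intro x' hx' h' hh'
    obtain ⟨x, hx, hxn, rfl⟩ := mem_img.mp hx'
    obtain ⟨h, hh, hhn, rfl⟩ := mem_img.mp hh'
    rw [← map_inv, ← map_mul, ← map_mul]
    exact mem_img.mpr ⟨x * h * x⁻¹, hHn x hx h hh,
      (Subgroup.normalizer (H₀ : Set X)).mul_mem
        ((Subgroup.normalizer (H₀ : Set X)).mul_mem hxn hhn)
        ((Subgroup.normalizer (H₀ : Set X)).inv_mem hxn), rfl⟩
  have hdisj' : img H₀ H ⊓ (img H₀ U ⊔ img H₀ E) = ⊥ := by
    rw [← img_sup hUY hEY, eq_bot_iff]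
    rintro y ⟨h1, h2⟩
    rw [Subgroup.mem_bot]
    obtain ⟨h, hh, hhn, rfl⟩ := mem_img.mp h1
    obtain ⟨x, hx, hxn, heq⟩ := mem_img.mp h2
    rw [qmap_eq_iff] at heq
    have h3 : x⁻¹ * h ∈ H := hNle heq
    have h4 : x ∈ H := by
      have : x = h * (x⁻¹ * h)⁻¹ := by group
      rw [this]
      exact H.mul_mem hh (H.inv_mem h3)
    have h5 : x ∈ H ⊓ (U ⊔ E) := ⟨h4, hx⟩
    rw [hdisj, Subgroup.mem_bot] at h5
    rw [qmap_eq_one_iff]
    show h ∈ H₀
    have heq' : x⁻¹ * h ∈ H₀ := heq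
    rw [h5, inv_one, one_mul] at heq'
    exact heq'
  have hsolv' : Group.IsSolvable ↥(img H₀ H) := by
    rw [← range_qres H hHN]
    exact Group.isSolvable_of_surjective (f := (qres H hHN).rangeRestrict)
      (MonoidHom.rangeRestrict_surjective _)
  have hcop' : Nat.Coprime (Nat.card (img H₀ H)) (Nat.card ↥(img H₀ U ⊔ img H₀ E)) := by
    rw [← img_sup hUY hEY]
    exact Nat.Coprime.coprime_dvd_left (Dvd.intro _ hcardH')
      (Nat.Coprime.coprime_dvd_right hcardB' hcop)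
  have hF := Cfsg.Agent.S1545.result (img H₀ U) (img H₀ E) (img H₀ H) hU1' hE1' hUE' hUn' hfpf'
    hHn' hdisj' hsolv' hcop'
  rw [← img_sup hUY hEY] at hF
  have hcopS : ∀ S : Subgroup X, S ≤ U ⊔ E → (Nat.card S).Coprime (Nat.card H) := by
    intro S hS
    exact (Nat.Coprime.coprime_dvd_right (Subgroup.card_dvd_of_le hS) hcop).symm
  rw [← img_inf_centralizer (U ⊔ E) H hNle hHN hBN hBH (hcopS _ le_rfl) hsolv,
    ← img_inf_centralizer E H hNle hHN hEY (hEB.trans hBH) (hcopS _ hEB) hsolv,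
    ← img_inf_centralizer U H hNle hHN hUY (hUB.trans hBH) (hcopS _ hUB) hsolv,
    hcardE', hCE] at hF
  have hb1 : img H₀ (H ⊓ Subgroup.centralizer (U : Set X)) = ⊥ := img_eq_bot_of_le hCU
  have hb2 : img H₀ (H ⊓ Subgroup.centralizer ((U ⊔ E : Subgroup X) : Set X)) = ⊥ := by
    apply img_eq_bot_of_le
    refine le_trans ?_ hCU
    intro x hx
    exact ⟨hx.1, Subgroup.centralizer_le (by exact_mod_cast hUB) hx.2⟩
  refine ⟨?_, ?_⟩
  · rw [← img_inf_centralizer U H hNle hHN hUY (hUB.trans hBH) (hcopS _ hUB) hsolv]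
    exact hb1
  · rw [hb1, hb2] at hF
    simpa using hF

end Cfsg.Agent.Lib.Helper62.PF9
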