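import Mathlib
import Cfsg.Agent.Lib.Helper62.PFNineN3A

/-!
helper62 shared library (PF section 9, module N3, abstract part B).

`frobenius_chief_factor`: a Frobenius group `UE` acts coprimely on the nilpotent group `H`;
`H/H₀` is an `H(UE)`-chief factor with `C_H(U) ≤ H₀` and `C_H(E) = W` cyclic.  Then `H/H₀` is
elementary abelian of order `p ^ |E|`, `|W : W ∩ H₀| = p` and `U` does not centralize `H/H₀`.
-/

set_option autoImplicit false

namespace Cfsg.Agent.Lib.Helper62.PF9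

open Cfsg.Agent.Lib.Helper1.FrobFixed
open scoped commutatorElement

/-- minimality of `H/H₀` in the quotient `N_X(H₀)/H₀` -/
theorem img_minimal {X : Type*} [Group X] (T H H₀ : Subgroup X) (hNle : H₀ ≤ H)
    (hTN : T ≤ Subgroup.normalizer (H₀ : Set X))
    (hchief : ∀ N : Subgroup X, H₀ ≤ N → N ≤ H → T ≤ Subgroup.normalizer (N : Set X) →
      N = H₀ ∨ N = H)
    (K : Subgroup (QG H₀)) (hK : K ≤ img H₀ H)
    (hinv : ∀ t ∈ img H₀ T, ∀ y ∈ K, t * y * t⁻¹ ∈ K) :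
    K = ⊥ ∨ K = img H₀ H := by
  rcases hchief (pre H₀ K) (le_pre K) (pre_le_of_le_img hNle hK) (normalizer_pre hTN hinv)
    with h | h
  · exact Or.inl (eq_bot_of_pre_eq hK h)
  · exact Or.inr (eq_img_of_pre_eq hK h)

/-- A nontrivial nilpotent subgroup which is minimal among the `T`-invariant subgroups is
elementary abelian. -/
theorem elemAb_of_minimal_invariant {Q : Type*} [Group Q] [Finite Q] (T Hb : Subgroup Q)
    (hne : Hb ≠ ⊥) (hnil : Group.IsNilpotent Hb)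
    (hT : ∀ t ∈ T, ∀ y ∈ Hb, t * y * t⁻¹ ∈ Hb)
    (hmin : ∀ K : Subgroup Q, K ≤ Hb → (∀ t ∈ T, ∀ y ∈ K, t * y * t⁻¹ ∈ K) → K = ⊥ ∨ K = Hb) :
    (∀ a ∈ Hb, ∀ b ∈ Hb, a * b = b * a) ∧ ∃ p : ℕ, p.Prime ∧ ∀ y ∈ Hb, y ^ p = 1 := by
  haveI : Nontrivial ↥Hb := (Subgroup.nontrivial_iff_ne_bot Hb).mpr hne
  haveI := hnil
  -- the centre
  have hZinv : ∀ t ∈ T, ∀ y ∈ Hb ⊓ Subgroup.centralizer (Hb : Set Q),
      t * y * t⁻¹ ∈ Hb ⊓ Subgroup.centralizer (Hb : Set Q) := by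
    intro t ht y hy
    refine ⟨hT t ht y hy.1, Subgroup.mem_centralizer_iff.mpr ?_⟩
    intro z hz
    have hz' : t⁻¹ * z * t ∈ Hb := by
      have := hT t⁻¹ (T.inv_mem ht) z hz
      simpa using this
    have hc : (t⁻¹ * z * t) * y = y * (t⁻¹ * z * t) :=
      Subgroup.mem_centralizer_iff.mp hy.2 _ hz'
    calc z * (t * y * t⁻¹) = t * ((t⁻¹ * z * t) * y) * t⁻¹ := by group
      _ = t * (y * (t⁻¹ * z * t)) * t⁻¹ := by rw [hc]
      _ = t * y * t⁻¹ * z := by group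
  have hZne : Hb ⊓ Subgroup.centralizer (Hb : Set Q) ≠ ⊥ := by
    have h0 := Group.IsNilpotent.center_ne_bot ↥Hb
    obtain ⟨⟨z, hz⟩, hz1⟩ := (Subgroup.ne_bot_iff_exists_ne_one).mp h0
    intro hbot
    have hzmem : (z : Q) ∈ Hb ⊓ Subgroup.centralizer (Hb : Set Q) := by
      refine ⟨z.2, Subgroup.mem_centralizer_iff.mpr ?_⟩
      intro g hg
      exact congrArg Subtype.val (Subgroup.mem_center_iff.mp hz ⟨g, hg⟩)
    rw [hbot, Subgroup.mem_bot] at hzmem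
    apply hz1
    apply Subtype.ext
    apply Subtype.ext
    exact hzmem
  have hZ : Hb ⊓ Subgroup.centralizer (Hb : Set Q) = Hb :=
    (hmin _ inf_le_left hZinv).resolve_left hZne
  have hcomm : ∀ a ∈ Hb, ∀ b ∈ Hb, a * b = b * a := by
    intro a ha b hb
    have hb' : b ∈ Hb ⊓ Subgroup.centralizer (Hb : Set Q) := by rw [hZ]; exact hb
    exact Subgroup.mem_centralizer_iff.mp hb'.2 a ha
  refine ⟨hcomm, ?_⟩
  -- the prime
  have hcard : Nat.card ↥Hb ≠ 1 := by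
    rw [Ne, Subgroup.card_eq_one]
    exact hne
  have hp : (Nat.card ↥Hb).minFac.Prime := Nat.minFac_prime hcard
  have hdvd : (Nat.card ↥Hb).minFac ∣ Nat.card ↥Hb := Nat.minFac_dvd _
  set p := (Nat.card ↥Hb).minFac with hpdef
  haveI : Fact p.Prime := ⟨hp⟩
  refine ⟨p, hp, ?_⟩
  let Ω : Subgroup Q :=
    { carrier := {x | x ∈ Hb ∧ x ^ p = 1}
      one_mem' := ⟨Hb.one_mem, one_pow p⟩
      mul_mem' := by
        rintro a b ⟨ha, hap⟩ ⟨hb, hbp⟩
        refine ⟨Hb.mul_mem ha hb, ?_⟩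
        have hc : Commute a b := hcomm a ha b hb
        rw [hc.mul_pow, hap, hbp, one_mul]
      inv_mem' := by
        rintro a ⟨ha, hap⟩
        exact ⟨Hb.inv_mem ha, by rw [inv_pow, hap, inv_one]⟩ }
  have hΩinv : ∀ t ∈ T, ∀ y ∈ Ω, t * y * t⁻¹ ∈ Ω := by
    rintro t ht y ⟨hy, hyp⟩
    refine ⟨hT t ht y hy, ?_⟩
    rw [conj_pow, hyp, mul_one, mul_inv_cancel]
  have hΩle : Ω ≤ Hb := fun x hx => hx.1
  have hΩne : Ω ≠ ⊥ := by
    obtain ⟨x, hx⟩ := exists_prime_orderOf_dvd_card' p hdvd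
    intro hbot
    have hxΩ : (x : Q) ∈ Ω := by
      refine ⟨x.2, ?_⟩
      have h1 : x ^ p = 1 := by rw [← hx]; exact pow_orderOf_eq_one x
      have := congrArg Subtype.val h1
      simpa using this
    rw [hbot, Subgroup.mem_bot] at hxΩ
    have hx1 : x = 1 := Subtype.ext hxΩ
    rw [hx1, orderOf_one] at hx
    exact hp.one_lt.ne hx
  have hΩ : Ω = Hb := (hmin Ω hΩle hΩinv).resolve_left hΩne
  intro y hy
  rw [← hΩ] at hy
  exact hy.2

/-- The chief factor theorem. -/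
theorem frobenius_chief_factor {X : Type*} [Group X] [Finite X] (U E H H₀ W : Subgroup X)
    (hU1 : U ≠ ⊥) (hE1 : E ≠ ⊥) (hUE : U ⊓ E = ⊥)
    (hUn : ∀ e ∈ E, ∀ u ∈ U, e * u * e⁻¹ ∈ U)
    (hfpf : ∀ e ∈ E, e ≠ 1 → ∀ u ∈ U, e * u = u * e → u = 1)
    (hHn : ∀ x ∈ U ⊔ E, ∀ h ∈ H, x * h * x⁻¹ ∈ H)
    (hdisj : H ⊓ (U ⊔ E) = ⊥) (hnil : Group.IsNilpotent H)
    (hcop : Nat.Coprime (Nat.card H) (Nat.card ↥(U ⊔ E)))
    (h1 : H₀ < H) (hHN : H ≤ Subgroup.normalizer (H₀ : Set X))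
    (hBN : U ⊔ E ≤ Subgroup.normalizer (H₀ : Set X))
    (hCE : H ⊓ Subgroup.centralizer (E : Set X) = W) (hWc : IsCyclic W)
    (hCU : H ⊓ Subgroup.centralizer (U : Set X) ≤ H₀)
    (hchief : ∀ N : Subgroup X, H₀ ≤ N → N ≤ H → H ≤ Subgroup.normalizer (N : Set X) →
      U ⊔ E ≤ Subgroup.normalizer (N : Set X) → N = H₀ ∨ N = H) :
    ∃ p : ℕ, p.Prime ∧ H₀.relIndex H = p ^ Nat.card E ∧ (H₀ ⊓ W).relIndex W = p ∧
      ⁅H, H⁆ ≤ H₀ ∧ (∀ h ∈ H, h ^ p ∈ H₀) ∧ ¬ ⁅U, H⁆ ≤ H₀ := by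
  have hNle : H₀ ≤ H := h1.le
  haveI := hnil
  have hsolv : Group.IsSolvable H := IsNilpotent.to_isSolvable
  obtain ⟨hCUbar, hcard⟩ := card_img_eq_pow U E H H₀ W hU1 hE1 hUE hUn hfpf hHn hdisj hsolv hcop
    hNle hHN hBN hCE hCU
  have hBH : U ⊔ E ≤ Subgroup.normalizer (H : Set X) := by
    intro x hx
    rw [Subgroup.mem_normalizer_iff]
    intro h
    constructor
    · intro hh
      exact hHn x hx h hh
    · intro hh
      have := hHn x⁻¹ ((U ⊔ E).inv_mem hx) _ hh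
      simpa [mul_assoc] using this
  have hTN : H ⊔ (U ⊔ E) ≤ Subgroup.normalizer (H₀ : Set X) := sup_le hHN hBN
  have hTH : H ⊔ (U ⊔ E) ≤ Subgroup.normalizer (H : Set X) := sup_le Subgroup.le_normalizer hBH
  have hcardH' : Nat.card (img H₀ H) * Nat.card H₀ = Nat.card H := by
    have := card_img_mul H hHN
    rwa [inf_of_le_right hNle] at this
  have hHbne : img H₀ H ≠ ⊥ := by
    intro h
    rw [h, Subgroup.card_bot, one_mul] at hcardH'
    exact h1.ne (Subgroup.eq_of_le_of_card_ge hNle hcardH'.ge)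
  have hnil' : Group.IsNilpotent ↥(img H₀ H) := by
    rw [← range_qres H hHN]
    exact nilpotent_of_surjective (qres H hHN).rangeRestrict
      (MonoidHom.rangeRestrict_surjective _)
  have hTinv : ∀ t ∈ img H₀ (H ⊔ (U ⊔ E)), ∀ y ∈ img H₀ H, t * y * t⁻¹ ∈ img H₀ H := by
    intro t' ht' y' hy'
    obtain ⟨t, ht, htn, rfl⟩ := mem_img.mp ht'
    obtain ⟨h, hh, hhn, rfl⟩ := mem_img.mp hy'
    rw [← map_inv, ← map_mul, ← map_mul]
    refine mem_img.mpr ⟨t * h * t⁻¹, ?_,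
      (Subgroup.normalizer (H₀ : Set X)).mul_mem
        ((Subgroup.normalizer (H₀ : Set X)).mul_mem htn hhn)
        ((Subgroup.normalizer (H₀ : Set X)).inv_mem htn), rfl⟩
    exact (Subgroup.mem_normalizer_iff.mp (hTH ht) h).mp hh
  have hmin : ∀ K : Subgroup (QG H₀), K ≤ img H₀ H →
      (∀ t ∈ img H₀ (H ⊔ (U ⊔ E)), ∀ y ∈ K, t * y * t⁻¹ ∈ K) → K = ⊥ ∨ K = img H₀ H := by
    intro K hK hinv
    exact img_minimal (H ⊔ (U ⊔ E)) H H₀ hNle hTN
      (fun N h1 h2 h3 => hchief N h1 h2 (le_sup_left.trans h3) (le_sup_right.trans h3)) K hK hinv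
  obtain ⟨hcomm, p, hp, hexp⟩ :=
    elemAb_of_minimal_invariant (img H₀ (H ⊔ (U ⊔ E))) (img H₀ H) hHbne hnil' hTinv hmin
  have hWH : W ≤ H := hCE ▸ inf_le_left
  have hWN : W ≤ Subgroup.normalizer (H₀ : Set X) := hWH.trans hHN
  -- orders
  have hpg : IsPGroup p ↥(img H₀ H) := by
    intro y
    refine ⟨1, ?_⟩
    rw [pow_one]
    apply Subtype.ext
    have := hexp y y.2
    simpa using this
  haveI : Fact p.Prime := ⟨hp⟩
  obtain ⟨k, hk⟩ := hpg.exists_card_eq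
  have hWcyc : IsCyclic ↥(img H₀ W) := by
    haveI := hWc
    rw [← range_qres W hWN]
    exact isCyclic_of_surjective (qres W hWN).rangeRestrict
      (MonoidHom.rangeRestrict_surjective _)
  have hWdvd : Nat.card ↥(img H₀ W) ∣ p := by
    haveI := hWcyc
    rw [← IsCyclic.exponent_eq_card]
    apply Monoid.exponent_dvd_of_forall_pow_eq_one
    intro y
    apply Subtype.ext
    have := hexp y (img_mono hWH y.2)
    simpa using this
  have hWp : Nat.card ↥(img H₀ W) = p := by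
    rcases (Nat.dvd_prime hp).mp hWdvd with h | h
    · exfalso
      rw [h, one_pow] at hcard
      exact hHbne (Subgroup.card_eq_one.mp hcard)
    · exact h
  rw [hWp] at hcard
  refine ⟨p, hp, ?_, ?_, ?_, ?_, ?_⟩
  · -- relIndex
    have h3 : Nat.card H₀ * H₀.relIndex H = Nat.card H := by
      have := Subgroup.relIndex_mul_relIndex (⊥ : Subgroup X) H₀ H bot_le hNle
      rwa [Subgroup.relIndex_bot_left, Subgroup.relIndex_bot_left] at this
    have h4 : Nat.card H₀ * H₀.relIndex H = Nat.card H₀ * Nat.card (img H₀ H) := by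
      rw [h3, ← hcardH', mul_comm]
    rw [Nat.eq_of_mul_eq_mul_left Nat.card_pos h4, hcard]
  · have h3 : Nat.card ↥(H₀ ⊓ W) * (H₀ ⊓ W).relIndex W = Nat.card W := by
      have := Subgroup.relIndex_mul_relIndex (⊥ : Subgroup X) (H₀ ⊓ W) W bot_le inf_le_right
      rwa [Subgroup.relIndex_bot_left, Subgroup.relIndex_bot_left] at this
    have h5 := card_img_mul W hWN
    rw [inf_comm] at h5
    have h4 : Nat.card ↥(H₀ ⊓ W) * (H₀ ⊓ W).relIndex W =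
        Nat.card ↥(H₀ ⊓ W) * Nat.card (img H₀ W) := by
      rw [h3, ← h5, mul_comm]
    rw [Nat.eq_of_mul_eq_mul_left Nat.card_pos h4, hWp]
  · rw [Subgroup.commutator_le]
    intro a ha b hb
    have h5 := hcomm (qmap H₀ ⟨b⁻¹, hHN (H.inv_mem hb)⟩)
      (mem_img.mpr ⟨b⁻¹, H.inv_mem hb, hHN (H.inv_mem hb), rfl⟩)
      (qmap H₀ ⟨a⁻¹, hHN (H.inv_mem ha)⟩)
      (mem_img.mpr ⟨a⁻¹, H.inv_mem ha, hHN (H.inv_mem ha), rfl⟩)
    rw [← map_mul, ← map_mul, qmap_eq_iff] at h5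
    have h6 : (b⁻¹ * a⁻¹)⁻¹ * (a⁻¹ * b⁻¹) ∈ H₀ := h5
    have h7 : ⁅a, b⁆ = (b⁻¹ * a⁻¹)⁻¹ * (a⁻¹ * b⁻¹) := by
      rw [commutatorElement_def]; group
    rw [h7]
    exact h6
  · intro h hh
    have h5 := hexp (qmap H₀ ⟨h, hHN hh⟩) (mem_img.mpr ⟨h, hh, hHN hh, rfl⟩)
    rw [← map_pow, qmap_eq_one_iff] at h5
    simpa using h5
  · intro hc
    apply hHbne
    rw [← hCUbar]
    apply le_antisymm _ inf_le_left
    intro y hy
    refine ⟨hy, Subgroup.mem_centralizer_iff.mpr ?_⟩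
    intro z hz
    obtain ⟨h, hh, hhn, rfl⟩ := mem_img.mp hy
    obtain ⟨u, hu, hun, rfl⟩ := mem_img.mp hz
    rw [← map_mul, ← map_mul, qmap_eq_iff]
    show (u * h)⁻¹ * (h * u) ∈ H₀
    have h6 : ⁅u⁻¹, h⁻¹⁆ ∈ H₀ :=
      hc (Subgroup.commutator_mem_commutator (U.inv_mem hu) (H.inv_mem hh))
    have h7 : (u * h)⁻¹ * (h * u) = ⁅u⁻¹, h⁻¹⁆⁻¹ := by
      rw [commutatorElement_def]; group
    rw [h7]
    exact H₀.inv_mem h6

end Cfsg.Agent.Lib.Helper62.PF9
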