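import Mathlib
import Cfsg.Prelude.Def_OddOrderLocal
import Cfsg.Agent.Lib.Helper4.PFNineA
import Cfsg.Agent.Lib.Helper62.PFNineN3B

/-!
helper62 shared library: PROJECT PF, Peterfalvi section 9, module (N3) of helper4's board post
#2569 = Peterfalvi (9.5): the structure of the chief factor `H/H₀` (`H = M_F`, `M` of type P with
`U ≠ 1`, `C_H(U) ≤ H₀`).
-/

set_option autoImplicit false

namespace Cfsg.Agent.Lib.Helper62.PF9

open Cfsg Cfsg.Agent.Lib.Helper4.PF9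

variable {G : Type*} [Group G] [Finite G] {M W₁ U W₂ : Subgroup G}

/-- Peterfalvi (9.5): `H/H₀` is elementary abelian of order `p ^ |W₁|`, `|W₂ : W₂ ∩ H₀| = p`,
and `U` does not centralize `H/H₀`. -/
theorem Fcore_factor_facts (hP : IsTypePWith M W₁ U W₂) (hU : U ≠ ⊥) (H₀ : Subgroup G)
    (h1 : H₀ < fittingHallOf M) (h2 : M ≤ Subgroup.normalizer (H₀ : Set G))
    (h3 : fittingHallOf M ⊓ Subgroup.centralizer (U : Set G) ≤ H₀)
    (h4 : ∀ N : Subgroup G, H₀ ≤ N → N ≤ fittingHallOf M → M ≤ Subgroup.normalizer (N : Set G) →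
      N = H₀ ∨ N = fittingHallOf M) :
    ∃ p : ℕ, p.Prime ∧ H₀.relIndex (fittingHallOf M) = p ^ Nat.card W₁ ∧
      (H₀ ⊓ W₂).relIndex W₂ = p ∧ ⁅fittingHallOf M, fittingHallOf M⁆ ≤ H₀ ∧
      (∀ h ∈ fittingHallOf M, h ^ p ∈ H₀) ∧ ¬ ⁅U, fittingHallOf M⁆ ≤ H₀ := by
  have hC := isComplIn_H_UW₁ hP
  refine frobenius_chief_factor U W₁ (fittingHallOf M) H₀ W₂ hU hP.W₁_ne (U_inf_W₁ hP)
    (fun e he u hu => by
      have := hP.U_normal he
      rw [Subgroup.mem_normalizer_iff] at this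
      exact (this u).1 hu)
    (fun e he he1 u hu heu => W₁_fpf_U hP he he1 hu heu)
    (fun x hx h hh => conj_mem_fittingHallOf M (UW₁_le hP hx) hh)
    hC.2.2.1 (H_isNilpotent M) (coprime_H_UW₁ hP) h1
    ((fittingHallOf_le M).trans h2) ((UW₁_le hP).trans h2)
    (H_inf_centralizer_W₁ hP) ?_ h3 ?_
  · haveI : IsCyclic ↥(W₁ ⊔ W₂) := hP.selfNormalizing.2.2.2.2.1
    exact Subgroup.isCyclic_of_le (le_sup_right : W₂ ≤ W₁ ⊔ W₂)
  · intro N hN1 hN2 hN3 hN4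
    apply h4 N hN1 hN2
    intro m hm
    obtain ⟨a, ha, b, hb, rfl⟩ := hC.2.2.2 m hm
    exact (Subgroup.normalizer (N : Set G)).mul_mem (hN3 ha) (hN4 hb)

end Cfsg.Agent.Lib.Helper62.PF9
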