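import Mathlib
import Cfsg.Prelude.Def_Transfer
import Cfsg.Agent.Lib.Helper72.PFNineN4
import Cfsg.Agent.Lib.Helper62.PFNineN6

/-!
# PF section 9, module N7 (helper62, for helper4): the Galois case, arithmetic of `U / C_U(P)`

In the situation of module N6 (`P` elementary abelian of order `p ^ q`, the nilpotent group `U`
irreducible on `P`, `W₁` of prime order `q` normalising `U` and `P` and acting on `U` without
fixed points), let moreover `w₀ ≠ 1` be an element of `P` centralised by `W₁`.  Then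

* `U` acts on `P` as a cyclic group;
* `U` acts semiregularly on `P \ {1}` (modulo `C_U(P)`);
* `u = |U : C_U(P)|` is prime to `p - 1` and divides `(p ^ q - 1) / (p - 1)`.

This is the rest of the Coq lemma `typeP_Galois_P`.
-/

set_option autoImplicit false
set_option linter.style.haveILetI false

namespace Cfsg.Agent.Lib.Helper62.PF9

open Cfsg.Agent.Lib.Helper72.PFNineN4 in
/-- **PF (9.7)(b), Galois case.** -/
theorem galois_case_facts {G : Type*} [Group G] [Finite G] (p q : ℕ) [hp : Fact p.Prime]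
    (hq : q.Prime) (P U W₁ : Subgroup G) (hP : Cfsg.IsElementaryAbelian p P)
    (hcard : Nat.card P = p ^ q) (hW₁ : Nat.card W₁ = q)
    (hUP : U ≤ Subgroup.normalizer (P : Set G)) (hWP : W₁ ≤ Subgroup.normalizer (P : Set G))
    (hWU : W₁ ≤ Subgroup.normalizer (U : Set G))
    (hfpf : ∀ x ∈ W₁, x ≠ 1 → ∀ u ∈ U, x * u = u * x → u = 1)
    (hUnil : Group.IsNilpotent U)
    (hirr : ∀ Q : Subgroup G, Q ≤ P → U ≤ Subgroup.normalizer (Q : Set G) → Q = ⊥ ∨ Q = P)
    (w₀ : G) (hw₀ : w₀ ∈ P) (hw₀1 : w₀ ≠ 1) (hw₀W : ∀ w ∈ W₁, w * w₀ = w₀ * w) :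
    (∃ g ∈ U, ∀ u ∈ U, ∃ k : ℕ, ∀ x ∈ P, u * x * u⁻¹ = g ^ k * x * (g ^ k)⁻¹) ∧
    (∀ u ∈ U, ∀ x ∈ P, x ≠ 1 → u * x = x * u → u ∈ Subgroup.centralizer (P : Set G)) ∧
    ((U ⊓ Subgroup.centralizer (P : Set G)).relIndex U).Coprime (p - 1) ∧
    (U ⊓ Subgroup.centralizer (P : Set G)).relIndex U ∣ (p ^ q - 1) / (p - 1) := by
  classical
  have hab := abelian_action_of_irreducible p q hq P U W₁ hP hcard hW₁ hUP hWP hWU hfpf hUnil hirr
  obtain ⟨F, instF, instFin, f, ψ, hFcard, hbij, hadd, hact, hmul, hinj, hf1, hprime⟩ :=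
    exists_field_of_irreducible_abelian_action p P U hP hUP hab hirr w₀ hw₀ hw₀1
  have hcj : ∀ n ∈ Subgroup.normalizer (P : Set G), ∀ x ∈ P, n * x * n⁻¹ ∈ P := fun n hn x hx =>
    (Subgroup.mem_normalizer_iff.mp hn x).mp hx
  -- basic facts on `f` and `ψ`
  have hfinj : ∀ x ∈ P, ∀ y ∈ P, f x = f y → x = y := fun x hx y hy h => hbij.2.1 hx hy h
  have hf0 : f 1 = 0 := by
    have := hadd 1 P.one_mem 1 P.one_mem
    rw [mul_one] at this
    exact left_eq_add.mp this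
  have hψ1 : ψ 1 = 1 := by
    have h1 := hmul 1 U.one_mem 1 U.one_mem
    rw [mul_one] at h1
    have h2 := (hact 1 U.one_mem).1
    exact (mul_eq_left₀ h2).mp h1.symm
  have hψw₀ : ∀ u ∈ U, f (u * w₀ * u⁻¹) = ψ u := by
    intro u hu
    rw [(hact u hu).2 w₀ hw₀, hf1, mul_one]
  -- the kernel of `ψ`
  have hker : ∀ u ∈ U, (ψ u = 1 ↔ u ∈ Subgroup.centralizer (P : Set G)) := by
    intro u hu
    constructor
    · intro h1
      rw [Subgroup.mem_centralizer_iff]
      intro x hx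
      have h2 := hinj u hu 1 U.one_mem (h1.trans hψ1.symm) x hx
      rw [one_mul, inv_one, mul_one] at h2
      calc x * u = (u * x * u⁻¹) * u := by rw [h2]
        _ = u * x := by group
    · intro hc
      rw [Subgroup.mem_centralizer_iff] at hc
      have h2 : u * w₀ * u⁻¹ = w₀ := by
        rw [← hc w₀ hw₀]
        group
      rw [← hψw₀ u hu, h2, hf1]
  -- semiregularity
  have hsemi : ∀ u ∈ U, ∀ x ∈ P, x ≠ 1 → u * x = x * u →
      u ∈ Subgroup.centralizer (P : Set G) := by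
    intro u hu x hx hx1 hux
    rw [← hker u hu]
    have h1 : u * x * u⁻¹ = x := by rw [hux]; group
    have h2 := (hact u hu).2 x hx
    rw [h1] at h2
    have h3 : f x ≠ 0 := by
      intro h0
      exact hx1 (hfinj x hx 1 P.one_mem (h0.trans hf0.symm))
    exact (mul_eq_right₀ h3).mp h2.symm
  -- the homomorphism to the units
  let ψ' : ↥U →* Fˣ :=
    { toFun := fun u => Units.mk0 (ψ u) (hact u u.2).1
      map_one' := Units.ext hψ1
      map_mul' := fun a b => Units.ext (hmul a a.2 b b.2) }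
  have hψ' : ∀ u : ↥U, ((ψ' u : Fˣ) : F) = ψ u := fun u => rfl
  have hkerψ' : (U ⊓ Subgroup.centralizer (P : Set G)).subgroupOf U = ψ'.ker := by
    ext u
    rw [Subgroup.mem_subgroupOf, MonoidHom.mem_ker, Subgroup.mem_inf]
    constructor
    · rintro ⟨-, hc⟩
      apply Units.ext
      rw [hψ']
      exact (hker u u.2).mpr hc
    · intro h1
      refine ⟨u.2, (hker u u.2).mp ?_⟩
      rw [← hψ', h1]
      rfl
  have hrel : (U ⊓ Subgroup.centralizer (P : Set G)).relIndex U = Nat.card ψ'.range := by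
    rw [Subgroup.relIndex, hkerψ', Subgroup.index_ker]
  -- the prime field meets the image trivially
  have hW1 : 1 < Nat.card ↥W₁ := by rw [hW₁]; exact hq.one_lt
  haveI : Nontrivial ↥W₁ := Finite.one_lt_card_iff_nontrivial.mp hW1
  obtain ⟨⟨w, hw⟩, hw1'⟩ := exists_ne (1 : ↥W₁)
  have hw1 : w ≠ 1 := fun h => hw1' (Subtype.ext h)
  have hwN : w ∈ Subgroup.normalizer (P : Set G) := hWP hw
  have hwU : ∀ u ∈ U, w * u * w⁻¹ ∈ U := fun u hu =>
    (Subgroup.mem_normalizer_iff.mp (hWU hw) u).mp hu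
  have hwC : ∀ c ∈ U ⊓ Subgroup.centralizer (P : Set G),
      w * c * w⁻¹ ∈ U ⊓ Subgroup.centralizer (P : Set G) := by
    intro c hc
    obtain ⟨hcU, hcC⟩ := Subgroup.mem_inf.mp hc
    refine Subgroup.mem_inf.mpr ⟨hwU c hcU, ?_⟩
    rw [Subgroup.mem_centralizer_iff] at hcC ⊢
    intro y hy
    have hy' : w⁻¹ * y * w⁻¹⁻¹ ∈ P := hcj w⁻¹ (inv_mem hwN) y hy
    have h1 := hcC _ hy'
    calc y * (w * c * w⁻¹) = w * ((w⁻¹ * y * w⁻¹⁻¹) * c) * w⁻¹ := by group
      _ = w * (c * (w⁻¹ * y * w⁻¹⁻¹)) * w⁻¹ := by rw [h1]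
      _ = w * c * w⁻¹ * y := by group
  have hprimefield : ∀ u ∈ U, ψ u ^ p = ψ u → ψ u = 1 := by
    intro u hu hpu
    obtain ⟨x, hx, hfx⟩ := hbij.2.2 (Set.mem_univ (ψ u))
    have hxz : x ∈ Subgroup.zpowers w₀ := by
      rw [← hprime x hx, hfx]
      exact hpu
    have hwx : w * x * w⁻¹ = x := by
      obtain ⟨k, rfl⟩ := Subgroup.mem_zpowers_iff.mp hxz
      have h1 : Commute w w₀ := hw₀W w hw
      have h2 : Commute w (w₀ ^ k) := h1.zpow_right k
      rw [h2.eq]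
      group
    have hux : u * w₀ * u⁻¹ = x :=
      hfinj _ (hcj u (hUP hu) w₀ hw₀) x hx ((hψw₀ u hu).trans hfx.symm)
    have hu'x : (w * u * w⁻¹) * w₀ * (w * u * w⁻¹)⁻¹ = x := by
      have h1 : w⁻¹ * w₀ * w = w₀ := by
        have := hw₀W w hw
        calc w⁻¹ * w₀ * w = w⁻¹ * (w₀ * w) := by group
          _ = w⁻¹ * (w * w₀) := by rw [this]
          _ = w₀ := by group
      calc (w * u * w⁻¹) * w₀ * (w * u * w⁻¹)⁻¹ = w * (u * (w⁻¹ * w₀ * w) * u⁻¹) * w⁻¹ := by group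
        _ = w * x * w⁻¹ := by rw [h1, hux]
        _ = x := hwx
    have hψeq : ψ (w * u * w⁻¹) = ψ u := by
      rw [← hψw₀ _ (hwU u hu), hu'x, hfx]
    have hsame := hinj _ (hwU u hu) u hu hψeq
    have hzC : u⁻¹ * (w * u * w⁻¹) ∈ U ⊓ Subgroup.centralizer (P : Set G) := by
      refine Subgroup.mem_inf.mpr ⟨U.mul_mem (U.inv_mem hu) (hwU u hu), ?_⟩
      rw [Subgroup.mem_centralizer_iff]
      intro y hy
      have h1 := hsame y hy
      calc y * (u⁻¹ * (w * u * w⁻¹)) = u⁻¹ * (u * y * u⁻¹) * (w * u * w⁻¹) := by group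
        _ = u⁻¹ * ((w * u * w⁻¹) * y * (w * u * w⁻¹)⁻¹) * (w * u * w⁻¹) := by rw [h1]
        _ = u⁻¹ * (w * u * w⁻¹) * y := by group
    have hmem := mem_of_fpf_comm U (U ⊓ Subgroup.centralizer (P : Set G)) inf_le_left w hwC
      (hfpf w hw hw1) u hu hzC
    exact (hker u hu).mpr (Subgroup.mem_inf.mp hmem).2
  -- the order of the image
  have hn1 : Nat.card ψ'.range ∣ p ^ q - 1 := by
    have h1 := Subgroup.card_subgroup_dvd_card ψ'.range
    have hF : Nat.card F = p ^ q := by rw [Nat.card_eq_fintype_card, hFcard, hcard]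
    rwa [Nat.card_units, hF] at h1
  have hcop : (Nat.card ψ'.range).Coprime (p - 1) := by
    by_contra hnc
    obtain ⟨r, hr, hr1, hr2⟩ := Nat.Prime.not_coprime_iff_dvd.mp hnc
    haveI : Fact r.Prime := ⟨hr⟩
    obtain ⟨t, ht⟩ := exists_prime_orderOf_dvd_card' r hr1
    obtain ⟨t', u, rfl⟩ := t
    have h1 : (⟨ψ' u, ⟨u, rfl⟩⟩ : ↥ψ'.range) ^ (p - 1) = 1 := by
      rw [← orderOf_dvd_iff_pow_eq_one, ht]
      exact hr2
    have h2 : (ψ' u) ^ (p - 1) = 1 := by
      have := congrArg Subtype.val h1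
      simpa using this
    have h3 : ψ u ^ (p - 1) = 1 := by
      have := congrArg Units.val h2
      rw [Units.val_pow_eq_pow_val, hψ'] at this
      exact this
    have h4 : ψ u ^ p = ψ u := by
      have h5 : p = (p - 1) + 1 := (Nat.succ_pred_eq_of_pos hp.out.pos).symm
      rw [h5, pow_succ, h3, one_mul]
    have h6 := hprimefield u u.2 h4
    have h7 : (⟨ψ' u, ⟨u, rfl⟩⟩ : ↥ψ'.range) = 1 := by
      apply Subtype.ext
      apply Units.ext
      exact h6
    rw [h7, orderOf_one] at ht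
    exact hr.one_lt.ne ht
  refine ⟨?_, hsemi, ?_, ?_⟩
  · -- cyclic
    haveI : IsCyclic ↥ψ'.range := Subgroup.isCyclic _
    obtain ⟨⟨γ, g, rfl⟩, hγ⟩ := IsCyclic.exists_generator (α := ↥ψ'.range)
    refine ⟨g, g.2, ?_⟩
    intro u hu
    have h1 := hγ ⟨ψ' ⟨u, hu⟩, ⟨⟨u, hu⟩, rfl⟩⟩
    rw [← mem_powers_iff_mem_zpowers] at h1
    obtain ⟨k, hk⟩ := h1
    refine ⟨k, ?_⟩
    have h2 : (ψ' g) ^ k = ψ' ⟨u, hu⟩ := by
      have := congrArg Subtype.val hk
      simpa using this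
    have h3 : ψ ((g : G) ^ k) = ψ u := by
      have h4 : ψ' (g ^ k) = ψ' ⟨u, hu⟩ := by rw [map_pow, h2]
      have := congrArg Units.val h4
      rw [hψ', hψ'] at this
      simpa using this
    intro x hx
    exact (hinj _ (U.pow_mem g.2 k) u hu h3 x hx).symm
  · rw [hrel]; exact hcop
  · rw [hrel]
    have h1 : p - 1 ∣ p ^ q - 1 := Nat.sub_one_dvd_pow_sub_one p q
    have h2 : Nat.card ψ'.range ∣ (p - 1) * ((p ^ q - 1) / (p - 1)) := by
      rw [Nat.mul_div_cancel' h1]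
      exact hn1
    exact hcop.dvd_of_dvd_mul_left h2

end Cfsg.Agent.Lib.Helper62.PF9
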