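import Mathlib
import Cfsg.Agent.Lib.Helper94.SPMD.Defs

/-!
# SPMD-[C-TRANS] (helper62): `GL_n` is transitive on linearly independent pairs
-/

set_option autoImplicit false

namespace Cfsg.Agent.Lib.Helper94.SPMD

open Matrix Module

namespace CTrans

variable {F : Type*} [Field F] {n : ℕ}

/-- a linear automorphism of `Fin n → F` as an element of `GL (Fin n) F` -/
noncomputable def glOfEquiv (g : (Fin n → F) ≃ₗ[F] (Fin n → F)) : GL (Fin n) F :=
  ⟨LinearMap.toMatrix' (g : (Fin n → F) →ₗ[F] (Fin n → F)),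
    LinearMap.toMatrix' (g.symm : (Fin n → F) →ₗ[F] (Fin n → F)), by
      rw [← LinearMap.toMatrix'_comp]
      convert LinearMap.toMatrix'_id using 2
      ext v
      simp, by
      rw [← LinearMap.toMatrix'_comp]
      convert LinearMap.toMatrix'_id using 2
      ext v
      simp⟩

theorem glOfEquiv_mulVec (g : (Fin n → F) ≃ₗ[F] (Fin n → F)) (v : Fin n → F) :
    ((glOfEquiv g : GL (Fin n) F) : Matrix (Fin n) (Fin n) F) *ᵥ v = g v := by
  show LinearMap.toMatrix' (g : (Fin n → F) →ₗ[F] (Fin n → F)) *ᵥ v = g v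
  rw [← Matrix.toLin'_apply, Matrix.toLin'_toMatrix']
  rfl

/-- a linear automorphism mapping one linearly independent family to another -/
theorem exists_equiv_map_family {ι : Type*} [Finite ι] (v w : ι → (Fin n → F))
    (hv : LinearIndependent F v) (hw : LinearIndependent F w) :
    ∃ g : (Fin n → F) ≃ₗ[F] (Fin n → F), ∀ i, g (v i) = w i := by
  classical
  let bv := Basis.span hv
  let bw := Basis.span hw
  let f : ↥(Submodule.span F (Set.range v)) ≃ₗ[F] ↥(Submodule.span F (Set.range w)) :=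
    bv.equiv bw (Equiv.refl ι)
  obtain ⟨g, hg⟩ := Submodule.exists_linearEquiv_restrict_eq f
  refine ⟨g, fun i => ?_⟩
  have h1 : ((bv i : ↥(Submodule.span F (Set.range v))) : Fin n → F) = v i :=
    congrArg Subtype.val (Basis.span_apply hv i)
  have h2 : ((bw i : ↥(Submodule.span F (Set.range w))) : Fin n → F) = w i :=
    congrArg Subtype.val (Basis.span_apply hw i)
  have h3 : f (bv i) = bw i := by
    simp [f]
  rw [← h1, ← hg, h3, h2]

end CTrans

section C
variable {F : Type*} [Field F] [Fintype F] {n : ℕ}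

/-- **[C-TRANS]** `GL_n` is transitive on linearly independent pairs -/
theorem exists_GL_map_pair (x₀ y₀ x y : Fin n → F) (h₀ : LinearIndependent F ![x₀, y₀])
    (h : LinearIndependent F ![x, y]) :
    ∃ A : GL (Fin n) F, (A : Matrix (Fin n) (Fin n) F) *ᵥ x₀ = x ∧
      (A : Matrix (Fin n) (Fin n) F) *ᵥ y₀ = y := by
  obtain ⟨g, hg⟩ := CTrans.exists_equiv_map_family ![x₀, y₀] ![x, y] h₀ h
  refine ⟨CTrans.glOfEquiv g, ?_, ?_⟩
  · rw [CTrans.glOfEquiv_mulVec]
    simpa using hg 0
  · rw [CTrans.glOfEquiv_mulVec]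
    simpa using hg 1

end C

end Cfsg.Agent.Lib.Helper94.SPMD
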