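import Cfsg.Agent.Lib.Helper29.M22B.Defs

/-!
# Project M22B, module [POW]: conjugating the powers of `n5P`, `g7`, `s11P`
-/

set_option autoImplicit false

namespace Cfsg.Agent.Lib.Helper62.M22BPow
open Cfsg Cfsg.Agent.Lib.Helper7 Cfsg.Agent.Lib.Helper29.M22B

/-- Conjugation relation `h^j * x^r * (h^j)⁻¹ = x^s` read off from the tables. -/
theorem conj_of_tbl {h x : Equiv.Perm GolayPt} {hT xT : List ℕ} (mh : Matches h hT)
    (mx : Matches x xT) (j r s : ℕ)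
    (hc : ∀ i < 24,
      (compT (Cfsg.Agent.Lib.Helper7.powTb hT j) (Cfsg.Agent.Lib.Helper7.powTb xT r)).getD i 0 =
      (compT (Cfsg.Agent.Lib.Helper7.powTb xT s) (Cfsg.Agent.Lib.Helper7.powTb hT j)).getD i 0) :
    h ^ j * x ^ r * (h ^ j)⁻¹ = x ^ s := by
  rw [mul_inv_eq_iff_eq_mul]
  exact Cfsg.Agent.Lib.Helper7.eq_of_matches
    (matches_mul (Cfsg.Agent.Lib.Helper7.matches_powTb mh j) (Cfsg.Agent.Lib.Helper7.matches_powTb mx r))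
    (matches_mul (Cfsg.Agent.Lib.Helper7.matches_powTb mx s) (Cfsg.Agent.Lib.Helper7.matches_powTb mh j))
    hc

theorem g7_pow_seven : g7 ^ 7 = 1 := ms_pow

theorem g7_inv : g7⁻¹ = g7 ^ 6 := by
  rw [inv_eq_iff_mul_eq_one, ← pow_succ']
  exact g7_pow_seven

theorem s11_inv : s11P⁻¹ = s11P ^ 10 := by
  rw [inv_eq_iff_mul_eq_one, ← pow_succ']
  exact s11_pow

end Cfsg.Agent.Lib.Helper62.M22BPow

namespace Cfsg.Agent.Lib.Helper29.M22B
open Cfsg Cfsg.Agent.Lib.Helper7 Cfsg.Agent.Lib.Helper92 Cfsg.Agent.Lib.Helper92.SylM22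
open Cfsg.Agent.Lib.Helper62.M22BPow

/-- [S5] from `Helper7.m4_conj_n5`. -/
theorem conj_pow_n5 (k : ℕ) (hk : ¬ 5 ∣ k) : ∃ h ∈ Spor.M22, h * n5P ^ k * h⁻¹ = n5P := by
  have hmod : n5P ^ k = n5P ^ (k % 5) := by
    rw [← orderOf_n5, pow_mod_orderOf]
  have hr : k % 5 < 5 := Nat.mod_lt _ (by norm_num)
  have hr0 : k % 5 ≠ 0 := fun h0 => hk (Nat.dvd_of_mod_eq_zero h0)
  rw [hmod]
  generalize k % 5 = r at hr hr0
  have key : ∀ j : ℕ, m4P ^ j * n5P ^ r * (m4P ^ j)⁻¹ = n5P ^ 1 →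
      ∃ h ∈ Spor.M22, h * n5P ^ r * h⁻¹ = n5P := fun j hj =>
    ⟨m4P ^ j, Spor.M22.pow_mem m4_mem j, by rw [hj, pow_one]⟩
  interval_cases r
  · exact absurd rfl hr0
  · exact key 0 (conj_of_tbl matches_m4 matches_n5 0 1 1 (by decide +kernel))
  · exact key 3 (conj_of_tbl matches_m4 matches_n5 3 2 1 (by decide +kernel))
  · exact key 1 (conj_of_tbl matches_m4 matches_n5 1 3 1 (by decide +kernel))
  · exact key 2 (conj_of_tbl matches_m4 matches_n5 2 4 1 (by decide +kernel))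

/-- [S7] from `w3 * g7 * w3⁻¹ = g7 ^ 2` (table check). -/
theorem conj_pow_g7 (k : ℕ) (hk : ¬ 7 ∣ k) :
    ∃ h ∈ Spor.M22, h * g7 ^ k * h⁻¹ = g7 ∨ h * g7 ^ k * h⁻¹ = g7⁻¹ := by
  have hord : orderOf g7 = 7 := orderOf_ms
  have hmod : g7 ^ k = g7 ^ (k % 7) := by
    rw [← hord, pow_mod_orderOf]
  have hr : k % 7 < 7 := Nat.mod_lt _ (by norm_num)
  have hr0 : k % 7 ≠ 0 := fun h0 => hk (Nat.dvd_of_mod_eq_zero h0)
  rw [hmod]
  generalize k % 7 = r at hr hr0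
  have key1 : ∀ j : ℕ, w3 ^ j * g7 ^ r * (w3 ^ j)⁻¹ = g7 ^ 1 →
      ∃ h ∈ Spor.M22, h * g7 ^ r * h⁻¹ = g7 ∨ h * g7 ^ r * h⁻¹ = g7⁻¹ := fun j hj =>
    ⟨w3 ^ j, Spor.M22.pow_mem w3_mem j, Or.inl (by rw [hj, pow_one])⟩
  have key2 : ∀ j : ℕ, w3 ^ j * g7 ^ r * (w3 ^ j)⁻¹ = g7 ^ 6 →
      ∃ h ∈ Spor.M22, h * g7 ^ r * h⁻¹ = g7 ∨ h * g7 ^ r * h⁻¹ = g7⁻¹ := fun j hj =>
    ⟨w3 ^ j, Spor.M22.pow_mem w3_mem j, Or.inr (by rw [hj, g7_inv])⟩
  interval_cases r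
  · exact absurd rfl hr0
  · exact key1 0 (conj_of_tbl matches_w3 matches_g7 0 1 1 (by decide +kernel))
  · exact key1 2 (conj_of_tbl matches_w3 matches_g7 2 2 1 (by decide +kernel))
  · exact key2 1 (conj_of_tbl matches_w3 matches_g7 1 3 6 (by decide +kernel))
  · exact key1 1 (conj_of_tbl matches_w3 matches_g7 1 4 1 (by decide +kernel))
  · exact key2 2 (conj_of_tbl matches_w3 matches_g7 2 5 6 (by decide +kernel))
  · exact key2 0 (conj_of_tbl matches_w3 matches_g7 0 6 6 (by decide +kernel))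

/-- [S11] from `Helper7.n5_conj_s11`. -/
theorem conj_pow_s11 (k : ℕ) (hk : ¬ 11 ∣ k) :
    ∃ h ∈ Spor.M22, h * s11P ^ k * h⁻¹ = s11P ∨ h * s11P ^ k * h⁻¹ = s11P⁻¹ := by
  have hmod : s11P ^ k = s11P ^ (k % 11) := by
    rw [← orderOf_s11, pow_mod_orderOf]
  have hr : k % 11 < 11 := Nat.mod_lt _ (by norm_num)
  have hr0 : k % 11 ≠ 0 := fun h0 => hk (Nat.dvd_of_mod_eq_zero h0)
  rw [hmod]
  generalize k % 11 = r at hr hr0
  have key1 : ∀ j : ℕ, n5P ^ j * s11P ^ r * (n5P ^ j)⁻¹ = s11P ^ 1 →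
      ∃ h ∈ Spor.M22, h * s11P ^ r * h⁻¹ = s11P ∨ h * s11P ^ r * h⁻¹ = s11P⁻¹ := fun j hj =>
    ⟨n5P ^ j, Spor.M22.pow_mem n5_mem j, Or.inl (by rw [hj, pow_one])⟩
  have key2 : ∀ j : ℕ, n5P ^ j * s11P ^ r * (n5P ^ j)⁻¹ = s11P ^ 10 →
      ∃ h ∈ Spor.M22, h * s11P ^ r * h⁻¹ = s11P ∨ h * s11P ^ r * h⁻¹ = s11P⁻¹ := fun j hj =>
    ⟨n5P ^ j, Spor.M22.pow_mem n5_mem j, Or.inr (by rw [hj, s11_inv])⟩
  interval_cases r
  · exact absurd rfl hr0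
  · exact key1 0 (conj_of_tbl matches_n5 matches_s11 0 1 1 (by decide +kernel))
  · exact key2 3 (conj_of_tbl matches_n5 matches_s11 3 2 10 (by decide +kernel))
  · exact key1 4 (conj_of_tbl matches_n5 matches_s11 4 3 1 (by decide +kernel))
  · exact key1 1 (conj_of_tbl matches_n5 matches_s11 1 4 1 (by decide +kernel))
  · exact key1 2 (conj_of_tbl matches_n5 matches_s11 2 5 1 (by decide +kernel))
  · exact key2 2 (conj_of_tbl matches_n5 matches_s11 2 6 10 (by decide +kernel))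
  · exact key2 1 (conj_of_tbl matches_n5 matches_s11 1 7 10 (by decide +kernel))
  · exact key2 4 (conj_of_tbl matches_n5 matches_s11 4 8 10 (by decide +kernel))
  · exact key1 3 (conj_of_tbl matches_n5 matches_s11 3 9 1 (by decide +kernel))
  · exact key2 0 (conj_of_tbl matches_n5 matches_s11 0 10 10 (by decide +kernel))

end Cfsg.Agent.Lib.Helper29.M22B
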