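import Mathlib
import Cfsg.Agent.Lib.Helper30.BSW.CharDefs

set_option autoImplicit false

/-!
# S3282 modules [L1a] `lat_two` and [L1b] `lat_three` (helper62), board post #3980

Pure lattice arithmetic: the vectors `g ψ` (`ψ ≠ o, ν`) are `e₀ + e_P - e_M`, the vector `g ν`
is `e₀ ± e_a ± e_b ± e_c`.
-/

namespace Cfsg.Agent.Lib.Helper62.BSW

open Cfsg Cfsg.Agent.Lib.Helper30.BSW

variable {I Ψ : Type*} [Fintype I] [Fintype Ψ] [DecidableEq I] [DecidableEq Ψ]
  {i₀ : I} {deg : I → ℤ} {o : Ψ} {ι : Ψ → Ψ} {ν : Ψ} {g : Ψ → I → ℤ}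

theorem sum_ev_mul (a : I) (w : I → ℤ) : ∑ i, ev a i * w i = w a := by
  unfold ev
  simp

theorem ev_self (a : I) : ev a a = 1 := by simp [ev]

theorem ev_ne {a i : I} (h : i ≠ a) : ev a i = 0 := by simp [ev, h]

/-- an integer vector with square sum `n ≤ 3` has entries `0, ±1` and exactly `n` nonzero ones. -/
theorem support_of_sq_sum (v : I → ℤ) (n : ℕ) (hn : n ≤ 3) (h : ∑ i, v i ^ 2 = (n : ℤ)) :
    (∀ i, v i = -1 ∨ v i = 0 ∨ v i = 1) ∧
      (Finset.univ.filter (fun i => v i ≠ 0)).card = n := by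
  have hle : ∀ i, v i ^ 2 ≤ 3 := by
    intro i
    have h1 : v i ^ 2 ≤ ∑ i, v i ^ 2 :=
      Finset.single_le_sum (f := fun i => v i ^ 2) (fun j _ => sq_nonneg (v j))
        (Finset.mem_univ i)
    rw [h] at h1
    have h2 : (n : ℤ) ≤ 3 := by exact_mod_cast hn
    linarith
  have hval : ∀ i, v i = -1 ∨ v i = 0 ∨ v i = 1 := by
    intro i
    have h := hle i
    have h1 : -1 ≤ v i := by nlinarith
    have h3 : v i ≤ 1 := by nlinarith
    omega
  refine ⟨hval, ?_⟩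
  have hsq : ∀ i, v i ^ 2 = if v i ≠ 0 then 1 else 0 := by
    intro i
    rcases hval i with h | h | h <;> simp [h]
  have h4 : ∑ i, v i ^ 2 = ((Finset.univ.filter (fun i => v i ≠ 0)).card : ℤ) := by
    rw [Finset.sum_congr rfl (fun i _ => hsq i), Finset.sum_boole]
  rw [h] at h4
  exact_mod_cast h4.symm

/-- **[L1a]** -/
theorem lat_two (hL : LatHyp i₀ deg o ι ν g) {ψ : Ψ} (hψo : ψ ≠ o) (hψν : ψ ≠ ν) :
    ∃ P M : I, P ≠ M ∧ P ≠ i₀ ∧ M ≠ i₀ ∧ (∀ i, g ψ i = ev i₀ i + ev P i - ev M i) ∧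
      deg M = deg P + 1 := by
  have hfix : ι ψ ≠ ψ := by
    intro h
    rcases (hL.ι_fix ψ).mp h with h | h
    · exact hψo h
    · exact hψν h
  have hgram : ∑ i, g ψ i * g ψ i = 3 := by
    rw [hL.gram ψ ψ hψo hψo, if_pos rfl, if_neg (fun h => hfix h.symm)]; norm_num
  have hsq : ∑ i, (g ψ i - ev i₀ i) ^ 2 = ((2 : ℕ) : ℤ) := by
    have h1 : ∀ i, (g ψ i - ev i₀ i) ^ 2 =
        g ψ i * g ψ i - 2 * (ev i₀ i * g ψ i) + ev i₀ i * ev i₀ i := by intro i; ring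
    rw [Finset.sum_congr rfl (fun i _ => h1 i), Finset.sum_add_distrib, Finset.sum_sub_distrib,
      ← Finset.mul_sum, sum_ev_mul, sum_ev_mul, hgram, hL.g_i₀ ψ hψo, ev_self]
    norm_num
  have hdeg : ∑ i, (g ψ i - ev i₀ i) * deg i = -1 := by
    have h1 : ∀ i, (g ψ i - ev i₀ i) * deg i = g ψ i * deg i - ev i₀ i * deg i := by
      intro i; ring
    rw [Finset.sum_congr rfl (fun i _ => h1 i), Finset.sum_sub_distrib, hL.gdeg ψ, sum_ev_mul,
      hL.deg_i₀]
    norm_num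
  have hv0 : g ψ i₀ - ev i₀ i₀ = 0 := by rw [hL.g_i₀ ψ hψo, ev_self]; norm_num
  generalize hv : (fun i => g ψ i - ev i₀ i) = v at *
  have hvi : ∀ i, g ψ i = ev i₀ i + v i := by
    intro i
    have h5 : g ψ i - ev i₀ i = v i := congrFun hv i
    linarith
  have hsq' : ∑ i, v i ^ 2 = ((2 : ℕ) : ℤ) := by
    rw [← hv]; exact hsq
  have hdeg' : ∑ i, v i * deg i = -1 := by
    rw [← hv]; exact hdeg
  have hv0' : v i₀ = 0 := by
    rw [← hv]; exact hv0
  obtain ⟨hval, hcard⟩ := support_of_sq_sum v 2 (by norm_num) hsq'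
  obtain ⟨x, y, hxy, hS⟩ := Finset.card_eq_two.mp hcard
  have hx : v x ≠ 0 := by
    have : x ∈ Finset.univ.filter (fun i => v i ≠ 0) := by rw [hS]; simp
    exact (Finset.mem_filter.mp this).2
  have hy : v y ≠ 0 := by
    have : y ∈ Finset.univ.filter (fun i => v i ≠ 0) := by rw [hS]; simp
    exact (Finset.mem_filter.mp this).2
  have hother : ∀ i, i ≠ x → i ≠ y → v i = 0 := by
    intro i hix hiy
    by_contra hne
    have : i ∈ Finset.univ.filter (fun i => v i ≠ 0) := by simp [hne]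
    rw [hS] at this
    simp at this
    rcases this with h | h
    · exact hix h
    · exact hiy h
  have hsum : v x * deg x + v y * deg y = -1 := by
    rw [← hdeg', ← Finset.add_sum_erase Finset.univ _ (Finset.mem_univ x),
      ← Finset.add_sum_erase (Finset.univ.erase x) _
        (Finset.mem_erase.mpr ⟨Ne.symm hxy, Finset.mem_univ y⟩)]
    have : ∑ i ∈ (Finset.univ.erase x).erase y, v i * deg i = 0 := by
      apply Finset.sum_eq_zero
      intro i hi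
      have hiy : i ≠ y := (Finset.mem_erase.mp hi).1
      have hix : i ≠ x := (Finset.mem_erase.mp (Finset.mem_erase.mp hi).2).1
      rw [hother i hix hiy, zero_mul]
    rw [this, add_zero]
  have hxi : x ≠ i₀ := by
    rintro rfl
    exact hx hv0'
  have hyi : y ≠ i₀ := by
    rintro rfl
    exact hy hv0'
  have hdx := hL.deg_pos x
  have hdy := hL.deg_pos y
  -- the final shape, for `v P = 1`, `v M = -1`
  have fin : ∀ P M : I, P ≠ M → v P = 1 → v M = -1 → (∀ i, i ≠ P → i ≠ M → v i = 0) →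
      ∀ i, g ψ i = ev i₀ i + ev P i - ev M i := by
    intro P M hPM hP hM hoth i
    rw [hvi i]
    by_cases hiP : i = P
    · subst hiP
      rw [hP, ev_self, ev_ne hPM]; ring
    · by_cases hiM : i = M
      · subst hiM
        rw [hM, ev_self, ev_ne hiP]; ring
      · rw [hoth i hiP hiM, ev_ne hiP, ev_ne hiM]; ring
  rcases hval x with h1 | h1 | h1
  · rcases hval y with h3 | h3 | h3
    · rw [h1, h3] at hsum; exfalso; nlinarith
    · exact absurd h3 hy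
    · refine ⟨y, x, Ne.symm hxy, hyi, hxi, fin y x (Ne.symm hxy) h3 h1
        (fun i hiy hix => hother i hix hiy), ?_⟩
      rw [h1, h3] at hsum; linarith
  · exact absurd h1 hx
  · rcases hval y with h3 | h3 | h3
    · refine ⟨x, y, hxy, hxi, hyi, fin x y hxy h1 h3 hother, ?_⟩
      rw [h1, h3] at hsum; linarith
    · exact absurd h3 hy
    · rw [h1, h3] at hsum; exfalso; nlinarith

/-- the support of `g ν` off `i₀`. -/
theorem nu_support (hL : LatHyp i₀ deg o ι ν g) :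
    g ν i₀ = 1 ∧ (∀ i, i ≠ i₀ → (g ν i = -1 ∨ g ν i = 0 ∨ g ν i = 1)) ∧
      (Finset.univ.filter (fun i => i ≠ i₀ ∧ g ν i ≠ 0)).card = 3 := by
  have hfix : ι ν = ν := (hL.ι_fix ν).mpr (Or.inr rfl)
  have hgram : ∑ i, g ν i * g ν i = 4 := by
    rw [hL.gram ν ν hL.ν_ne hL.ν_ne, if_pos rfl, if_pos hfix.symm]; norm_num
  have hsq : ∑ i, (g ν i - ev i₀ i) ^ 2 = ((3 : ℕ) : ℤ) := by
    have h1 : ∀ i, (g ν i - ev i₀ i) ^ 2 =
        g ν i * g ν i - 2 * (ev i₀ i * g ν i) + ev i₀ i * ev i₀ i := by intro i; ring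
    rw [Finset.sum_congr rfl (fun i _ => h1 i), Finset.sum_add_distrib, Finset.sum_sub_distrib,
      ← Finset.mul_sum, sum_ev_mul, sum_ev_mul, hgram, hL.g_i₀ ν hL.ν_ne, ev_self]
    norm_num
  obtain ⟨hval, hcard⟩ := support_of_sq_sum (fun i => g ν i - ev i₀ i) 3 le_rfl hsq
  refine ⟨hL.g_i₀ ν hL.ν_ne, ?_, ?_⟩
  · intro i hi
    have := hval i
    simp only [ev_ne hi, sub_zero] at this
    exact this
  · rw [← hcard]
    congr 1
    apply Finset.filter_congr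
    intro i _
    by_cases hi : i = i₀
    · subst hi
      simp [hL.g_i₀ ν hL.ν_ne, ev_self]
    · simp [hi, ev_ne hi]

/-- expansion of `g ν` along two known support points. -/
theorem nu_expand_two (hL : LatHyp i₀ deg o ι ν g) {x y : I} (hx : x ≠ i₀) (hgx : g ν x ≠ 0)
    (hy : y ≠ i₀) (hgy : g ν y ≠ 0) (hxy : x ≠ y) :
    ∃ z, x ≠ z ∧ y ≠ z ∧ z ≠ i₀ ∧ (g ν z = 1 ∨ g ν z = -1) ∧
      ∀ i, g ν i = ev i₀ i + g ν x * ev x i + g ν y * ev y i + g ν z * ev z i := by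
  obtain ⟨h0, hval, hcard⟩ := nu_support hL
  set T := Finset.univ.filter (fun i => i ≠ i₀ ∧ g ν i ≠ 0) with hT
  have hxT : x ∈ T := by rw [hT]; simp [hx, hgx]
  have hyT : y ∈ T := by rw [hT]; simp [hy, hgy]
  have hyT' : y ∈ T.erase x := Finset.mem_erase.mpr ⟨Ne.symm hxy, hyT⟩
  have hc1 : ((T.erase x).erase y).card = 1 := by
    rw [Finset.card_erase_of_mem hyT', Finset.card_erase_of_mem hxT, hcard]
  obtain ⟨z, hz⟩ := Finset.card_eq_one.mp hc1
  have hzT : z ∈ (T.erase x).erase y := by rw [hz]; simp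
  have hzy : z ≠ y := (Finset.mem_erase.mp hzT).1
  have hzx : z ≠ x := (Finset.mem_erase.mp (Finset.mem_erase.mp hzT).2).1
  have hzT' : z ∈ T := (Finset.mem_erase.mp (Finset.mem_erase.mp hzT).2).2
  have hz0 : z ≠ i₀ := by
    rw [hT] at hzT'; exact (Finset.mem_filter.mp hzT').2.1
  have hgz : g ν z ≠ 0 := by
    rw [hT] at hzT'; exact (Finset.mem_filter.mp hzT').2.2
  have hmem : ∀ i, i ≠ i₀ → i ≠ x → i ≠ y → i ≠ z → g ν i = 0 := by
    intro i hi0 hix hiy hiz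
    by_contra hne
    have hiT : i ∈ T := by rw [hT]; simp [hi0, hne]
    have : i ∈ (T.erase x).erase y :=
      Finset.mem_erase.mpr ⟨hiy, Finset.mem_erase.mpr ⟨hix, hiT⟩⟩
    rw [hz] at this
    exact hiz (Finset.mem_singleton.mp this)
  refine ⟨z, Ne.symm hzx, Ne.symm hzy, hz0, ?_, ?_⟩
  · rcases hval z hz0 with h | h | h
    · right; exact h
    · exact absurd h hgz
    · left; exact h
  · intro i
    by_cases hi0 : i = i₀
    · subst hi0
      rw [h0, ev_self, ev_ne (Ne.symm hx), ev_ne (Ne.symm hy), ev_ne (Ne.symm hz0)]; ring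
    · by_cases hix : i = x
      · subst hix
        rw [ev_self, ev_ne hi0, ev_ne hxy, ev_ne (Ne.symm hzx)]; ring
      · by_cases hiy : i = y
        · subst hiy
          rw [ev_self, ev_ne hi0, ev_ne hix, ev_ne (Ne.symm hzy)]; ring
        · by_cases hiz : i = z
          · subst hiz
            rw [ev_self, ev_ne hi0, ev_ne hix, ev_ne hiy]; ring
          · rw [hmem i hi0 hix hiy hiz, ev_ne hi0, ev_ne hix, ev_ne hiy, ev_ne hiz]; ring

/-- expansion of `g ν` along one known support point. -/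
theorem nu_expand_one (hL : LatHyp i₀ deg o ι ν g) {x : I} (hx : x ≠ i₀) (hgx : g ν x ≠ 0) :
    ∃ y z, x ≠ y ∧ x ≠ z ∧ y ≠ z ∧ y ≠ i₀ ∧ z ≠ i₀ ∧ (g ν y = 1 ∨ g ν y = -1) ∧
      (g ν z = 1 ∨ g ν z = -1) ∧
      ∀ i, g ν i = ev i₀ i + g ν x * ev x i + g ν y * ev y i + g ν z * ev z i := by
  obtain ⟨h0, hval, hcard⟩ := nu_support hL
  have hxT : x ∈ Finset.univ.filter (fun i => i ≠ i₀ ∧ g ν i ≠ 0) := by simp [hx, hgx]
  obtain ⟨y, hyT, hyx⟩ := Finset.exists_mem_ne (by rw [hcard]; norm_num) x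
  have hy0 : y ≠ i₀ := (Finset.mem_filter.mp hyT).2.1
  have hgy : g ν y ≠ 0 := (Finset.mem_filter.mp hyT).2.2
  obtain ⟨z, hxz, hyz, hz0, hgz, hform⟩ := nu_expand_two hL hx hgx hy0 hgy (Ne.symm hyx)
  refine ⟨y, z, Ne.symm hyx, hxz, hyz, hy0, hz0, ?_, hgz, hform⟩
  rcases hval y hy0 with h | h | h
  · right; exact h
  · exact absurd h hgy
  · left; exact h

/-- **[L1b]** -/
theorem lat_three (hL : LatHyp i₀ deg o ι ν g) :
    ∃ (a b c : I) (ea eb ec : ℤ), a ≠ b ∧ a ≠ c ∧ b ≠ c ∧ a ≠ i₀ ∧ b ≠ i₀ ∧ c ≠ i₀ ∧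
      (ea = 1 ∨ ea = -1) ∧ (eb = 1 ∨ eb = -1) ∧ (ec = 1 ∨ ec = -1) ∧
      ∀ i, g ν i = ev i₀ i + ea * ev a i + eb * ev b i + ec * ev c i := by
  obtain ⟨h0, hval, hcard⟩ := nu_support hL
  have hne : (Finset.univ.filter (fun i => i ≠ i₀ ∧ g ν i ≠ 0)).Nonempty := by
    rw [← Finset.card_pos, hcard]; norm_num
  obtain ⟨a, haT⟩ := hne
  have ha0 : a ≠ i₀ := (Finset.mem_filter.mp haT).2.1
  have hga : g ν a ≠ 0 := (Finset.mem_filter.mp haT).2.2
  obtain ⟨b, c, hab, hac, hbc, hb0, hc0, hgb, hgc, hform⟩ := nu_expand_one hL ha0 hga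
  refine ⟨a, b, c, g ν a, g ν b, g ν c, hab, hac, hbc, ha0, hb0, hc0, ?_, hgb, hgc, hform⟩
  rcases hval a ha0 with h | h | h
  · right; exact h
  · exact absurd h hga
  · left; exact h

end Cfsg.Agent.Lib.Helper62.BSW
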