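import Mathlib
import Cfsg.Agent.Lib.Helper30.BSW.CharDefs
import Cfsg.Agent.Lib.Helper62.BSWLatA

set_option autoImplicit false

/-!
# S3282 module [L1c] `lat_struct` (helper62), board post #3980

The vectors `g ψ` have shape I or shape II.
-/

namespace Cfsg.Agent.Lib.Helper62.BSW

open Cfsg Cfsg.Agent.Lib.Helper30.BSW

variable {I Ψ : Type*} [Fintype I] [Fintype Ψ] [DecidableEq I] [DecidableEq Ψ]
  {i₀ : I} {deg : I → ℤ} {o : Ψ} {ι : Ψ → Ψ} {ν : Ψ} {g : Ψ → I → ℤ}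

/-- the common form of the generic vectors: `g ψ = e₀ + δ e_X - δ e_{Θ ψ}`. -/
structure UForm (i₀ : I) (deg : I → ℤ) (o : Ψ) (ι : Ψ → Ψ) (ν : Ψ) (g : Ψ → I → ℤ) (δ : ℤ)
    (X : I) (Θ : Ψ → I) : Prop where
  hδ : δ = 1 ∨ δ = -1
  g_gen : ∀ ψ, ψ ≠ o → ψ ≠ ν → ∀ i, g ψ i = ev i₀ i + δ * ev X i - δ * ev (Θ ψ) i
  Θ_eq : ∀ ψ ψ', ψ ≠ o → ψ ≠ ν → ψ' ≠ o → ψ' ≠ ν → (Θ ψ = Θ ψ' ↔ ψ' = ψ ∨ ψ' = ι ψ)
  X_ne : X ≠ i₀
  Θ_ne : ∀ ψ, ψ ≠ o → ψ ≠ ν → Θ ψ ≠ i₀ ∧ Θ ψ ≠ X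
  degΘ : ∀ ψ, ψ ≠ o → ψ ≠ ν → deg (Θ ψ) = deg X + δ

theorem pair_cases {P M P' M' : I} (hPM : P ≠ M) (hPM' : P' ≠ M') {n : ℤ}
    (h : (if P = P' then (1 : ℤ) else 0) - (if P = M' then 1 else 0) -
      (if M = P' then 1 else 0) + (if M = M' then 1 else 0) = n) :
    (n = 2 → P = P' ∧ M = M') ∧
      (n = 1 → (P = P' ↔ M ≠ M') ∧ P ≠ M' ∧ M ≠ P') := by
  by_cases h1 : P = P'
  · rw [if_pos h1] at h
    by_cases h2 : P = M'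
    · exact absurd (h1.symm.trans h2) hPM'
    · rw [if_neg h2] at h
      by_cases h3 : M = P'
      · exact absurd (h1.trans h3.symm) hPM
      · rw [if_neg h3] at h
        by_cases h4 : M = M'
        · rw [if_pos h4] at h
          exact ⟨fun _ => ⟨h1, h4⟩, fun hn => by omega⟩
        · rw [if_neg h4] at h
          exact ⟨fun hn => by omega, fun _ => ⟨⟨fun _ => h4, fun _ => h1⟩, h2, h3⟩⟩
  · rw [if_neg h1] at h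
    by_cases h4 : M = M'
    · rw [if_pos h4] at h
      by_cases h2 : P = M'
      · exact absurd (h2.trans h4.symm) hPM
      · rw [if_neg h2] at h
        by_cases h3 : M = P'
        · exact absurd (h3.symm.trans h4) hPM'
        · rw [if_neg h3] at h
          exact ⟨fun hn => by omega,
            fun _ => ⟨⟨fun hh => absurd hh h1, fun hh => absurd h4 hh⟩, h2, h3⟩⟩
    · rw [if_neg h4] at h
      have hle : n ≤ 0 := by split_ifs at h <;> omega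
      exact ⟨fun hn => by omega, fun hn => by omega⟩

theorem gram_two_form {P M P' M' : I} (hP : P ≠ i₀) (hM : M ≠ i₀) (hP' : P' ≠ i₀)
    (hM' : M' ≠ i₀) (u w : I → ℤ) (hu : ∀ i, u i = ev i₀ i + ev P i - ev M i)
    (hw : ∀ i, w i = ev i₀ i + ev P' i - ev M' i) :
    ∑ i, u i * w i = 1 + ((if P = P' then (1 : ℤ) else 0) - (if P = M' then 1 else 0) -
      (if M = P' then 1 else 0) + (if M = M' then 1 else 0)) := by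
  have h1 : ∀ i, u i * w i = ev i₀ i * w i + ev P i * w i - ev M i * w i := by
    intro i; rw [hu i]; ring
  rw [Finset.sum_congr rfl (fun i _ => h1 i), Finset.sum_sub_distrib, Finset.sum_add_distrib,
    sum_ev_mul, sum_ev_mul, sum_ev_mul, hw i₀, hw P, hw M, ev_self, ev_ne (Ne.symm hP'),
    ev_ne (Ne.symm hM'), ev_ne hP, ev_ne hM]
  unfold ev
  ring

theorem exists_generic (hL : LatHyp i₀ deg o ι ν g) : ∃ ψ : Ψ, ψ ≠ o ∧ ψ ≠ ν := by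
  by_contra hno
  push Not at hno
  have hsub : (Finset.univ : Finset Ψ) ⊆ {o, ν} := by
    intro ψ _
    by_cases h1 : ψ = o
    · simp [h1]
    · simp [hno ψ h1]
  have h1 := Finset.card_le_card hsub
  have h2 : ({o, ν} : Finset Ψ).card ≤ 2 := Finset.card_le_two
  have h3 := hL.card_Ψ
  rw [← Finset.card_univ] at h3
  omega

theorem uform_exists (hL : LatHyp i₀ deg o ι ν g) :
    ∃ (δ : ℤ) (X : I) (Θ : Ψ → I), UForm i₀ deg o ι ν g δ X Θ := by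
  have htot : ∀ ψ, ∃ P M : I, ψ ≠ o → ψ ≠ ν → (P ≠ M ∧ P ≠ i₀ ∧ M ≠ i₀ ∧
      (∀ i, g ψ i = ev i₀ i + ev P i - ev M i) ∧ deg M = deg P + 1) := by
    intro ψ
    by_cases h1 : ψ = o
    · exact ⟨i₀, i₀, fun h => absurd h1 h⟩
    · by_cases h2 : ψ = ν
      · exact ⟨i₀, i₀, fun _ h => absurd h2 h⟩
      · obtain ⟨P, M, h⟩ := lat_two hL h1 h2
        exact ⟨P, M, fun _ _ => h⟩
  choose P M hPM using htot
  have hfix : ∀ ψ, ψ ≠ o → ψ ≠ ν → ι ψ ≠ ψ := by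
    intro ψ h1 h2 h
    rcases (hL.ι_fix ψ).mp h with h | h
    · exact h1 h
    · exact h2 h
  -- the Gram relation
  have hK : ∀ ψ ψ', ψ ≠ o → ψ ≠ ν → ψ' ≠ o → ψ' ≠ ν →
      (if P ψ = P ψ' then (1 : ℤ) else 0) - (if P ψ = M ψ' then 1 else 0) -
        (if M ψ = P ψ' then 1 else 0) + (if M ψ = M ψ' then 1 else 0) =
      1 + (if ψ = ψ' then 1 else 0) + (if ψ = ι ψ' then 1 else 0) := by
    intro ψ ψ' h1 h2 h1' h2'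
    obtain ⟨-, hP, hM, hg, -⟩ := hPM ψ h1 h2
    obtain ⟨-, hP', hM', hg', -⟩ := hPM ψ' h1' h2'
    have e1 := gram_two_form hP hM hP' hM' (g ψ) (g ψ') hg hg'
    have e2 := hL.gram ψ ψ' h1 h1'
    linarith
  have hsame : ∀ ψ ψ', ψ ≠ o → ψ ≠ ν → ψ' ≠ o → ψ' ≠ ν → (ψ' = ψ ∨ ψ' = ι ψ) →
      P ψ = P ψ' ∧ M ψ = M ψ' := by
    intro ψ ψ' h1 h2 h1' h2' hcl
    have hk := hK ψ ψ' h1 h2 h1' h2'
    have hn : (1 : ℤ) + (if ψ = ψ' then 1 else 0) + (if ψ = ι ψ' then 1 else 0) = 2 := by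
      rcases hcl with rfl | rfl
      · rw [if_pos rfl, if_neg (fun h => hfix ψ' h1 h2 h.symm)]; norm_num
      · rw [if_neg (fun h => hfix ψ h1 h2 h.symm), if_pos (hL.ι_ι ψ).symm]; norm_num
    exact (pair_cases (hPM ψ h1 h2).1 (hPM ψ' h1' h2').1 hk).1 hn
  have hdiff : ∀ ψ ψ', ψ ≠ o → ψ ≠ ν → ψ' ≠ o → ψ' ≠ ν → ¬ (ψ' = ψ ∨ ψ' = ι ψ) →
      (P ψ = P ψ' ↔ M ψ ≠ M ψ') ∧ P ψ ≠ M ψ' ∧ M ψ ≠ P ψ' := by
    intro ψ ψ' h1 h2 h1' h2' hcl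
    push Not at hcl
    have hk := hK ψ ψ' h1 h2 h1' h2'
    have hn : (1 : ℤ) + (if ψ = ψ' then 1 else 0) + (if ψ = ι ψ' then 1 else 0) = 1 := by
      rw [if_neg (fun h => hcl.1 h.symm), if_neg]
      · norm_num
      · intro h
        apply hcl.2
        rw [h, hL.ι_ι]
    exact (pair_cases (hPM ψ h1 h2).1 (hPM ψ' h1' h2').1 hk).2 hn
  obtain ⟨ψ₀, h0o, h0ν⟩ := exists_generic hL
  by_cases hA : ∀ ψ, ψ ≠ o → ψ ≠ ν → P ψ = P ψ₀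
  · -- form A
    refine ⟨1, P ψ₀, M, ⟨Or.inl rfl, ?_, ?_, (hPM ψ₀ h0o h0ν).2.1, ?_, ?_⟩⟩
    · intro ψ h1 h2 i
      rw [(hPM ψ h1 h2).2.2.2.1 i, hA ψ h1 h2]; ring
    · intro ψ ψ' h1 h2 h1' h2'
      constructor
      · intro hMM
        by_contra hcl
        have h3 := (hdiff ψ ψ' h1 h2 h1' h2' hcl).1
        exact h3.mp ((hA ψ h1 h2).trans (hA ψ' h1' h2').symm) hMM
      · intro hcl
        exact (hsame ψ ψ' h1 h2 h1' h2' hcl).2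
    · intro ψ h1 h2
      refine ⟨(hPM ψ h1 h2).2.2.1, ?_⟩
      rw [← hA ψ h1 h2]
      exact Ne.symm (hPM ψ h1 h2).1
    · intro ψ h1 h2
      rw [(hPM ψ h1 h2).2.2.2.2, hA ψ h1 h2]
  · by_cases hB : ∀ ψ, ψ ≠ o → ψ ≠ ν → M ψ = M ψ₀
    · -- form B
      refine ⟨-1, M ψ₀, P, ⟨Or.inr rfl, ?_, ?_, (hPM ψ₀ h0o h0ν).2.2.1, ?_, ?_⟩⟩
      · intro ψ h1 h2 i
        rw [(hPM ψ h1 h2).2.2.2.1 i, hB ψ h1 h2]; ring
      · intro ψ ψ' h1 h2 h1' h2'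
        constructor
        · intro hPP
          by_contra hcl
          have h3 := (hdiff ψ ψ' h1 h2 h1' h2' hcl).1
          exact h3.mp hPP ((hB ψ h1 h2).trans (hB ψ' h1' h2').symm)
        · intro hcl
          exact (hsame ψ ψ' h1 h2 h1' h2' hcl).1
      · intro ψ h1 h2
        refine ⟨(hPM ψ h1 h2).2.1, ?_⟩
        rw [← hB ψ h1 h2]
        exact (hPM ψ h1 h2).1
      · intro ψ h1 h2
        have := (hPM ψ h1 h2).2.2.2.2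
        rw [hB ψ h1 h2] at this
        linarith
    · exfalso
      push Not at hA hB
      obtain ⟨ψ₁, h1o, h1ν, hP1⟩ := hA
      obtain ⟨ψ₂, h2o, h2ν, hM2⟩ := hB
      -- `ψ₁` is not in the class of `ψ₀`
      have hc1 : ¬ (ψ₁ = ψ₀ ∨ ψ₁ = ι ψ₀) := fun hcl =>
        hP1 (hsame ψ₀ ψ₁ h0o h0ν h1o h1ν hcl).1.symm
      have hc2 : ¬ (ψ₂ = ψ₀ ∨ ψ₂ = ι ψ₀) := fun hcl =>
        hM2 (hsame ψ₀ ψ₂ h0o h0ν h2o h2ν hcl).2.symm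
      have hM1 : M ψ₀ = M ψ₁ := by
        by_contra hne
        exact hP1 ((hdiff ψ₀ ψ₁ h0o h0ν h1o h1ν hc1).1.mpr hne).symm
      have hP2 : P ψ₀ = P ψ₂ := by
        by_contra hne
        exact hne ((hdiff ψ₀ ψ₂ h0o h0ν h2o h2ν hc2).1.mpr (fun h => hM2 h.symm))
      by_cases hc12 : ψ₂ = ψ₁ ∨ ψ₂ = ι ψ₁
      · have := (hsame ψ₁ ψ₂ h1o h1ν h2o h2ν hc12).1
        exact hP1 (this.trans hP2.symm)
      · have h3 := (hdiff ψ₁ ψ₂ h1o h1ν h2o h2ν hc12).1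
        have hne : P ψ₁ ≠ P ψ₂ := fun h => hP1 (h.trans hP2.symm)
        have : M ψ₁ = M ψ₂ := by
          by_contra hne2
          exact hne (h3.mpr hne2)
        exact hM2 (this.symm.trans hM1.symm)

theorem uform_nu (hL : LatHyp i₀ deg o ι ν g) {δ : ℤ} {X : I} {Θ : Ψ → I}
    (hU : UForm i₀ deg o ι ν g δ X Θ) {ψ : Ψ} (h1 : ψ ≠ o) (h2 : ψ ≠ ν) :
    g ν X - g ν (Θ ψ) = δ := by
  have hfix : ι ν = ν := (hL.ι_fix ν).mpr (Or.inr rfl)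
  have e1 := hL.gram ν ψ hL.ν_ne h1
  rw [if_neg (Ne.symm h2), if_neg] at e1
  swap
  · intro h
    apply h2
    have : ι ν = ψ := by rw [h, hL.ι_ι]
    rw [← this, hfix]
  have e2 : ∀ i, g ν i * g ψ i =
      ev i₀ i * g ν i + δ * (ev X i * g ν i) - δ * (ev (Θ ψ) i * g ν i) := by
    intro i; rw [hU.g_gen ψ h1 h2 i]; ring
  rw [Finset.sum_congr rfl (fun i _ => e2 i), Finset.sum_sub_distrib, Finset.sum_add_distrib,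
    ← Finset.mul_sum, ← Finset.mul_sum, sum_ev_mul, sum_ev_mul, sum_ev_mul,
    hL.g_i₀ ν hL.ν_ne] at e1
  rcases hU.hδ with hd | hd <;> rw [hd] at e1 ⊢ <;> linarith

theorem uform_swap {δ : ℤ} {X : I} {Θ : Ψ → I} (hU : UForm i₀ deg o ι ν g δ X Θ) {ψ₀ : Ψ}
    (h0o : ψ₀ ≠ o) (h0ν : ψ₀ ≠ ν) (hall : ∀ ψ, ψ ≠ o → ψ ≠ ν → Θ ψ = Θ ψ₀) :
    UForm i₀ deg o ι ν g (-δ) (Θ ψ₀) (fun _ => X) := by
  refine ⟨?_, ?_, ?_, (hU.Θ_ne ψ₀ h0o h0ν).1, ?_, ?_⟩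
  · rcases hU.hδ with h | h
    · right; rw [h]
    · left; rw [h]; norm_num
  · intro ψ h1 h2 i
    rw [hU.g_gen ψ h1 h2 i, hall ψ h1 h2]; ring
  · intro ψ ψ' h1 h2 h1' h2'
    constructor
    · intro _
      exact (hU.Θ_eq ψ ψ' h1 h2 h1' h2').mp ((hall ψ h1 h2).trans (hall ψ' h1' h2').symm)
    · intro _; rfl
  · intro ψ _ _
    exact ⟨hU.X_ne, Ne.symm (hU.Θ_ne ψ₀ h0o h0ν).2⟩
  · intro ψ _ _
    have := hU.degΘ ψ₀ h0o h0ν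
    linarith

theorem uform_shapeI (hL : LatHyp i₀ deg o ι ν g) {δ : ℤ} {X : I} {Θ : Ψ → I}
    (hU : UForm i₀ deg o ι ν g δ X Θ) (hX : g ν X = δ) :
    ∃ (e₂ e₃ : ℤ) (Y₂ Y₃ : I), LatI i₀ o ι ν g δ X Θ e₂ e₃ Y₂ Y₃ := by
  have hδ0 : δ ≠ 0 := by rcases hU.hδ with h | h <;> rw [h] <;> norm_num
  obtain ⟨y, z, hXy, hXz, hyz, hy0, hz0, hgy, hgz, hform⟩ :=
    nu_expand_one hL hU.X_ne (by rw [hX]; exact hδ0)
  have hΘ0 : ∀ ψ, ψ ≠ o → ψ ≠ ν → g ν (Θ ψ) = 0 := by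
    intro ψ h1 h2
    have := uform_nu hL hU h1 h2
    linarith
  have hgy0 : g ν y ≠ 0 := by rcases hgy with h | h <;> rw [h] <;> norm_num
  have hgz0 : g ν z ≠ 0 := by rcases hgz with h | h <;> rw [h] <;> norm_num
  refine ⟨g ν y, g ν z, y, z, ⟨hU.hδ, hgy, hgz, hU.g_gen, ?_, hU.Θ_eq, hU.X_ne, ?_,
    ⟨hy0, Ne.symm hXy⟩, ⟨hz0, Ne.symm hXz, Ne.symm hyz⟩⟩⟩
  · intro i
    rw [hform i, hX]
  · intro ψ h1 h2
    refine ⟨(hU.Θ_ne ψ h1 h2).1, (hU.Θ_ne ψ h1 h2).2, ?_, ?_⟩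
    · intro h
      apply hgy0
      rw [← h]; exact hΘ0 ψ h1 h2
    · intro h
      apply hgz0
      rw [← h]; exact hΘ0 ψ h1 h2

theorem uform_shapeII (hL : LatHyp i₀ deg o ι ν g) {δ : ℤ} {X : I} {Θ : Ψ → I}
    (hU : UForm i₀ deg o ι ν g δ X Θ) (hX : g ν X = 0) {ψ₀ ψ₁ : Ψ} (h0o : ψ₀ ≠ o)
    (h0ν : ψ₀ ≠ ν) (h1o : ψ₁ ≠ o) (h1ν : ψ₁ ≠ ν) (hne : Θ ψ₁ ≠ Θ ψ₀) :
    ∃ (e : ℤ) (Y : I), LatII i₀ o ι ν g δ X Θ e Y ψ₀ ψ₁ := by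
  have hδ0 : -δ ≠ 0 := by rcases hU.hδ with h | h <;> rw [h] <;> norm_num
  have hΘv : ∀ ψ, ψ ≠ o → ψ ≠ ν → g ν (Θ ψ) = -δ := by
    intro ψ h1 h2
    have := uform_nu hL hU h1 h2
    linarith
  obtain ⟨y, h0y, h1y, hy0, hgy, hform⟩ := nu_expand_two hL (hU.Θ_ne ψ₀ h0o h0ν).1
    (by rw [hΘv ψ₀ h0o h0ν]; exact hδ0) (hU.Θ_ne ψ₁ h1o h1ν).1
    (by rw [hΘv ψ₁ h1o h1ν]; exact hδ0) (Ne.symm hne)
  rw [hΘv ψ₀ h0o h0ν, hΘv ψ₁ h1o h1ν] at hform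
  have hgy0 : g ν y ≠ 0 := by rcases hgy with h | h <;> rw [h] <;> norm_num
  -- every generic `ψ` has `Θ ψ = Θ ψ₀` or `Θ ψ = Θ ψ₁`
  have hcls : ∀ ψ, ψ ≠ o → ψ ≠ ν → Θ ψ = Θ ψ₀ ∨ Θ ψ = Θ ψ₁ := by
    intro ψ h1 h2
    by_contra hno
    push Not at hno
    have hΘi : Θ ψ ≠ i₀ := (hU.Θ_ne ψ h1 h2).1
    have hΘy : Θ ψ = y := by
      by_contra hny
      have := hform (Θ ψ)
      rw [hΘv ψ h1 h2, ev_ne hΘi, ev_ne hno.1, ev_ne hno.2, ev_ne hny] at this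
      apply hδ0
      linarith
    -- three classes contradict `gdeg`
    have e1 := hL.gdeg ν
    have e2 : ∀ i, g ν i * deg i = ev i₀ i * deg i + -δ * (ev (Θ ψ₀) i * deg i) +
        -δ * (ev (Θ ψ₁) i * deg i) + g ν y * (ev y i * deg i) := by
      intro i; rw [hform i]; ring
    rw [Finset.sum_congr rfl (fun i _ => e2 i), Finset.sum_add_distrib, Finset.sum_add_distrib,
      Finset.sum_add_distrib, ← Finset.mul_sum, ← Finset.mul_sum, ← Finset.mul_sum,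
      sum_ev_mul, sum_ev_mul, sum_ev_mul, sum_ev_mul, hL.deg_i₀, ← hΘy, hΘv ψ h1 h2,
      hU.degΘ ψ₀ h0o h0ν, hU.degΘ ψ₁ h1o h1ν, hU.degΘ ψ h1 h2] at e1
    rcases hU.hδ with hd | hd <;> rw [hd] at e1 <;> omega
  have hall : ∀ ψ, ψ = o ∨ ψ = ν ∨ ψ = ψ₀ ∨ ψ = ι ψ₀ ∨ ψ = ψ₁ ∨ ψ = ι ψ₁ := by
    intro ψ
    by_cases h1 : ψ = o
    · exact Or.inl h1
    · by_cases h2 : ψ = ν
      · exact Or.inr (Or.inl h2)
      · rcases hcls ψ h1 h2 with h | h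
        · rcases (hU.Θ_eq ψ₀ ψ h0o h0ν h1 h2).mp h.symm with h3 | h3
          · exact Or.inr (Or.inr (Or.inl h3))
          · exact Or.inr (Or.inr (Or.inr (Or.inl h3)))
        · rcases (hU.Θ_eq ψ₁ ψ h1o h1ν h1 h2).mp h.symm with h3 | h3
          · exact Or.inr (Or.inr (Or.inr (Or.inr (Or.inl h3))))
          · exact Or.inr (Or.inr (Or.inr (Or.inr (Or.inr h3))))
  have h12 : ψ₁ ≠ ψ₀ ∧ ψ₁ ≠ ι ψ₀ := by
    constructor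
    · intro h
      exact hne (by rw [h])
    · intro h
      exact hne ((hU.Θ_eq ψ₀ ψ₁ h0o h0ν h1o h1ν).mpr (Or.inr h)).symm
  refine ⟨g ν y, y, ⟨hU.hδ, hgy, ⟨h0o, h0ν⟩, ⟨h1o, h1ν⟩, h12, hall, hU.g_gen, ?_, hU.Θ_eq,
    hU.X_ne, ?_, ⟨hy0, ?_⟩⟩⟩
  · intro i
    rw [hform i]; ring
  · intro ψ h1 h2
    refine ⟨(hU.Θ_ne ψ h1 h2).1, (hU.Θ_ne ψ h1 h2).2, ?_⟩
    rcases hcls ψ h1 h2 with h | h
    · rw [h]; exact h0y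
    · rw [h]; exact h1y
  · intro h
    apply hgy0
    rw [h]; exact hX

/-- **[L1c]** -/
theorem lat_struct (hL : LatHyp i₀ deg o ι ν g) :
    (∃ (δ : ℤ) (X : I) (Θ : Ψ → I) (e₂ e₃ : ℤ) (Y₂ Y₃ : I),
      LatI i₀ o ι ν g δ X Θ e₂ e₃ Y₂ Y₃) ∨
    (∃ (δ : ℤ) (X : I) (Θ : Ψ → I) (e : ℤ) (Y : I) (ψ₁ ψ₂ : Ψ),
      LatII i₀ o ι ν g δ X Θ e Y ψ₁ ψ₂) := by
  obtain ⟨ψ₀, h0o, h0ν⟩ := exists_generic hL
  obtain ⟨δ, X, Θ, hU⟩ := uform_exists hL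
  have hnu := uform_nu hL hU h0o h0ν
  obtain ⟨-, hνval, -⟩ := nu_support hL
  have hvX := hνval X hU.X_ne
  have hvΘ := hνval (Θ ψ₀) (hU.Θ_ne ψ₀ h0o h0ν).1
  have hcase : g ν X = δ ∨ g ν X = 0 := by
    rcases hU.hδ with hd | hd <;> rw [hd] at hnu ⊢ <;> omega
  rcases hcase with hX | hX
  · left
    obtain ⟨e₂, e₃, Y₂, Y₃, h⟩ := uform_shapeI hL hU hX
    exact ⟨δ, X, Θ, e₂, e₃, Y₂, Y₃, h⟩
  · by_cases hcls : ∃ ψ₁, ψ₁ ≠ o ∧ ψ₁ ≠ ν ∧ Θ ψ₁ ≠ Θ ψ₀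
    · right
      obtain ⟨ψ₁, h1o, h1ν, hne⟩ := hcls
      obtain ⟨e, Y, h⟩ := uform_shapeII hL hU hX h0o h0ν h1o h1ν hne
      exact ⟨δ, X, Θ, e, Y, ψ₀, ψ₁, h⟩
    · left
      push Not at hcls
      have hU' := uform_swap hU h0o h0ν hcls
      have hX' : g ν (Θ ψ₀) = -δ := by linarith
      obtain ⟨e₂, e₃, Y₂, Y₃, h⟩ := uform_shapeI hL hU' hX'
      exact ⟨-δ, Θ ψ₀, fun _ => X, e₂, e₃, Y₂, Y₃, h⟩

end Cfsg.Agent.Lib.Helper62.BSW
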