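import Mathlib
import Cfsg.Agent.Lib.Helper30.BSW.Defs
import Cfsg.Agent.Lib.Helper78.CharOrtho
import Cfsg.Agent.Lib.Helper84.BSWOuter
import Cfsg.Agent.Lib.Helper84.BSWReal
import Cfsg.Agent.Lib.Helper51.BSWValues

set_option autoImplicit false

/-!
# S3282 module [F2e1] (core): normalizers of `r`-subgroups in the case `δ = -1` (helper62)

`neg_abelian_normalizer_core` is the statement [F2e1] of board post #3833 with the conclusion of
module [F2b] (`neg_D`) as an extra hypothesis `hD`; the final module applies it to the landed [F2b].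
-/

namespace Cfsg.Agent.Lib.Helper62.BSW

open Cfsg Cfsg.Agent.Lib.Helper30.BSW

variable {G : Type*} [Group G] {t s : G} {K : Subgroup G}

theorem orderOf_conj_eq (g x : G) : orderOf (g * x * g⁻¹) = orderOf x :=
  orderOf_injective (MulAut.conj g).toMonoidHom (MulAut.conj g).injective x

theorem conj_ne_one_of_ne_one {g x : G} (hx : x ≠ 1) : g * x * g⁻¹ ≠ 1 := by
  intro h1
  apply hx
  have : x = g⁻¹ * (g * x * g⁻¹) * g := by group
  rw [this, h1]; group

/-- an involution normalizing `R` without nontrivial fixed points on `R` inverts `R`. -/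
theorem inverts_of_fpf_invol [Finite G] (R : Subgroup G) {u : G} (hu : orderOf u = 2)
    (huR : u ∈ Subgroup.normalizer (R : Set G))
    (hfpf : ∀ c ∈ R, u * c * u⁻¹ = c → c = 1) : ∀ c ∈ R, u * c * u⁻¹ = c⁻¹ := by
  have hu2 : u * u = 1 := by rw [← pow_two, ← hu, pow_orderOf_eq_one]
  have hnorm : ∀ c ∈ R, u * c * u⁻¹ ∈ R := fun c hc =>
    (Subgroup.mem_normalizer_iff.mp huR c).mp hc
  let φ : ↥R →* ↥R :=
    { toFun := fun c => ⟨u * c * u⁻¹, hnorm c c.2⟩
      map_one' := by apply Subtype.ext; simp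
      map_mul' := by
        intro c d
        apply Subtype.ext
        show u * ((c : G) * d) * u⁻¹ = (u * c * u⁻¹) * (u * d * u⁻¹)
        group }
  have hφ : MonoidHom.FixedPointFree φ := by
    intro c hc
    apply Subtype.ext
    exact hfpf c c.2 (congrArg Subtype.val hc)
  have h2 : Function.Involutive φ := by
    intro c
    apply Subtype.ext
    show u * (u * (c : G) * u⁻¹) * u⁻¹ = c
    have : u * (u * (c : G) * u⁻¹) * u⁻¹ = (u * u) * c * (u * u)⁻¹ := by group
    rw [this, hu2]; simp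
  intro c hc
  have := congrFun (hφ.coe_eq_inv_of_involutive h2) ⟨c, hc⟩
  exact congrArg Subtype.val this

/-- `δ = -1`, `Χ x = 0`: no involution inverts `x`. -/
theorem not_inverted_of_neg_zero [Finite G] {Χ : G → ℂ} (p : PartI K (-1) Χ) {x : G}
    (hx : IsOuter K x) (hΧ : Χ x = 0) : ∀ u : G, orderOf u = 2 → u * x * u⁻¹ ≠ x⁻¹ := by
  intro u hu hux
  have h1 := p.hout x hx
  rw [if_neg (by norm_num), hΧ, mul_zero] at h1
  have h2 : rinv x = 0 := by exact_mod_cast h1
  unfold rinv at h2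
  rcases Nat.card_eq_zero.mp h2 with h3 | h3
  · exact h3.false ⟨u, hu, hux⟩
  · exact not_finite {u : G // orderOf u = 2 ∧ u * x * u⁻¹ = x⁻¹}

/-- `δ = -1`, `Χ x = 1`: `rinv x = k - 1` and some involution inverts `x`. -/
theorem exists_invol_of_neg_one [Finite G] (hk : 4 ≤ Nat.card K) {Χ : G → ℂ}
    (p : PartI K (-1) Χ) {x : G} (hx : IsOuter K x) (hΧ : Χ x = 1) :
    rinv x + 1 = Nat.card K ∧ ∃ u : G, orderOf u = 2 ∧ u * x * u⁻¹ = x⁻¹ := by
  have h1 := p.hout x hx
  rw [if_neg (by norm_num), hΧ, mul_one] at h1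
  have h2 : rinv x + 1 = Nat.card K := by
    have : ((rinv x + 1 : ℕ) : ℂ) = (Nat.card K : ℂ) := by push_cast; rw [h1]; ring
    exact_mod_cast this
  refine ⟨h2, ?_⟩
  have h3 : rinv x ≠ 0 := by omega
  unfold rinv at h3
  have hne : Nonempty {u : G // orderOf u = 2 ∧ u * x * u⁻¹ = x⁻¹} := by
    by_contra hne
    rw [not_nonempty_iff] at hne
    exact h3 (Nat.card_eq_zero.mpr (Or.inl hne))
  obtain ⟨u, hu, hux⟩ := hne
  exact ⟨u, hu, hux⟩

/-- elements of odd order of `C_G(t) = K ∪ K s` lie in `K`. -/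
theorem mem_K_of_odd_of_mem_H (b : Basic t s K) {v : G}
    (hv : v ∈ Subgroup.centralizer ({t} : Set G)) (hodd : Odd (orderOf v)) : v ∈ K := by
  rcases (b.mem_H v).mp hv with h1 | ⟨x, hx, rfl⟩
  · exact h1
  · exfalso
    rw [b.invol_coset x hx] at hodd
    exact absurd hodd (by decide)

/-- elements of odd order of `D ⊔ ⟨u⟩`, `u` an involution inverting `D`, `u ∉ D`, lie in `D`. -/
theorem mem_of_odd_of_mem_sup_invol (D : Subgroup G) {u : G} (hu : orderOf u = 2)
    (hinv : ∀ d ∈ D, u * d * u⁻¹ = d⁻¹) (huD : u ∉ D) {g : G}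
    (hg : g ∈ D ⊔ Subgroup.zpowers u) (hodd : Odd (orderOf g)) : g ∈ D := by
  have hu2 : u * u = 1 := by rw [← pow_two, ← hu, pow_orderOf_eq_one]
  have huN : u ∈ Subgroup.normalizer (D : Set G) := by
    rw [Subgroup.mem_normalizer_iff]
    intro d
    constructor
    · intro hd
      rw [hinv d hd]; exact D.inv_mem hd
    · intro hd
      have h1 := hinv _ hd
      have h2 : u * (u * d * u⁻¹) * u⁻¹ = (u * u) * d * (u * u)⁻¹ := by group
      rw [h2, hu2] at h1
      have h3 : d = (u * d * u⁻¹)⁻¹ := by simpa using h1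
      rw [h3]; exact D.inv_mem hd
  have hule : Subgroup.zpowers u ≤ Subgroup.normalizer (D : Set G) :=
    (Subgroup.zpowers_le).mpr huN
  have hcoe := Subgroup.coe_mul_of_right_le_normalizer_left D (Subgroup.zpowers u) hule
  have hg' : g ∈ ((D ⊔ Subgroup.zpowers u : Subgroup G) : Set G) := hg
  rw [hcoe] at hg'
  obtain ⟨d, hd, z, hz, rfl⟩ := Set.mem_mul.mp hg'
  obtain ⟨n, rfl⟩ := Subgroup.mem_zpowers_iff.mp hz
  have hu2' : u ^ (2 : ℤ) = 1 := by
    rw [zpow_two]; exact hu2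
  rcases Int.even_or_odd' n with ⟨m, rfl | rfl⟩
  · rw [zpow_mul, hu2', one_zpow, mul_one]; exact hd
  · exfalso
    rw [zpow_add, zpow_mul, hu2', one_zpow, one_mul, zpow_one] at hodd
    have hsq : (d * u) ^ 2 = 1 := by
      have h1 := hinv d hd
      have h2 : (d * u) ^ 2 = d * (u * d * u⁻¹) * (u * u) := by
        rw [pow_two]; group
      rw [h2, h1, hu2]; group
    have hdvd : orderOf (d * u) ∣ 2 := orderOf_dvd_of_pow_eq_one hsq
    rcases (Nat.dvd_prime Nat.prime_two).mp hdvd with h1 | h1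
    · rw [orderOf_eq_one_iff] at h1
      apply huD
      have : u = d⁻¹ := by
        have : u = d⁻¹ * (d * u) := by group
        rw [this, h1, mul_one]
      rw [this]; exact D.inv_mem hd
    · rw [h1] at hodd
      exact absurd hodd (by decide)

theorem neg_abelian_normalizer_core [Finite G] (h : Hyp t s K) (b : Basic t s K)
    (hk : 4 ≤ Nat.card K) {Χ : G → ℂ} (p : PartI K (-1) Χ)
    (hD : ∀ {x₁ u : G}, IsOuter K x₁ → orderOf u = 2 → u * x₁ * u⁻¹ = x₁⁻¹ →
      Nat.card (Subgroup.centralizer ({x₁} : Set G)) + 1 = Nat.card K →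
      Subgroup.normalizer ((Subgroup.centralizer ({x₁} : Set G) : Subgroup G) : Set G) =
        Subgroup.centralizer ({x₁} : Set G) ⊔ Subgroup.zpowers u ∧
      u ∉ Subgroup.centralizer ({x₁} : Set G))
    {r : ℕ} (hr : r.Prime)
    (hrz : ∀ z : G, z ≠ 1 → (∃ j : ℕ, orderOf z = r ^ j) → IsOuter K z ∧ Χ z = 0)
    (hro : ∀ x : G, IsOuter K x → Χ x = 0 → orderOf x = r) (R : Subgroup G)
    (hR : IsPGroup r R) (hR1 : R ≠ ⊥) :
    Odd (Nat.card (Subgroup.normalizer (R : Set G))) ∧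
      ∀ (l : ℕ), l.Prime → l ≠ r → ∀ X : Subgroup G, IsPGroup l X → X ≠ ⊥ →
        X ≤ Subgroup.normalizer (R : Set G) →
        ∀ a ∈ Subgroup.normalizer (X : Set G) ⊓ Subgroup.normalizer (R : Set G),
        ∀ c ∈ Subgroup.normalizer (X : Set G) ⊓ Subgroup.normalizer (R : Set G),
          a * c = c * a := by
  haveI : Fact r.Prime := ⟨hr⟩
  have hRord : ∀ y ∈ R, ∃ j : ℕ, orderOf y = r ^ j := by
    intro y hy
    obtain ⟨j, hj⟩ := IsPGroup.iff_orderOf.mp hR ⟨y, hy⟩
    exact ⟨j, by rw [← hj, Subgroup.orderOf_mk]⟩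
  have hodd : Odd (Nat.card (Subgroup.normalizer (R : Set G))) := by
    by_contra hno
    rw [Nat.not_odd_iff_even] at hno
    haveI : Fact (Nat.Prime 2) := ⟨Nat.prime_two⟩
    obtain ⟨u', hu'⟩ := exists_prime_orderOf_dvd_card'
      (G := ↥(Subgroup.normalizer (R : Set G))) 2 hno.two_dvd
    have hu : orderOf (u' : G) = 2 := by rw [Subgroup.orderOf_coe]; exact hu'
    obtain ⟨⟨y, hy⟩, hy1⟩ := (Subgroup.ne_bot_iff_exists_ne_one).mp hR1
    have hy1' : y ≠ 1 := fun h1 => hy1 (Subtype.ext h1)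
    have hfpf : ∀ c ∈ R, (u' : G) * c * (u' : G)⁻¹ = c → c = 1 := by
      intro c hc hcu
      by_contra hc1
      have hout := (hrz c hc1 (hRord c hc)).1
      apply Cfsg.Agent.Lib.Helper84.BSWOuter.outer_not_commute_invol h b hout hu
      calc (u' : G) * c = u' * c * (u' : G)⁻¹ * u' := by group
        _ = c * u' := by rw [hcu]
    have hinv := inverts_of_fpf_invol R hu u'.2 hfpf
    obtain ⟨hyout, hyΧ⟩ := hrz y hy1' (hRord y hy)
    exact not_inverted_of_neg_zero p hyout hyΧ u' hu (hinv y hy)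
  refine ⟨hodd, ?_⟩
  intro l hl hlr X hX hX1 hXL a ha c hc
  haveI : Fact l.Prime := ⟨hl⟩
  have hLodd : ∀ g ∈ Subgroup.normalizer (R : Set G), Odd (orderOf g) := fun g hg =>
    Odd.of_dvd_nat hodd (Subgroup.orderOf_dvd_natCard _ hg)
  haveI : Nontrivial ↥X := (Subgroup.nontrivial_iff_ne_bot X).mpr hX1
  haveI : Nontrivial ↥(Subgroup.center ↥X) := hX.center_nontrivial
  obtain ⟨z, hz⟩ := exists_ne (1 : ↥(Subgroup.center ↥X))
  have hwX : ((z : ↥X) : G) ∈ X := (z : ↥X).2
  have hw1 : ((z : ↥X) : G) ≠ 1 := by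
    intro h1
    apply hz
    apply Subtype.ext
    apply Subtype.ext
    exact h1
  have hwc : ∀ x ∈ X, x * ((z : ↥X) : G) = ((z : ↥X) : G) * x := by
    intro x hx
    have := Subgroup.mem_center_iff.mp z.2 ⟨x, hx⟩
    exact congrArg Subtype.val this
  have hword : ∃ j : ℕ, orderOf ((z : ↥X) : G) = l ^ j := by
    obtain ⟨j, hj⟩ := IsPGroup.iff_orderOf.mp hX (z : ↥X)
    exact ⟨j, by rw [← hj, Subgroup.orderOf_coe]⟩
  generalize ((z : ↥X) : G) = w at hwX hw1 hwc hword
  by_cases hwout : IsOuter K w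
  · -- case (B)
    have hΧ0 : Χ w ≠ 0 := by
      intro h0
      have h1 := hro w hwout h0
      obtain ⟨j, hj⟩ := hword
      rw [hj] at h1
      have hj0 : j ≠ 0 := by
        rintro rfl
        rw [pow_zero] at h1
        exact hr.one_lt.ne h1
      have : l ∣ r := by rw [← h1]; exact dvd_pow_self l hj0
      exact hlr ((Nat.prime_dvd_prime_iff_eq hl hr).mp this)
    have hΧ1 : Χ w = 1 :=
      ((Cfsg.Agent.Lib.Helper51.BSW.neg_values h b hk p).1 w hwout).resolve_left hΧ0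
    obtain ⟨hrk, u, hu, huw⟩ := exists_invol_of_neg_one hk p hwout hΧ1
    obtain ⟨hinvD, hCD, hrD⟩ := Cfsg.Agent.Lib.Helper84.BSWReal.real_outer h b hwout hu huw
    obtain ⟨-, hcommD⟩ := Cfsg.Agent.Lib.Helper84.BSWReal.inverts_and_comm h b hwout hu huw
    have hcardD : Nat.card (Subgroup.centralizer ({w} : Set G)) + 1 = Nat.card K := by
      rw [← hrD]; exact hrk
    obtain ⟨hND, huD⟩ := hD hwout hu huw hcardD
    have claim : ∀ g ∈ Subgroup.normalizer (X : Set G) ⊓ Subgroup.normalizer (R : Set G),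
        g ∈ Subgroup.centralizer ({w} : Set G) := by
      intro g hg
      obtain ⟨hgX, hgL⟩ := Subgroup.mem_inf.mp hg
      have hw2X : g * w * g⁻¹ ∈ X := (Subgroup.mem_normalizer_iff.mp hgX w).mp hwX
      have hw2ne : g * w * g⁻¹ ≠ 1 := conj_ne_one_of_ne_one hw1
      have hw2D : g * w * g⁻¹ ∈ Subgroup.centralizer ({w} : Set G) := by
        rw [Subgroup.mem_centralizer_singleton_iff]
        exact hwc _ hw2X
      have hCw2 := hCD (g * w * g⁻¹) hw2D hw2ne
      have hgND : g ∈ Subgroup.normalizer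
          ((Subgroup.centralizer ({w} : Set G) : Subgroup G) : Set G) := by
        rw [Subgroup.mem_normalizer_iff]
        intro y
        constructor
        · intro hy
          rw [Subgroup.mem_centralizer_singleton_iff] at hy
          have : g * y * g⁻¹ ∈ Subgroup.centralizer ({g * w * g⁻¹} : Set G) := by
            rw [Subgroup.mem_centralizer_singleton_iff]
            calc g * y * g⁻¹ * (g * w * g⁻¹) = g * (y * w) * g⁻¹ := by group
              _ = g * (w * y) * g⁻¹ := by rw [hy]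
              _ = g * w * g⁻¹ * (g * y * g⁻¹) := by group
          rwa [hCw2] at this
        · intro hy
          rw [← hCw2, Subgroup.mem_centralizer_singleton_iff] at hy
          rw [Subgroup.mem_centralizer_singleton_iff]
          calc y * w = g⁻¹ * (g * y * g⁻¹ * (g * w * g⁻¹)) * g := by group
            _ = g⁻¹ * (g * w * g⁻¹ * (g * y * g⁻¹)) * g := by rw [hy]
            _ = w * y := by group
      rw [hND] at hgND
      exact mem_of_odd_of_mem_sup_invol _ hu hinvD huD hgND (hLodd g hgL)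
    exact hcommD a (claim a ha) c (claim c hc)
  · -- case (A)
    unfold IsOuter at hwout
    push Not at hwout
    obtain ⟨a₀, ha₀⟩ := hwout
    have hw'1 : a₀ * w * a₀⁻¹ ≠ 1 := conj_ne_one_of_ne_one hw1
    have hwodd : Odd (orderOf w) := hLodd w (hXL hwX)
    have claim : ∀ g ∈ Subgroup.normalizer (X : Set G) ⊓ Subgroup.normalizer (R : Set G),
        a₀ * g * a₀⁻¹ ∈ K := by
      intro g hg
      obtain ⟨hgX, hgL⟩ := Subgroup.mem_inf.mp hg
      have hw2X : g * w * g⁻¹ ∈ X := (Subgroup.mem_normalizer_iff.mp hgX w).mp hwX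
      have hcomm2 : g * w * g⁻¹ * w = w * (g * w * g⁻¹) := hwc _ hw2X
      have hvC : a₀ * (g * w * g⁻¹) * a₀⁻¹ ∈
          Subgroup.centralizer ({a₀ * w * a₀⁻¹} : Set G) := by
        rw [Subgroup.mem_centralizer_singleton_iff]
        calc a₀ * (g * w * g⁻¹) * a₀⁻¹ * (a₀ * w * a₀⁻¹)
            = a₀ * (g * w * g⁻¹ * w) * a₀⁻¹ := by group
          _ = a₀ * (w * (g * w * g⁻¹)) * a₀⁻¹ := by rw [hcomm2]
          _ = a₀ * w * a₀⁻¹ * (a₀ * (g * w * g⁻¹) * a₀⁻¹) := by group
      have hvH := b.cent_le _ ha₀ hw'1 hvC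
      have hvodd : Odd (orderOf (a₀ * (g * w * g⁻¹) * a₀⁻¹)) := by
        rw [orderOf_conj_eq, orderOf_conj_eq]; exact hwodd
      have hvK : a₀ * (g * w * g⁻¹) * a₀⁻¹ ∈ K := mem_K_of_odd_of_mem_H b hvH hvodd
      have hveq : a₀ * (g * w * g⁻¹) * a₀⁻¹ =
          (a₀ * g * a₀⁻¹) * (a₀ * w * a₀⁻¹) * (a₀ * g * a₀⁻¹)⁻¹ := by group
      rw [hveq] at hvK
      have hgH := b.ti (a₀ * g * a₀⁻¹) (a₀ * w * a₀⁻¹) ha₀ hw'1 hvK
      have hgodd : Odd (orderOf (a₀ * g * a₀⁻¹)) := by
        rw [orderOf_conj_eq]; exact hLodd g hgL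
      exact mem_K_of_odd_of_mem_H b hgH hgodd
    have h1 := b.comm _ (claim a ha) _ (claim c hc)
    calc a * c = a₀⁻¹ * (a₀ * a * a₀⁻¹ * (a₀ * c * a₀⁻¹)) * a₀ := by group
      _ = a₀⁻¹ * (a₀ * c * a₀⁻¹ * (a₀ * a * a₀⁻¹)) * a₀ := by rw [h1]
      _ = c * a := by group

end Cfsg.Agent.Lib.Helper62.BSW
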