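import Mathlib
import Cfsg.Agent.Lib.Helper30.BSW.Defs
import Cfsg.Agent.Lib.Helper78.CharOrtho
import Cfsg.Agent.Lib.Helper45.BSW.Norm
import Cfsg.Agent.Lib.Helper62.BSWF2e1Core

set_option autoImplicit false

/-!
# S3282 module [F2e1]: `neg_abelian_normalizer` (helper62), exact statement of board post #3833.
-/

namespace Cfsg.Agent.Lib.Helper62.BSW

open Cfsg Cfsg.Agent.Lib.Helper30.BSW

variable {G : Type*} [Group G] {t s : G} {K : Subgroup G}

/-- **[F2e1]** -/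
theorem neg_abelian_normalizer [Finite G] (h : Hyp t s K) (b : Basic t s K)
    (hk : 4 ≤ Nat.card K) {Χ : G → ℂ} (p : PartI K (-1) Χ) {r : ℕ} (hr : r.Prime)
    (hrz : ∀ z : G, z ≠ 1 → (∃ j : ℕ, orderOf z = r ^ j) → IsOuter K z ∧ Χ z = 0)
    (hro : ∀ x : G, IsOuter K x → Χ x = 0 → orderOf x = r) (R : Subgroup G)
    (hR : IsPGroup r R) (hR1 : R ≠ ⊥) :
    Odd (Nat.card (Subgroup.normalizer (R : Set G))) ∧
      ∀ (l : ℕ), l.Prime → l ≠ r → ∀ X : Subgroup G, IsPGroup l X → X ≠ ⊥ →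
        X ≤ Subgroup.normalizer (R : Set G) →
        ∀ a ∈ Subgroup.normalizer (X : Set G) ⊓ Subgroup.normalizer (R : Set G),
        ∀ c ∈ Subgroup.normalizer (X : Set G) ⊓ Subgroup.normalizer (R : Set G),
          a * c = c * a :=
  neg_abelian_normalizer_core h b hk p
    (fun hx hu hux hc =>
      ⟨(Cfsg.Agent.Lib.Helper45.BSW.neg_D h b hx hu hux hc).1,
        (Cfsg.Agent.Lib.Helper45.BSW.neg_D h b hx hu hux hc).2.1⟩)
    hr hrz hro R hR hR1

end Cfsg.Agent.Lib.Helper62.BSW
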