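import Mathlib

/-!
# S3282 module [F2e2] (helper62, for helper30 #3833)

If for every prime `l ≠ r` the normalizer of a non-trivial Sylow `l`-subgroup is abelian, the
Sylow `r`-subgroup is normal (Burnside's transfer theorem for each `l`).
-/

set_option autoImplicit false

namespace Cfsg.Agent.Lib.Helper62.BSW

variable {L : Type*} [Group L] [Finite L]

/-- For a prime `l ≠ r` with abelian Sylow `l`-normalizers there is a normal subgroup of order prime to
`l` containing all `r`-subgroups. -/
theorem exists_normal_compl_of_abelian_normalizer (r : ℕ) [Fact r.Prime] (l : ℕ) [Fact l.Prime]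
    (hl : l ≠ r)
    (hab : ∀ X : Sylow l L, (X : Subgroup L) ≠ ⊥ →
      ∀ a ∈ Subgroup.normalizer ((X : Subgroup L) : Set L),
      ∀ c ∈ Subgroup.normalizer ((X : Subgroup L) : Set L), a * c = c * a) :
    ∃ N : Subgroup L, N.Normal ∧ (∀ Q : Subgroup L, IsPGroup r Q → Q ≤ N) ∧ ¬ l ∣ Nat.card N := by
  obtain ⟨X⟩ : Nonempty (Sylow l L) := inferInstance
  by_cases hX : (X : Subgroup L) = ⊥
  · refine ⟨⊤, inferInstance, fun Q _ => le_top, ?_⟩
    intro hdvd
    rw [Nat.card_congr Subgroup.topEquiv.toEquiv] at hdvd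
    exact X.ne_bot_of_dvd_card hdvd hX
  · have hNC : Subgroup.normalizer ((X : Subgroup L) : Set L) ≤
        Subgroup.centralizer ((X : Subgroup L) : Set L) := by
      intro a ha
      rw [Subgroup.mem_centralizer_iff]
      intro x hx
      exact hab X hX x (Subgroup.le_normalizer hx) a ha
    have hcompl := MonoidHom.ker_transferSylow_isComplement' X hNC
    refine ⟨(MonoidHom.transferSylow X hNC).ker, inferInstance, ?_, ?_⟩
    · intro Q hQ x hx
      rw [MonoidHom.mem_ker]
      -- the image of `x` in the `l`-group `X` has order a power of `r` and a power of `l`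
      obtain ⟨k, hk⟩ := hQ ⟨x, hx⟩
      have hk' : x ^ r ^ k = 1 := by
        have := congrArg Subtype.val hk
        simpa using this
      set y := MonoidHom.transferSylow X hNC x with hy
      have h1 : y ^ r ^ k = 1 := by
        rw [hy, ← map_pow, hk', map_one]
      obtain ⟨m, hm⟩ := X.isPGroup' y
      have h2 : orderOf y ∣ r ^ k := orderOf_dvd_of_pow_eq_one h1
      have h3 : orderOf y ∣ l ^ m := orderOf_dvd_of_pow_eq_one hm
      have hcop : Nat.Coprime (r ^ k) (l ^ m) := by
        apply Nat.Coprime.pow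
        exact (Nat.coprime_primes (Fact.out : r.Prime) (Fact.out : l.Prime)).mpr (Ne.symm hl)
      have h4 : orderOf y = 1 := Nat.eq_one_of_dvd_coprimes hcop h2 h3
      exact orderOf_eq_one_iff.mp h4
    · rw [← hcompl.index_eq_card]
      exact X.not_dvd_index

/-- **[F2e2]** -/
theorem normal_sylow_of_abelian_normalizers (r : ℕ) [Fact r.Prime]
    (hab : ∀ (l : ℕ) [Fact l.Prime], l ≠ r → ∀ X : Sylow l L, (X : Subgroup L) ≠ ⊥ →
      ∀ a ∈ Subgroup.normalizer ((X : Subgroup L) : Set L),
      ∀ c ∈ Subgroup.normalizer ((X : Subgroup L) : Set L), a * c = c * a) :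
    ∀ P : Sylow r L, (P : Subgroup L).Normal := by
  intro P
  -- choose the normal subgroups
  have hex : ∀ l : {l : ℕ // l.Prime ∧ l ≠ r}, ∃ N : Subgroup L, N.Normal ∧
      (∀ Q : Subgroup L, IsPGroup r Q → Q ≤ N) ∧ ¬ l.1 ∣ Nat.card N := by
    rintro ⟨l, hlp, hlr⟩
    haveI : Fact l.Prime := ⟨hlp⟩
    exact exists_normal_compl_of_abelian_normalizer r l hlr (hab l hlr)
  choose Nl hNn hNP hNl using hex
  set N : Subgroup L := ⨅ l, Nl l with hN
  have hNnormal : N.Normal := Subgroup.normal_iInf_normal hNn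
  have hPN : (P : Subgroup L) ≤ N := le_iInf fun l => hNP l _ P.isPGroup'
  have hNp : IsPGroup r N := by
    have hcard : Nat.card N = r ^ (Nat.card N).primeFactorsList.length := by
      apply Nat.eq_prime_pow_of_unique_prime_dvd Nat.card_pos.ne'
      intro d hd hdvd
      by_contra hne
      have h1 : N ≤ Nl ⟨d, hd, hne⟩ := iInf_le _ _
      exact hNl ⟨d, hd, hne⟩ (dvd_trans hdvd (Subgroup.card_dvd_of_le h1))
    exact IsPGroup.of_card hcard
  have := P.is_maximal' hNp hPN
  rw [← this]
  exact hNnormal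

end Cfsg.Agent.Lib.Helper62.BSW
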