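import Mathlib
import Cfsg.Agent.Lib.Helper30.BSW.Defs
import Cfsg.Agent.Lib.Helper78.CharOrtho
import Cfsg.Agent.Lib.Helper26.BSWF2c
import Cfsg.Agent.Lib.Helper51.BSWValues
import Cfsg.Agent.Lib.Helper89.BSWF2dCore
import Cfsg.Agent.Lib.Helper62.BSWF2e1
import Cfsg.Agent.Lib.Helper62.BSWF2e2

set_option autoImplicit false

/-!
# S3282 module [F2f]: `neg_TI` (helper62), exact statement of board post #3833.

In the case `δ = -1`: the centralizers of the elements `x` with `x` outer and `Χ x = 0` are the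
Sylow `r`-subgroups of `G`, and distinct Sylow `r`-subgroups meet trivially.
-/

namespace Cfsg.Agent.Lib.Helper62.BSW

open Cfsg Cfsg.Agent.Lib.Helper30.BSW

variable {G : Type*} [Group G] {t s : G} {K : Subgroup G}

/-- If `N(R)` has a normal Sylow `r`-subgroup, some Sylow `r`-subgroup `Q₃` of `G` meets every
Sylow `r`-subgroup `Q > R` in a subgroup strictly bigger than `R`. -/
theorem exists_sylow_absorbing [Finite G] {r : ℕ} [Fact r.Prime] (R : Subgroup G)
    (hnormal : ∀ P : Sylow r ↥(Subgroup.normalizer (R : Set G)),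
      (P : Subgroup ↥(Subgroup.normalizer (R : Set G))).Normal) :
    ∃ Q₃ : Sylow r G, ∀ Q : Sylow r G, R ≤ (Q : Subgroup G) → R ≠ (Q : Subgroup G) →
      R < (Q : Subgroup G) ⊓ (Q₃ : Subgroup G) := by
  obtain ⟨P⟩ : Nonempty (Sylow r ↥(Subgroup.normalizer (R : Set G))) := inferInstance
  have hPn := hnormal P
  obtain ⟨Q₃, hQ₃⟩ :=
    (P.isPGroup'.map (Subgroup.normalizer (R : Set G)).subtype).exists_le_sylow
  refine ⟨Q₃, ?_⟩
  intro Q hRQ hne
  have hall : ∀ H : Subgroup ↥(Subgroup.normalizer (R : Set G)), IsPGroup r H →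
      H ≤ (P : Subgroup ↥(Subgroup.normalizer (R : Set G))) := by
    intro H hH
    obtain ⟨P', hP'⟩ := hH.exists_le_sylow
    haveI := Sylow.unique_of_normal P hPn
    rwa [Subsingleton.elim P' P] at hP'
  have h1 : ∀ g ∈ (Q : Subgroup G), g ∈ Subgroup.normalizer (R : Set G) →
      g ∈ (Q₃ : Subgroup G) := by
    intro g hgQ hgL
    have hp : IsPGroup r ((Q : Subgroup G).subgroupOf (Subgroup.normalizer (R : Set G))) :=
      Q.isPGroup'.comap_subtype
    have hmem : (⟨g, hgL⟩ : ↥(Subgroup.normalizer (R : Set G))) ∈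
        (Q : Subgroup G).subgroupOf (Subgroup.normalizer (R : Set G)) := by
      rw [Subgroup.mem_subgroupOf]; exact hgQ
    have := hall _ hp hmem
    exact hQ₃ (Subgroup.mem_map_of_mem (Subgroup.normalizer (R : Set G)).subtype this)
  have h2 : ∃ g ∈ (Q : Subgroup G), g ∈ Subgroup.normalizer (R : Set G) ∧ g ∉ R := by
    haveI : Group.IsNilpotent ↥(Q : Subgroup G) := Q.isPGroup'.isNilpotent
    have hnc : NormalizerCondition ↥(Q : Subgroup G) := normalizerCondition_of_isNilpotent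
    have hlt : R.subgroupOf (Q : Subgroup G) < ⊤ := by
      rw [lt_top_iff_ne_top]
      intro htop
      rw [Subgroup.subgroupOf_eq_top] at htop
      exact hne (le_antisymm hRQ htop)
    have hlt2 := hnc _ hlt
    obtain ⟨g', hg'N, hg'R⟩ := SetLike.exists_of_lt hlt2
    rw [← Subgroup.subgroupOf_normalizer_eq hRQ] at hg'N
    exact ⟨g', g'.2, Subgroup.mem_subgroupOf.mp hg'N,
      fun hh => hg'R (Subgroup.mem_subgroupOf.mpr hh)⟩
  obtain ⟨g, hgQ, hgL, hgR⟩ := h2
  have hle : R ≤ (Q : Subgroup G) ⊓ (Q₃ : Subgroup G) := by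
    intro x hx
    exact Subgroup.mem_inf.mpr ⟨hRQ hx, h1 x (hRQ hx) (Subgroup.le_normalizer hx)⟩
  refine lt_of_le_of_ne hle ?_
  intro heq
  apply hgR
  rw [heq]
  exact Subgroup.mem_inf.mpr ⟨hgQ, h1 g hgQ hgL⟩

/-- If the normalizer of every nontrivial `r`-subgroup has a normal Sylow `r`-subgroup, then
distinct Sylow `r`-subgroups of `G` meet trivially. -/
theorem sylow_TI_of_normal_sylow_normalizers [Finite G] {r : ℕ} [Fact r.Prime]
    (hnormal : ∀ R : Subgroup G, IsPGroup r R → R ≠ ⊥ →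
      ∀ P : Sylow r ↥(Subgroup.normalizer (R : Set G)),
        (P : Subgroup ↥(Subgroup.normalizer (R : Set G))).Normal)
    (Q₁ Q₂ : Sylow r G) (hne : (Q₁ : Subgroup G) ⊓ (Q₂ : Subgroup G) ≠ ⊥) : Q₁ = Q₂ := by
  have key : ∀ R : Subgroup G, R ≠ ⊥ → ∀ Q₁ Q₂ : Sylow r G,
      R = (Q₁ : Subgroup G) ⊓ (Q₂ : Subgroup G) → Q₁ = Q₂ := by
    intro R
    induction R using WellFoundedGT.induction with
    | ind R ih =>
      intro hR1 Q₁ Q₂ hReq
      by_contra hne12
      have hRQ₁ : R ≤ (Q₁ : Subgroup G) := hReq ▸ inf_le_left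
      have hRQ₂ : R ≤ (Q₂ : Subgroup G) := hReq ▸ inf_le_right
      have hRp : IsPGroup r R := Q₁.isPGroup'.to_le hRQ₁
      obtain ⟨Q₃, hQ₃⟩ := exists_sylow_absorbing R (hnormal R hRp hR1)
      have hneQ₁ : R ≠ (Q₁ : Subgroup G) := by
        intro heq
        apply hne12
        have hle : (Q₁ : Subgroup G) ≤ (Q₂ : Subgroup G) := by rw [← heq]; exact hRQ₂
        exact Sylow.ext (Q₁.is_maximal' Q₂.isPGroup' hle).symm
      have hneQ₂ : R ≠ (Q₂ : Subgroup G) := by
        intro heq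
        apply hne12
        have hle : (Q₂ : Subgroup G) ≤ (Q₁ : Subgroup G) := by rw [← heq]; exact hRQ₁
        exact Sylow.ext (Q₂.is_maximal' Q₁.isPGroup' hle)
      have hlt1 := hQ₃ Q₁ hRQ₁ hneQ₁
      have hlt2 := hQ₃ Q₂ hRQ₂ hneQ₂
      have h13 : Q₁ = Q₃ := ih _ hlt1 (ne_bot_of_gt hlt1) Q₁ Q₃ rfl
      have h23 : Q₂ = Q₃ := ih _ hlt2 (ne_bot_of_gt hlt2) Q₂ Q₃ rfl
      exact hne12 (h13.trans h23.symm)
  exact key _ hne Q₁ Q₂ rfl

/-- **[F2f]** with the output of [F2d] as hypotheses. -/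
theorem neg_TI_core [Finite G] (h : Hyp t s K) (b : Basic t s K) (hk : 4 ≤ Nat.card K)
    {Χ : G → ℂ} (p : PartI K (-1) Χ) {r a : ℕ} (hr : r.Prime)
    (hq : 2 * Nat.card K - 1 = r ^ a)
    (hro : ∀ x : G, IsOuter K x → Χ x = 0 → orderOf x = r)
    (hrz : ∀ z : G, z ≠ 1 → (∃ j : ℕ, orderOf z = r ^ j) → IsOuter K z ∧ Χ z = 0) :
    ∀ x : G, IsOuter K x → Χ x = 0 → ∀ y ∈ Subgroup.centralizer ({x} : Set G), y ≠ 1 →
      Subgroup.centralizer ({y} : Set G) = Subgroup.centralizer ({x} : Set G) := by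
  haveI : Fact r.Prime := ⟨hr⟩
  obtain ⟨hC1, hC2, -⟩ := Cfsg.Agent.Lib.Helper26.BSWF2c.neg_nonreal h b hk p
  have hnormal : ∀ R : Subgroup G, IsPGroup r R → R ≠ ⊥ →
      ∀ P : Sylow r ↥(Subgroup.normalizer (R : Set G)),
        (P : Subgroup ↥(Subgroup.normalizer (R : Set G))).Normal := by
    intro R hR hR1
    obtain ⟨-, hab⟩ := neg_abelian_normalizer h b hk p hr hrz hro R hR hR1
    apply normal_sylow_of_abelian_normalizers r
    intro l hlF hlr X hX1 a' ha' c' hc'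
    have hXp : IsPGroup l ((X : Subgroup ↥(Subgroup.normalizer (R : Set G))).map
        (Subgroup.normalizer (R : Set G)).subtype) := X.isPGroup'.map _
    have hXne : (X : Subgroup ↥(Subgroup.normalizer (R : Set G))).map
        (Subgroup.normalizer (R : Set G)).subtype ≠ ⊥ := by
      intro hbot
      apply hX1
      exact (Subgroup.map_eq_bot_iff_of_injective _
        (Subgroup.subtype_injective _)).mp hbot
    have hXL : (X : Subgroup ↥(Subgroup.normalizer (R : Set G))).map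
        (Subgroup.normalizer (R : Set G)).subtype ≤ Subgroup.normalizer (R : Set G) :=
      Subgroup.map_subtype_le _
    have hmem : ∀ g : ↥(Subgroup.normalizer (R : Set G)),
        g ∈ Subgroup.normalizer ((X : Subgroup ↥(Subgroup.normalizer (R : Set G))) :
          Set ↥(Subgroup.normalizer (R : Set G))) →
        (g : G) ∈ Subgroup.normalizer
          (((X : Subgroup ↥(Subgroup.normalizer (R : Set G))).map
            (Subgroup.normalizer (R : Set G)).subtype : Subgroup G) : Set G) ⊓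
          Subgroup.normalizer (R : Set G) := by
      intro g hg
      refine Subgroup.mem_inf.mpr ⟨?_, g.2⟩
      exact Subgroup.le_normalizer_map (Subgroup.normalizer (R : Set G)).subtype
        (Subgroup.mem_map_of_mem _ hg)
    have := hab l hlF.out hlr _ hXp hXne hXL (a' : G) (hmem a' ha') (c' : G) (hmem c' hc')
    exact Subtype.ext this
  have hTI : ∀ Q₁ Q₂ : Sylow r G, (Q₁ : Subgroup G) ⊓ (Q₂ : Subgroup G) ≠ ⊥ → Q₁ = Q₂ :=
    sylow_TI_of_normal_sylow_normalizers hnormal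
  have hcent : ∀ x : G, IsOuter K x → Χ x = 0 → ∀ Q : Sylow r G,
      Subgroup.centralizer ({x} : Set G) ≤ (Q : Subgroup G) →
      Subgroup.centralizer ({x} : Set G) = (Q : Subgroup G) := by
    intro x hx hΧ Q hle
    have hx1 : x ≠ 1 := by
      rintro rfl
      apply hx 1
      simp
    have hxQ : x ∈ (Q : Subgroup G) :=
      hle (Subgroup.mem_centralizer_singleton_iff.mpr rfl)
    haveI : Nontrivial ↥(Q : Subgroup G) :=
      ⟨⟨⟨x, hxQ⟩, 1, fun h1 => hx1 (congrArg Subtype.val h1)⟩⟩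
    haveI : Nontrivial ↥(Subgroup.center ↥(Q : Subgroup G)) := Q.isPGroup'.center_nontrivial
    obtain ⟨z, hz⟩ := exists_ne (1 : ↥(Subgroup.center ↥(Q : Subgroup G)))
    have hz1 : ((z : ↥(Q : Subgroup G)) : G) ≠ 1 := by
      intro h1
      apply hz
      apply Subtype.ext
      apply Subtype.ext
      exact h1
    have hzord : ∃ j : ℕ, orderOf ((z : ↥(Q : Subgroup G)) : G) = r ^ j := by
      obtain ⟨j, hj⟩ := IsPGroup.iff_orderOf.mp Q.isPGroup' (z : ↥(Q : Subgroup G))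
      exact ⟨j, by rw [← hj, Subgroup.orderOf_coe]⟩
    obtain ⟨hzout, hzΧ⟩ := hrz _ hz1 hzord
    have hQz : (Q : Subgroup G) ≤
        Subgroup.centralizer ({((z : ↥(Q : Subgroup G)) : G)} : Set G) := by
      intro g hg
      rw [Subgroup.mem_centralizer_singleton_iff]
      have := Subgroup.mem_center_iff.mp z.2 ⟨g, hg⟩
      exact congrArg Subtype.val this
    apply Subgroup.eq_of_le_of_card_ge hle
    calc Nat.card ↥(Q : Subgroup G)
        ≤ Nat.card ↥(Subgroup.centralizer ({((z : ↥(Q : Subgroup G)) : G)} : Set G)) :=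
          Subgroup.card_le_of_le hQz
      _ = Nat.card ↥(Subgroup.centralizer ({x} : Set G)) := by
          rw [hC2 _ hzout hzΧ, hC2 x hx hΧ]
  intro x hx hΧ y hy hy1
  obtain ⟨hyout, hyΧ⟩ := hC1 x hx hΧ y hy hy1
  have hpx : IsPGroup r ↥(Subgroup.centralizer ({x} : Set G)) :=
    IsPGroup.of_card ((hC2 x hx hΧ).trans hq)
  have hpy : IsPGroup r ↥(Subgroup.centralizer ({y} : Set G)) :=
    IsPGroup.of_card ((hC2 y hyout hyΧ).trans hq)
  obtain ⟨Q₁, hQ₁⟩ := hpx.exists_le_sylow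
  obtain ⟨Q₂, hQ₂⟩ := hpy.exists_le_sylow
  have e1 := hcent x hx hΧ Q₁ hQ₁
  have e2 := hcent y hyout hyΧ Q₂ hQ₂
  have hyy : y ∈ Subgroup.centralizer ({y} : Set G) :=
    Subgroup.mem_centralizer_singleton_iff.mpr rfl
  have hne : (Q₁ : Subgroup G) ⊓ (Q₂ : Subgroup G) ≠ ⊥ := by
    intro hbot
    have : y ∈ (Q₁ : Subgroup G) ⊓ (Q₂ : Subgroup G) :=
      Subgroup.mem_inf.mpr ⟨hQ₁ hy, hQ₂ hyy⟩
    rw [hbot, Subgroup.mem_bot] at this
    exact hy1 this
  rw [e1, e2, hTI Q₁ Q₂ hne]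

/-- **[F2f]** -/
theorem neg_TI [Finite G] (h : Hyp t s K) (b : Basic t s K) (hk : 4 ≤ Nat.card K)
    {Χ : G → ℂ} (p : PartI K (-1) Χ) :
    ∀ x : G, IsOuter K x → Χ x = 0 → ∀ y ∈ Subgroup.centralizer ({x} : Set G), y ≠ 1 →
      Subgroup.centralizer ({y} : Set G) = Subgroup.centralizer ({x} : Set G) := by
  obtain ⟨r, a, hr, hq, hro, hrz⟩ := Cfsg.Agent.Lib.Helper89.BSW.neg_prime_core h b hk p
    (Cfsg.Agent.Lib.Helper51.BSW.neg_values h b hk p)
    (Cfsg.Agent.Lib.Helper26.BSWF2c.neg_nonreal h b hk p)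
  exact neg_TI_core h b hk p hr hq hro hrz

end Cfsg.Agent.Lib.Helper62.BSW
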