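import Mathlib
import Cfsg.Agent.Lib.Helper32.SLMD.Defs2

/-!
# SLMD (helper62): common tools for [N-ORB-COMM], [N-ORB-TORUS], [N-FIX]

* `levi_mul_x12`, `levi_mul_a1El`, `levi_mul_a2El`, `levi_mul_qEl` : how `diag(d0,d1,B)` moves the root elements
* `a2El_preserves`, `levi_preserves` : invariance of the eigenspaces of `Q`
* `fix_of_scaling`, `fix_of_comm` : the two abstract eigenline arguments
-/

set_option autoImplicit false
set_option linter.unusedSectionVars false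
set_option linter.unusedVariables false

namespace Cfsg.Agent.Lib.Helper32.SLMD

open Matrix Cfsg.Agent.Lib.Helper41 Cfsg.Agent.Lib.Helper39 Module
open scoped LinearAlgebra.Projectivization

namespace Orb

section abstract

variable {G : Type*} [Group G] {V : Type*} [AddCommGroup V] [Module ℂ V]

theorem rho_inv_apply (ρ : Representation ℂ G V) (g : G) (v : V) : ρ g⁻¹ (ρ g v) = v := by
  rw [← Module.End.mul_apply, ← map_mul, inv_mul_cancel, map_one]
  rfl

theorem rho_apply_inv (ρ : Representation ℂ G V) (g : G) (v : V) : ρ g (ρ g⁻¹ v) = v := by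
  rw [← Module.End.mul_apply, ← map_mul, mul_inv_cancel, map_one]
  rfl

theorem rho_injective (ρ : Representation ℂ G V) (g : G) {v w : V} (h : ρ g v = ρ g w) : v = w := by
  rw [← rho_inv_apply ρ g v, h, rho_inv_apply]

/-- if `g` acts on `ℓ ≠ 0` by a scalar and `y` acts on `ℓ` by a scalar, then `g y g⁻¹` acts on `ℓ` as `y` -/
theorem conj_apply_of_scalar (ρ : Representation ℂ G V) (g y : G) (ℓ : V) (hℓ0 : ℓ ≠ 0)
    (hg : ∃ c : ℂ, ρ g ℓ = c • ℓ) (hy : ∃ c : ℂ, ρ y ℓ = c • ℓ) :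
    ρ (g * y * g⁻¹) ℓ = ρ y ℓ := by
  obtain ⟨cg, hcg⟩ := hg
  obtain ⟨cy, hcy⟩ := hy
  have hcg0 : cg ≠ 0 := by
    intro h0
    apply hℓ0
    have h1 : ρ g ℓ = ρ g 0 := by rw [hcg, h0, zero_smul, map_zero]
    exact rho_injective ρ g h1
  have h2 : ρ g⁻¹ ℓ = cg⁻¹ • ℓ := by
    apply rho_injective ρ g
    rw [rho_apply_inv, map_smul, hcg, smul_smul, inv_mul_cancel₀ hcg0, one_smul]
  rw [map_mul, map_mul, Module.End.mul_apply, Module.End.mul_apply, h2, map_smul, hcy, map_smul,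
    map_smul, hcg, smul_smul, smul_smul]
  congr 1
  field_simp

/-- the torus argument: `t α(b) t⁻¹ = α(u b)` with `u ≠ 1`, everything acting by scalars on `ℓ` -/
theorem fix_of_scaling {K : Type*} [Field K] {M : Type*} [AddCommGroup M] [Module K M]
    (ρ : Representation ℂ G V) (α : Multiplicative M →* G) (t : G) (u : K) (hu : u ≠ 1)
    (ℓ : V) (hℓ0 : ℓ ≠ 0)
    (hα : ∀ b : M, ∃ c : ℂ, ρ (α (Multiplicative.ofAdd b)) ℓ = c • ℓ)
    (ht : ∃ c : ℂ, ρ t ℓ = c • ℓ)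
    (hconj : ∀ b : M, t * α (Multiplicative.ofAdd b) * t⁻¹ = α (Multiplicative.ofAdd (u • b))) :
    ∀ b : M, ρ (α (Multiplicative.ofAdd b)) ℓ = ℓ := by
  have h1 : ∀ b : M, ρ (α (Multiplicative.ofAdd (u • b))) ℓ = ρ (α (Multiplicative.ofAdd b)) ℓ := by
    intro b
    rw [← hconj b]
    exact conj_apply_of_scalar ρ t _ ℓ hℓ0 ht (hα b)
  have h2 : ∀ b : M, ρ (α (Multiplicative.ofAdd ((u - 1) • b))) ℓ = ℓ := by
    intro b
    obtain ⟨c, hc⟩ := hα (-b)
    have e1 : (u - 1) • b = u • b + (-b) := by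
      rw [sub_smul, one_smul, sub_eq_add_neg]
    have e2 : b + (-b) = 0 := by abel
    rw [e1, ofAdd_add, map_mul, map_mul, Module.End.mul_apply, hc, map_smul, h1 b, ← map_smul, ← hc,
      ← Module.End.mul_apply, ← map_mul, ← map_mul, ← ofAdd_add, e2, ofAdd_zero, map_one, map_one]
    rfl
  intro b
  have hu' : u - 1 ≠ 0 := sub_ne_zero.mpr hu
  have := h2 ((u - 1)⁻¹ • b)
  rwa [smul_smul, mul_inv_cancel₀ hu', one_smul] at this

/-- the commutator argument: `g y g⁻¹ = y x⁻¹`, `g` and `y` acting by scalars on `ℓ` -/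
theorem fix_of_comm (ρ : Representation ℂ G V) (x y g : G) (ℓ : V) (hℓ0 : ℓ ≠ 0)
    (hy : ∃ c : ℂ, ρ y ℓ = c • ℓ) (hg : ∃ c : ℂ, ρ g ℓ = c • ℓ)
    (hconj : g * y * g⁻¹ = y * x⁻¹) : ρ x ℓ = ℓ := by
  have h1 := conj_apply_of_scalar ρ g y ℓ hℓ0 hg hy
  rw [hconj, map_mul, Module.End.mul_apply] at h1
  have h2 : ρ x⁻¹ ℓ = ℓ := rho_injective ρ y h1
  have h3 := rho_apply_inv ρ x ℓ
  rw [h2] at h3
  exact h3

/-- in a line, every vector is a multiple of a given non-zero vector -/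
theorem exists_smul_of_finrank_one (L : Submodule ℂ V) (hL : finrank ℂ ↥L = 1) (ℓ : V) (hℓ : ℓ ∈ L)
    (hℓ0 : ℓ ≠ 0) (v : V) (hv : v ∈ L) : ∃ c : ℂ, v = c • ℓ := by
  have hne : (⟨ℓ, hℓ⟩ : ↥L) ≠ 0 := by
    intro h
    exact hℓ0 (congrArg Subtype.val h)
  obtain ⟨c, hc⟩ := (finrank_eq_one_iff_of_nonzero' (⟨ℓ, hℓ⟩ : ↥L) hne).mp hL ⟨v, hv⟩
  refine ⟨c, ?_⟩
  have := congrArg Subtype.val hc
  simpa using this.symm

end abstract

variable {F : Type*} [Field F] {k : ℕ}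

/-! ### `levi` and the root elements -/

theorem levi_mul_iota (d0 d1 : F) (B : Matrix (Fin k) (Fin k) F) (h : d0 * d1 * B.det = 1)
    (A A' : Matrix.SpecialLinearGroup (Fin 2) F)
    (hA : diagonal ![d0, d1] * A.1 = A'.1 * diagonal ![d0, d1]) :
    levi d0 d1 B h * iota A = iota A' * levi d0 d1 B h := by
  apply Subtype.ext
  simp [fromBlocks_multiply, hA]

theorem levi_mul_x12 (d0 d1 : F) (B : Matrix (Fin k) (Fin k) F) (h : d0 * d1 * B.det = 1)
    (s s' : F) (hs : d0 * s = s' * d1) :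
    levi d0 d1 B h * x12 s = x12 s' * levi d0 d1 B h := by
  unfold x12
  apply levi_mul_iota
  rw [coe_upperU, coe_upperU]
  ext i j
  fin_cases i <;> fin_cases j <;> simp [Matrix.diagonal_mul, Matrix.mul_diagonal, hs]

theorem levi_mul_a1El (d0 d1 : F) (B : Matrix (Fin k) (Fin k) F) (h : d0 * d1 * B.det = 1)
    (a a' : Fin k → F) (ha : d0 • a = a' ᵥ* B) :
    levi d0 d1 B h * a1El a = a1El a' * levi d0 d1 B h := by
  unfold a1El
  apply levi_mul_uQ2
  ext i j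
  fin_cases i
  · have := congrFun ha j
    simpa [Matrix.diagonal_mul, Matrix.mul_apply, Matrix.vecMul, dotProduct, rowM] using this
  · simp [Matrix.mul_apply, rowM]

theorem levi_mul_a2El (d0 d1 : F) (B : Matrix (Fin k) (Fin k) F) (h : d0 * d1 * B.det = 1)
    (b b' : Fin k → F) (hb : d1 • b = b' ᵥ* B) :
    levi d0 d1 B h * a2El b = a2El b' * levi d0 d1 B h := by
  unfold a2El
  apply levi_mul_uQ2
  ext i j
  fin_cases i
  · simp [Matrix.mul_apply, rowM]
  · have := congrFun hb j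
    simpa [Matrix.diagonal_mul, Matrix.mul_apply, Matrix.vecMul, dotProduct, rowM] using this

theorem levi_mul_qEl (d0 d1 : F) (B : Matrix (Fin k) (Fin k) F) (h : d0 * d1 * B.det = 1)
    (s s' : F) (a a' : Fin k → F) (hs : d0 * s = s' * d1) (ha : d0 • a = a' ᵥ* B) :
    levi d0 d1 B h * qEl s a = qEl s' a' * levi d0 d1 B h := by
  unfold qEl
  rw [← mul_assoc, levi_mul_x12 d0 d1 B h s s' hs, mul_assoc, levi_mul_a1El d0 d1 B h a a' ha,
    mul_assoc]

theorem levi_conj_a2El (d0 d1 : F) (B : Matrix (Fin k) (Fin k) F) (h : d0 * d1 * B.det = 1)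
    (b b' : Fin k → F) (hb : d1 • b = b' ᵥ* B) :
    levi d0 d1 B h * a2El b * (levi d0 d1 B h)⁻¹ = a2El b' := by
  rw [levi_mul_a2El d0 d1 B h b b' hb, mul_inv_cancel_right]

theorem a2El_neg (b : Fin k → F) : (a2El (-b) : GG F k) = (a2El b)⁻¹ := by
  rw [a2El, a2El, ← uQ2_neg]
  congr 1
  ext i j
  fin_cases i <;> simp [rowM]

theorem a2El_inv_conj_qEl (β : Fin k → F) (s : F) (a : Fin k → F) :
    (a2El β)⁻¹ * qEl s a * a2El β = qEl s (a + s • β) := by
  have h := a2El_conj_qEl (-β) s a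
  rw [a2El_neg, inv_inv] at h
  rw [h]
  congr 1
  rw [smul_neg, sub_neg_eq_add]

/-! ### invariance of the eigenspaces of `Q` -/

section inv

variable {V : Type*} [AddCommGroup V] [Module ℂ V]

theorem a2El_preserves (ρ : Representation ℂ (GG F k) V)
    (lam : Multiplicative (F × (Fin k → F)) →* ℂˣ) (β : Fin k → F)
    (hlam : ∀ (s : F) (a : Fin k → F),
      lam (Multiplicative.ofAdd (s, a + s • β)) = lam (Multiplicative.ofAdd (s, a)))
    {v : V} (hv : v ∈ eigenSub ρ (qHom : _ →* GG F k) lam) :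
    ρ (a2El β) v ∈ eigenSub ρ (qHom : _ →* GG F k) lam := by
  refine conj_eigenSub ρ qHom qHom (a2El β)
    (fun x => Multiplicative.ofAdd (x.toAdd.1, x.toAdd.2 + x.toAdd.1 • β)) ?_ lam lam ?_ hv
  · intro x
    rw [qHom_apply, qHom_apply]
    exact a2El_inv_conj_qEl β _ _
  · intro x
    exact hlam _ _

theorem levi_preserves (ρ : Representation ℂ (GG F k) V)
    (lam : Multiplicative (F × (Fin k → F)) →* ℂˣ) (d0 d1 : F) (B : Matrix (Fin k) (Fin k) F)
    (h : d0 * d1 * B.det = 1) (hd0 : d0 ≠ 0)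
    (hlam : ∀ (s : F) (a : Fin k → F),
      lam (Multiplicative.ofAdd (d0⁻¹ * (s * d1), d0⁻¹ • (a ᵥ* B))) =
        lam (Multiplicative.ofAdd (s, a)))
    {v : V} (hv : v ∈ eigenSub ρ (qHom : _ →* GG F k) lam) :
    ρ (levi d0 d1 B h) v ∈ eigenSub ρ (qHom : _ →* GG F k) lam := by
  refine conj_eigenSub ρ qHom qHom (levi d0 d1 B h)
    (fun x => Multiplicative.ofAdd (d0⁻¹ * (x.toAdd.1 * d1), d0⁻¹ • (x.toAdd.2 ᵥ* B))) ?_ lam lam ?_ hv
  · intro x
    have h1 := levi_mul_qEl d0 d1 B h (d0⁻¹ * (x.toAdd.1 * d1)) x.toAdd.1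
      (d0⁻¹ • (x.toAdd.2 ᵥ* B)) x.toAdd.2
      (by rw [← mul_assoc, mul_inv_cancel₀ hd0, one_mul])
      (by rw [smul_smul, mul_inv_cancel₀ hd0, one_smul])
    rw [qHom_apply, qHom_apply]
    show (levi d0 d1 B h)⁻¹ * qEl x.toAdd.1 x.toAdd.2 * levi d0 d1 B h =
      qEl (d0⁻¹ * (x.toAdd.1 * d1)) (d0⁻¹ • (x.toAdd.2 ᵥ* B))
    rw [mul_assoc, ← h1, inv_mul_cancel_left]
  · intro x
    exact hlam _ _

end inv

/-! ### non-triviality of the characters (own copies of [G-PSI]) -/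

theorem exists_ne_one_of_ne_one (ψ : Multiplicative F →* ℂˣ) (hψ : ψ ≠ 1) :
    ∃ s : F, ψ (Multiplicative.ofAdd s) ≠ 1 := by
  by_contra hcon
  push Not at hcon
  apply hψ
  apply MonoidHom.ext
  intro x
  have := hcon (Multiplicative.toAdd x)
  simpa using this

theorem qChar_ne_one_aux (ψ : Multiplicative F →* ℂˣ) (hψ : ψ ≠ 1) (j : Fin k) :
    (qChar ψ j : Multiplicative (F × (Fin k → F)) →* ℂˣ) ≠ 1 := by
  obtain ⟨s, hs⟩ := exists_ne_one_of_ne_one ψ hψ
  intro h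
  apply hs
  have := DFunLike.congr_fun h (Multiplicative.ofAdd ((0 : F), (Pi.single j s : Fin k → F)))
  simpa [qChar] using this

theorem sChar_ne_one_aux (ψ : Multiplicative F →* ℂˣ) (hψ : ψ ≠ 1) :
    (sChar ψ : Multiplicative (F × (Fin k → F)) →* ℂˣ) ≠ 1 := by
  obtain ⟨s, hs⟩ := exists_ne_one_of_ne_one ψ hψ
  intro h
  apply hs
  have := DFunLike.congr_fun h (Multiplicative.ofAdd (s, (0 : Fin k → F)))
  simpa [sChar] using this

end Orb

end Cfsg.Agent.Lib.Helper32.SLMD
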