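import Mathlib
import Cfsg.Agent.Lib.Helper32.SLMD.Defs2
import Cfsg.Agent.Lib.Helper62.SlmdOrbBase

/-!
# SLMD-[N-ORB-COMM], [N-ORB-TORUS], [N-FIX] (helper62)
-/

set_option autoImplicit false
set_option linter.unusedSectionVars false
set_option linter.unusedVariables false

namespace Cfsg.Agent.Lib.Helper32.SLMD

open Matrix Cfsg.Agent.Lib.Helper41 Cfsg.Agent.Lib.Helper39 Module
open scoped LinearAlgebra.Projectivization

universe u v

namespace Orb

variable {F : Type*} [Field F] {k : ℕ}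

theorem vecMul_transvection [DecidableEq F] (a : Fin k → F) (p r : Fin k) (c : F) (x : Fin k) :
    (a ᵥ* Matrix.transvection p r c) x = a x + (if x = r then a p * c else 0) := by
  unfold Matrix.transvection
  rw [Matrix.vecMul_add, Matrix.vecMul_one, Pi.add_apply]
  congr 1
  simp only [Matrix.vecMul, dotProduct, Matrix.single_apply]
  by_cases hx : x = r
  · subst hx
    simp
  · have : ∀ y : Fin k, ¬ (p = y ∧ r = x) := fun y h => hx h.2.symm
    simp [this, hx]

theorem qChar_shift (ψ : Multiplicative F →* ℂˣ) (j i : Fin k) (hij : i ≠ j) (b : F) (s : F)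
    (a : Fin k → F) :
    (qChar ψ j : Multiplicative (F × (Fin k → F)) →* ℂˣ)
        (Multiplicative.ofAdd (s, a + s • Pi.single i b)) =
      qChar ψ j (Multiplicative.ofAdd (s, a)) := by
  have h0 : (Pi.single i b : Fin k → F) j = 0 := by
    rw [Pi.single_apply, if_neg hij.symm]
  simp [qChar, h0]

end Orb

variable {F : Type*} [Field F] [Fintype F] [DecidableEq F] {k : ℕ}

section gg

variable {V : Type*} [AddCommGroup V] [Module ℂ V] [FiniteDimensional ℂ V]

open Orb in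
/-- [N-ORB-COMM] -/
theorem orb_comm [NeZero k] (hk : 3 ≤ k) (ρ : Representation ℂ (GG F k) V) (hM : M1 ρ)
    (ψ : Multiplicative F →* ℂˣ) (hψ : ψ ≠ 1) (j i : Fin k) (hij : i ≠ j) (ℓ : V)
    (hℓ : ℓ ∈ eigenSub ρ (qHom : _ →* GG F k) (qChar ψ j)) (b : F) :
    ρ (a2El (Pi.single i b)) ℓ = ℓ := by
  by_cases hℓ0 : ℓ = 0
  · rw [hℓ0, map_zero]
  have hL : finrank ℂ ↥(eigenSub ρ (qHom : _ →* GG F k) (qChar ψ j)) = 1 :=
    hM _ (qChar_ne_one_aux ψ hψ j)
  have line := exists_smul_of_finrank_one _ hL ℓ hℓ hℓ0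
  -- a third index
  obtain ⟨i', hi'i, hi'j⟩ : ∃ i' : Fin k, i' ≠ i ∧ i' ≠ j := by
    have hcard : ({i, j} : Finset (Fin k)).card < (Finset.univ : Finset (Fin k)).card := by
      rw [Finset.card_univ, Fintype.card_fin]
      exact lt_of_le_of_lt (Finset.card_le_two) (by omega)
    obtain ⟨i', -, hi'⟩ := Finset.exists_mem_notMem_of_card_lt_card hcard
    refine ⟨i', ?_, ?_⟩
    · intro h
      apply hi'
      rw [h]
      simp
    · intro h
      apply hi'
      rw [h]
      simp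
  -- the transvection `g`
  have hdet : (1 : F) * 1 * (Matrix.transvection i' i (1 : F)).det = 1 := by
    rw [Matrix.det_transvection_of_ne _ _ hi'i]
    ring
  set g : GG F k := levi 1 1 (Matrix.transvection i' i (1 : F)) hdet with hg
  have hgL : ρ g ℓ ∈ eigenSub ρ (qHom : _ →* GG F k) (qChar ψ j) := by
    apply levi_preserves ρ (qChar ψ j) 1 1 _ hdet one_ne_zero _ hℓ
    intro s a
    have h1 : (a ᵥ* Matrix.transvection i' i (1 : F)) j = a j := by
      rw [vecMul_transvection, if_neg hij.symm, add_zero]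
    simp [qChar, h1]
  have hyL : ρ (a2El (Pi.single i' b)) ℓ ∈ eigenSub ρ (qHom : _ →* GG F k) (qChar ψ j) :=
    a2El_preserves ρ (qChar ψ j) _ (qChar_shift ψ j i' hi'j b) hℓ
  have hconj : g * a2El (Pi.single i' b) * g⁻¹ =
      a2El (Pi.single i' b) * (a2El (Pi.single i b))⁻¹ := by
    rw [← a2El_neg, ← a2El_add, ← sub_eq_add_neg]
    apply levi_conj_a2El
    funext x
    rw [vecMul_transvection, one_smul]
    have e1 : (Pi.single i' b - Pi.single i b : Fin k → F) i' = b := by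
      rw [Pi.sub_apply, Pi.single_eq_same, Pi.single_eq_of_ne hi'i, sub_zero]
    rw [e1, mul_one, Pi.sub_apply]
    by_cases hx : x = i
    · subst hx
      rw [if_pos rfl, Pi.single_eq_same, Pi.single_eq_of_ne (Ne.symm hi'i)]
      ring
    · rw [if_neg hx, Pi.single_eq_of_ne hx]
      ring
  exact fix_of_comm ρ (a2El (Pi.single i b)) (a2El (Pi.single i' b)) g ℓ hℓ0 (line _ hyL)
    (line _ hgL) hconj

open Orb in
/-- [N-ORB-TORUS] -/
theorem orb_torus [NeZero k] (e : Fˣ) (he : e ^ 2 ≠ 1) (ρ : Representation ℂ (GG F k) V)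
    (hM : M1 ρ) (ψ : Multiplicative F →* ℂˣ) (hψ : ψ ≠ 1) (j i : Fin k) (hij : i ≠ j) (ℓ : V)
    (hℓ : ℓ ∈ eigenSub ρ (qHom : _ →* GG F k) (qChar ψ j)) (b : F) :
    ρ (a2El (Pi.single i b)) ℓ = ℓ := by
  by_cases hℓ0 : ℓ = 0
  · rw [hℓ0, map_zero]
  have hL : finrank ℂ ↥(eigenSub ρ (qHom : _ →* GG F k) (qChar ψ j)) = 1 :=
    hM _ (qChar_ne_one_aux ψ hψ j)
  have line := exists_smul_of_finrank_one _ hL ℓ hℓ hℓ0
  have he0 : (e : F) ≠ 0 := e.ne_zero
  -- the torus element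
  set d : Fin k → F := fun x => if x = i then (e : F)⁻¹ else 1 with hd
  have hdet : (1 : F) * (e : F) * (Matrix.diagonal d).det = 1 := by
    rw [Matrix.det_diagonal, hd, Finset.prod_ite_eq' Finset.univ i (fun _ => (e : F)⁻¹)]
    simp [he0]
  set t : GG F k := levi 1 (e : F) (Matrix.diagonal d) hdet with ht
  have htL : ρ t ℓ ∈ eigenSub ρ (qHom : _ →* GG F k) (qChar ψ j) := by
    apply levi_preserves ρ (qChar ψ j) 1 (e : F) _ hdet one_ne_zero _ hℓ
    intro s a
    have h1 : (a ᵥ* Matrix.diagonal d) j = a j := by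
      rw [Matrix.vecMul_diagonal, hd]
      simp [hij.symm]
    simp [qChar, h1]
  have hα : ∀ c : F, ∃ z : ℂ, ρ ((x2Hom i : _ →* GG F k) (Multiplicative.ofAdd c)) ℓ = z • ℓ :=
    fun c => line _ (a2El_preserves ρ (qChar ψ j) _ (qChar_shift ψ j i hij c) hℓ)
  have hu : (e : F) ^ 2 ≠ 1 := by
    intro h
    apply he
    apply Units.ext
    rw [Units.val_pow_eq_pow_val, h, Units.val_one]
  have hconj : ∀ c : F, t * (x2Hom i : _ →* GG F k) (Multiplicative.ofAdd c) * t⁻¹ =
      (x2Hom i : _ →* GG F k) (Multiplicative.ofAdd (((e : F) ^ 2) • c)) := by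
    intro c
    show t * a2El (Pi.single i c) * t⁻¹ = a2El (Pi.single i (((e : F) ^ 2) • c))
    apply levi_conj_a2El
    funext x
    rw [Matrix.vecMul_diagonal, hd, Pi.smul_apply, smul_eq_mul, smul_eq_mul]
    beta_reduce
    by_cases hx : x = i
    · subst hx
      rw [Pi.single_eq_same, Pi.single_eq_same, if_pos rfl]
      field_simp
    · rw [Pi.single_eq_of_ne hx, Pi.single_eq_of_ne hx]
      simp
  exact fix_of_scaling (K := F) (M := F) ρ (x2Hom i : _ →* GG F k) t ((e : F) ^ 2) hu ℓ hℓ0 hα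
    (line _ htL) hconj b

open Orb in
/-- [N-FIX] -/
theorem fix_k1 (e : Fˣ) (he : e ^ 3 ≠ 1) (ρ : Representation ℂ (GG F 1) V) (hM : M1 ρ)
    (ψ : Multiplicative F →* ℂˣ) (hψ : ψ ≠ 1) (ℓ : V)
    (hℓ : ℓ ∈ eigenSub ρ (qHom : _ →* GG F 1) (sChar ψ)) (b : Fin 1 → F) :
    ρ (a2El b) ℓ = ℓ := by
  by_cases hℓ0 : ℓ = 0
  · rw [hℓ0, map_zero]
  have hL : finrank ℂ ↥(eigenSub ρ (qHom : _ →* GG F 1) (sChar ψ)) = 1 :=
    hM _ (sChar_ne_one_aux ψ hψ)
  have line := exists_smul_of_finrank_one _ hL ℓ hℓ hℓ0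
  have he0 : (e : F) ≠ 0 := e.ne_zero
  set d : Fin 1 → F := fun _ => ((e : F)⁻¹) ^ 2 with hd
  have hdet : (e : F) * (e : F) * (Matrix.diagonal d).det = 1 := by
    rw [Matrix.det_diagonal, hd]
    simp only [Finset.univ_unique, Finset.prod_const, Finset.card_singleton, pow_one]
    field_simp
  set t : GG F 1 := levi (e : F) (e : F) (Matrix.diagonal d) hdet with ht
  have htL : ρ t ℓ ∈ eigenSub ρ (qHom : _ →* GG F 1) (sChar ψ) := by
    apply levi_preserves ρ (sChar ψ) (e : F) (e : F) _ hdet he0 _ hℓ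
    intro s a
    have h1 : (e : F)⁻¹ * (s * (e : F)) = s := by field_simp
    simp [sChar, h1]
  have hα : ∀ c : Fin 1 → F, ∃ z : ℂ,
      ρ ((a2Hom : _ →* GG F 1) (Multiplicative.ofAdd c)) ℓ = z • ℓ := by
    intro c
    apply line
    apply a2El_preserves ρ (sChar ψ) c _ hℓ
    intro s a
    simp [sChar]
  have hu : (e : F) ^ 3 ≠ 1 := by
    intro h
    apply he
    apply Units.ext
    rw [Units.val_pow_eq_pow_val, h, Units.val_one]
  have hconj : ∀ c : Fin 1 → F, t * (a2Hom : _ →* GG F 1) (Multiplicative.ofAdd c) * t⁻¹ =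
      (a2Hom : _ →* GG F 1) (Multiplicative.ofAdd (((e : F) ^ 3) • c)) := by
    intro c
    show t * a2El c * t⁻¹ = a2El (((e : F) ^ 3) • c)
    apply levi_conj_a2El
    funext x
    rw [Matrix.vecMul_diagonal, hd, Pi.smul_apply, Pi.smul_apply, smul_eq_mul, smul_eq_mul]
    field_simp
  exact fix_of_scaling (K := F) (M := Fin 1 → F) ρ (a2Hom : _ →* GG F 1) t ((e : F) ^ 3) hu ℓ hℓ0
    hα (line _ htL) hconj b

end gg

end Cfsg.Agent.Lib.Helper32.SLMD
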