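import Mathlib
import Cfsg.Agent.Lib.Helper32.SLMD.Defs2

/-!
# SLMD-[N-REINDEX] (helper62): transfer of the lower bound from `GG F k` to `SL (Fin (k+2)) F`
-/

set_option autoImplicit false
set_option linter.unusedSectionVars false
set_option linter.unusedVariables false

namespace Cfsg.Agent.Lib.Helper32.SLMD

open Matrix Cfsg.Agent.Lib.Helper41 Cfsg.Agent.Lib.Helper39 Module
open scoped LinearAlgebra.Projectivization

universe u v

namespace NReindex

/-- subrepresentations of `ρ ∘ e` and of `ρ` are the same thing -/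
def subrepIso {G : Type*} [Group G] {G' : Type*} [Group G']
    {V : Type*} [AddCommGroup V] [Module ℂ V] (e : G' ≃* G) (ρ : Representation ℂ G V) :
    Subrepresentation (MonoidHom.comp ρ e.toMonoidHom : Representation ℂ G' V) ≃o
      Subrepresentation ρ where
  toFun W := ⟨W.toSubmodule, fun g v hv => by
    have h := W.apply_mem_toSubmodule (e.symm g) hv
    simpa using h⟩
  invFun W := ⟨W.toSubmodule, fun g v hv => W.apply_mem_toSubmodule (e g) hv⟩
  left_inv W := rfl
  right_inv W := rfl
  map_rel_iff' := Iff.rfl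

theorem isIrreducible_comp_mulEquiv' {G : Type*} [Group G] {G' : Type*} [Group G']
    {V : Type*} [AddCommGroup V] [Module ℂ V] (e : G' ≃* G) (ρ : Representation ℂ G V)
    (hρ : ρ.IsIrreducible) :
    Representation.IsIrreducible (MonoidHom.comp ρ e.toMonoidHom : Representation ℂ G' V) :=
  (subrepIso e ρ).isSimpleOrder_iff.mpr hρ

/-- reindexing of the special linear group along an equivalence of index types -/
def slReindex {m n : Type*} [Fintype m] [DecidableEq m] [Fintype n] [DecidableEq n]
    (R : Type*) [CommRing R] (e : m ≃ n) :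
    Matrix.SpecialLinearGroup m R ≃* Matrix.SpecialLinearGroup n R where
  toFun A := ⟨Matrix.reindex e e A.1, by rw [Matrix.det_reindex_self]; exact A.2⟩
  invFun A := ⟨Matrix.reindex e.symm e.symm A.1, by rw [Matrix.det_reindex_self]; exact A.2⟩
  left_inv A := by
    apply Subtype.ext
    simp
  right_inv A := by
    apply Subtype.ext
    simp
  map_mul' A B := by
    apply Subtype.ext
    show Matrix.reindex e e (A.1 * B.1) = Matrix.reindex e e A.1 * Matrix.reindex e e B.1
    simp only [Matrix.reindex_apply]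
    rw [Matrix.submatrix_mul_equiv]

end NReindex

variable {F : Type*} [Field F] [Fintype F] [DecidableEq F] {k : ℕ}

/-- [N-REINDEX] -/
theorem lower_reindex (k B : ℕ)
    (hGG : ∀ (V : Type) [AddCommGroup V] [Module ℂ V] [FiniteDimensional ℂ V]
      (ρ : Representation ℂ (GG F k) V), ρ.IsIrreducible → 2 ≤ finrank ℂ V → B ≤ finrank ℂ V)
    (m : ℕ) (ρ : Representation ℂ (Matrix.SpecialLinearGroup (Fin (k + 2)) F) (Fin m → ℂ))
    (hρ : ρ.IsIrreducible) (hm : 2 ≤ m) : B ≤ m := by
  let e0 : Fin 2 ⊕ Fin k ≃ Fin (k + 2) := finSumFinEquiv.trans (finCongr (add_comm 2 k))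
  let e : GG F k ≃* Matrix.SpecialLinearGroup (Fin (k + 2)) F := NReindex.slReindex F e0
  have h1 := NReindex.isIrreducible_comp_mulEquiv' e ρ hρ
  have h2 := hGG (Fin m → ℂ) (MonoidHom.comp ρ e.toMonoidHom) h1 (by simpa using hm)
  simpa using h2

end Cfsg.Agent.Lib.Helper32.SLMD
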