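import Mathlib

/-!
# PF (12.7) group part: small shared lemmas (helper62)
-/

set_option autoImplicit false

namespace Cfsg.Agent.Lib.Helper62.PF12G

variable {G : Type*} [Group G]

theorem mem_normalizer_of_forall_conj_mem [Finite G] (X : Subgroup G) (x : G)
    (hx : ∀ y ∈ X, x * y * x⁻¹ ∈ X) : x ∈ Subgroup.normalizer (X : Set G) := by
  have hpow : ∀ n : ℕ, ∀ y ∈ X, x ^ n * y * (x ^ n)⁻¹ ∈ X := by
    intro n
    induction n with
    | zero => intro y hy; simpa using hy
    | succ n ih =>
      intro y hy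
      have := hx _ (ih y hy)
      have e : x ^ (n + 1) * y * (x ^ (n + 1))⁻¹ = x * (x ^ n * y * (x ^ n)⁻¹) * x⁻¹ := by
        rw [pow_succ']; group
      rw [e]; exact this
  have hinv : ∀ y ∈ X, x⁻¹ * y * x ∈ X := by
    intro y hy
    have h1 := hpow (orderOf x - 1) y hy
    have h2 : x ^ (orderOf x - 1) = x⁻¹ := by
      have hpos := orderOf_pos x
      apply eq_inv_of_mul_eq_one_left
      rw [← pow_succ, Nat.sub_add_cancel hpos, pow_orderOf_eq_one]
    rw [h2, inv_inv] at h1
    exact h1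
  rw [Subgroup.mem_normalizer_iff]
  intro y
  constructor
  · intro hy; exact hx y hy
  · intro hy
    have := hinv _ hy
    simpa [mul_assoc] using this

theorem le_normalizer_of_forall_conj_mem [Finite G] {A K : Subgroup G}
    (h : ∀ a ∈ A, ∀ k ∈ K, a * k * a⁻¹ ∈ K) : A ≤ Subgroup.normalizer (K : Set G) :=
  fun a ha => mem_normalizer_of_forall_conj_mem K a (h a ha)

theorem conj_mem_of_mem_normalizer {K : Subgroup G} {a : G}
    (ha : a ∈ Subgroup.normalizer (K : Set G)) {k : G} (hk : k ∈ K) : a * k * a⁻¹ ∈ K :=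
  (Subgroup.mem_normalizer_iff.mp ha k).mp hk

theorem commutator_lt_of_isSolvable_ne_bot {K : Subgroup G} [hK : Group.IsSolvable K] (h : K ≠ ⊥) :
    ⁅K, K⁆ < K := by
  rw [← Subgroup.nontrivial_iff_ne_bot] at h
  have h1 := Group.IsSolvable.commutator_lt_top_of_nontrivial ↥K
  have h2 : (commutator ↥K).map K.subtype < (⊤ : Subgroup ↥K).map K.subtype :=
    Subgroup.map_subtype_lt_map_subtype.mpr h1
  rw [commutator_def, Subgroup.map_commutator, ← MonoidHom.range_eq_map, Subgroup.range_subtype] at h2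
  exact h2

end Cfsg.Agent.Lib.Helper62.PF12G
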