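import Mathlib
import Cfsg.Agent.Lib.Helper60.PFTwelveG1
import Cfsg.Agent.Lib.Helper62.PF12GBase
import Cfsg.Agent.S0058

/-!
# PF (12.7) group part, module [FIX] (helper62, for helper60 #3353)
-/

set_option autoImplicit false

namespace Cfsg.Agent.Lib.Helper62.PF12G

open Cfsg
open Cfsg.Agent.Lib.Helper60.PF12G

variable {G : Type*} [Group G]

/-- **[FIX]** An elementary abelian group `A` of order `p²` acting coprimely on a nilpotent group
`K ≠ 1`: some `x ∈ A^#` has `C_K(x) ⊄ K'`. -/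
theorem exists_cent_not_le_commutator [Finite G] (A K : Subgroup G) (p : ℕ) (hp : p.Prime)
    (hAc : Nat.card A = p ^ 2) (hAcomm : ∀ a ∈ A, ∀ b ∈ A, a * b = b * a)
    (hAexp : ∀ a ∈ A, a ^ p = 1) (hAK : ∀ a ∈ A, ∀ k ∈ K, a * k * a⁻¹ ∈ K)
    (hcop : ¬ p ∣ Nat.card K) (hnil : Group.IsNilpotent K) (hK : K ≠ ⊥) :
    ∃ x ∈ A, x ≠ 1 ∧ ¬ (K ⊓ Subgroup.centralizer ({x} : Set G) ≤ ⁅K, K⁆) := by
  by_contra hcon
  push Not at hcon
  haveI : IsMulCommutative A := ⟨⟨fun a b => Subtype.ext (hAcomm a a.2 b b.2)⟩⟩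
  have hncyc : ¬ IsCyclic A := by
    intro hc
    obtain ⟨g, hg⟩ := hc.exists_generator
    have h1 : orderOf g = Nat.card A := orderOf_eq_card_of_forall_mem_zpowers hg
    have h2 : g ^ p = 1 := by
      apply Subtype.ext
      simpa using hAexp g g.2
    have h3 : orderOf g ∣ p := orderOf_dvd_of_pow_eq_one h2
    rw [h1, hAc] at h3
    have h4 := Nat.le_of_dvd hp.pos h3
    have : p < p ^ 2 := by
      calc p = p ^ 1 := (pow_one p).symm
        _ < p ^ 2 := Nat.pow_lt_pow_right hp.one_lt (by norm_num)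
    omega
  have hAKn : A ≤ Subgroup.normalizer (K : Set G) := le_normalizer_of_forall_conj_mem hAK
  have hcopAK : (Nat.card A).Coprime (Nat.card K) := by
    rw [hAc]
    exact Nat.Coprime.pow_left 2 ((Nat.Prime.coprime_iff_not_dvd hp).mpr hcop)
  have key := Cfsg.Agent.S0058.result A K hncyc hAKn hcopAK
  have hle : K ≤ ⁅K, K⁆ := by
    have h1 : (⨆ a ∈ {a : G | a ∈ A ∧ a ≠ 1}, K ⊓ Subgroup.centralizer {a}) ≤ ⁅K, K⁆ := by
      apply iSup₂_le
      rintro a ⟨haA, ha1⟩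
      exact hcon a haA ha1
    rw [key] at h1
    exact h1
  have hlt := commutator_lt_of_isSolvable_ne_bot hK
  exact absurd hle (not_le_of_gt hlt)

end Cfsg.Agent.Lib.Helper62.PF12G
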