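import Mathlib
import Cfsg.Agent.Lib.Helper60.PFTwelveG1
import Cfsg.Agent.Lib.Helper22.Solvable
import Cfsg.Agent.S1545

/-!
# PF (12.7) group part, module [FW] (helper62, for helper60 #3353)
-/

set_option autoImplicit false

namespace Cfsg.Agent.Lib.Helper62.PF12G

open Cfsg
open Cfsg.Agent.Lib.Helper60.PF12G
open scoped Pointwise

variable {G : Type*} [Group G]

/-- **[FW]** (Frobenius-Wielandt, from S1545.)  `A` normalized by `d` of prime order
`s`, `d` without fixed points on `A`; `A` and `d` normalize the solvable group `K` of order prime to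
`|A| s`; `C_K(A) = 1` and `K ≠ 1`.  Then `d` centralizes a non-identity element of `K`. -/
theorem exists_fix_of_frobenius_action [Finite G] (A K : Subgroup G) (d : G)
    (hA1 : A ≠ ⊥) (hd : (orderOf d).Prime)
    (hdA : ∀ a ∈ A, d * a * d⁻¹ ∈ A) (hfpf : ∀ a ∈ A, d * a = a * d → a = 1)
    (hAK : ∀ a ∈ A, ∀ k ∈ K, a * k * a⁻¹ ∈ K) (hdK : ∀ k ∈ K, d * k * d⁻¹ ∈ K)
    (hcopA : (Nat.card K).Coprime (Nat.card A)) (hcopd : (Nat.card K).Coprime (orderOf d))
    (hcopAd : (Nat.card A).Coprime (orderOf d))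
    (hsolv : Group.IsSolvable K) (hK1 : K ≠ ⊥)
    (hCA : ∀ k ∈ K, (∀ a ∈ A, a * k = k * a) → k = 1) :
    ∃ k ∈ K, k ≠ 1 ∧ d * k = k * d := by
  set E := Subgroup.zpowers d with hE
  have hEcard : Nat.card E = orderOf d := Nat.card_zpowers d
  have hd1 : d ≠ 1 := by
    intro h
    rw [h, orderOf_one] at hd
    exact Nat.not_prime_one hd
  have hE1 : E ≠ ⊥ := by
    intro h
    apply hd1
    have : d ∈ (⊥ : Subgroup G) := h ▸ Subgroup.mem_zpowers d
    exact Subgroup.mem_bot.mp this
  -- normalizers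
  have mem_norm : ∀ (X : Subgroup G) (x : G), (∀ y ∈ X, x * y * x⁻¹ ∈ X) →
      x ∈ Subgroup.normalizer (X : Set G) := by
    intro X x hx
    have hpow : ∀ n : ℕ, ∀ y ∈ X, x ^ n * y * (x ^ n)⁻¹ ∈ X := by
      intro n
      induction n with
      | zero => intro y hy; simpa using hy
      | succ n ih =>
        intro y hy
        have := hx _ (ih y hy)
        have e : x ^ (n + 1) * y * (x ^ (n + 1))⁻¹ = x * (x ^ n * y * (x ^ n)⁻¹) * x⁻¹ := by
          rw [pow_succ']; group
        rw [e]; exact this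
    have hinv : ∀ y ∈ X, x⁻¹ * y * x ∈ X := by
      intro y hy
      have h1 := hpow (orderOf x - 1) y hy
      have h2 : x ^ (orderOf x - 1) = x⁻¹ := by
        have hpos := orderOf_pos x
        apply eq_inv_of_mul_eq_one_left
        rw [← pow_succ, Nat.sub_add_cancel hpos, pow_orderOf_eq_one]
      rw [h2, inv_inv] at h1
      exact h1
    rw [Subgroup.mem_normalizer_iff]
    intro y
    constructor
    · intro hy; exact hx y hy
    · intro hy
      have := hinv _ hy
      simpa [mul_assoc] using this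
  have hEA : E ≤ Subgroup.normalizer (A : Set G) := by
    rw [hE, Subgroup.zpowers_le]
    exact mem_norm A d hdA
  have hEK : E ≤ Subgroup.normalizer (K : Set G) := by
    rw [hE, Subgroup.zpowers_le]
    exact mem_norm K d hdK
  have hAKn : A ≤ Subgroup.normalizer (K : Set G) := fun a ha => mem_norm K a (hAK a ha)
  have hUE : A ⊓ E = ⊥ := (Subgroup.disjoint_of_coprime_natCard (by rw [hEcard]; exact hcopAd)).eq_bot
  have hUn : ∀ e ∈ E, ∀ u ∈ A, e * u * e⁻¹ ∈ A := by
    intro e he u hu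
    exact (Subgroup.mem_normalizer_iff.mp (hEA he) u).mp hu
  -- every non-identity element of `E` generates `E`
  have hgen : ∀ e ∈ E, e ≠ 1 → d ∈ Subgroup.zpowers e := by
    intro e he he1
    have hle : Subgroup.zpowers e ≤ E := by rw [Subgroup.zpowers_le]; exact he
    have hdvd : Nat.card (Subgroup.zpowers e) ∣ Nat.card E := Subgroup.card_dvd_of_le hle
    rw [hEcard] at hdvd
    rcases (Nat.dvd_prime hd).mp hdvd with h1 | h1
    · exfalso
      apply he1
      have : Subgroup.zpowers e = ⊥ := Subgroup.card_eq_one.mp h1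
      exact Subgroup.zpowers_eq_bot.mp this
    · have : Subgroup.zpowers e = E := by
        apply Subgroup.eq_of_le_of_card_ge hle
        rw [h1, hEcard]
      rw [this]
      exact Subgroup.mem_zpowers d
  have hfpf' : ∀ e ∈ E, e ≠ 1 → ∀ u ∈ A, e * u = u * e → u = 1 := by
    intro e he he1 u hu hc
    apply hfpf u hu
    obtain ⟨i, hi⟩ := Subgroup.mem_zpowers_iff.mp (hgen e he he1)
    rw [← hi]
    have : Commute e u := hc
    exact (this.zpow_left i).eq
  have hHn : ∀ x ∈ A ⊔ E, ∀ h ∈ K, x * h * x⁻¹ ∈ K := by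
    intro x hx h hh
    have : x ∈ Subgroup.normalizer (K : Set G) := (sup_le hAKn hEK) hx
    exact (Subgroup.mem_normalizer_iff.mp this h).mp hh
  have hcardAE : Nat.card (A ⊔ E : Subgroup G) ∣ Nat.card A * Nat.card E :=
    Cfsg.Agent.Lib.Helper22.card_sup_dvd_mul_of_le_normalizer hEA
  have hcop : Nat.Coprime (Nat.card K) (Nat.card ↥(A ⊔ E)) := by
    apply Nat.Coprime.coprime_dvd_right hcardAE
    rw [hEcard]
    exact Nat.Coprime.mul_right hcopA hcopd
  have hdisj : K ⊓ (A ⊔ E) = ⊥ := (Subgroup.disjoint_of_coprime_natCard hcop).eq_bot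
  have key := Cfsg.Agent.S1545.result A E K hA1 hE1 hUE hUn hfpf' hHn hdisj hsolv hcop
  -- `C_K(A) = 1`
  have hCA' : K ⊓ Subgroup.centralizer (A : Set G) = ⊥ := by
    rw [eq_bot_iff]
    rintro k ⟨hk, hc⟩
    rw [Subgroup.mem_bot]
    apply hCA k hk
    intro a ha
    exact Subgroup.mem_centralizer_iff.mp hc a ha
  have hCAE : K ⊓ Subgroup.centralizer ((A ⊔ E : Subgroup G) : Set G) = ⊥ := by
    rw [eq_bot_iff, ← hCA']
    refine inf_le_inf le_rfl (Subgroup.centralizer_le ?_)
    exact_mod_cast (le_sup_left : A ≤ A ⊔ E)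
  rw [hCA', hCAE] at key
  simp only [Subgroup.card_bot, one_pow, one_mul, mul_one] at key
  -- so `|K| = |C_K(E)|^s`
  by_contra hcon
  push Not at hcon
  have hCE : K ⊓ Subgroup.centralizer (E : Set G) = ⊥ := by
    rw [eq_bot_iff]
    rintro k ⟨hk, hc⟩
    rw [Subgroup.mem_bot]
    by_contra hk1
    apply hcon k hk hk1
    exact Subgroup.mem_centralizer_iff.mp hc d (Subgroup.mem_zpowers d)
  rw [hCE] at key
  simp only [Subgroup.card_bot, one_pow] at key
  exact hK1 (Subgroup.card_eq_one.mp key)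

end Cfsg.Agent.Lib.Helper62.PF12G
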