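import Mathlib
import Cfsg.Agent.Lib.Helper60.PFTwelveG1
import Cfsg.Agent.Lib.Helper62.PF12GBase
import Cfsg.Agent.Lib.Helper62.PiHall
import Cfsg.Agent.Lib.Helper54.Coprime
import Cfsg.Agent.Lib.Helper54.PF12GOrb
import Cfsg.Agent.Lib.Helper23.TypeP

/-!
# Peterfalvi (12.7) group part, module [SYLC] (helper62, for helper60 #3353)

`exists_sylow_cfg`: the Sylow configuration of Peterfalvi (12.9).
-/

set_option autoImplicit false
set_option linter.unusedVariables false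

namespace Cfsg.Agent.Lib.Helper62.PF12G

open Cfsg
open Cfsg.Agent.Lib.Helper60.PF12G
open scoped Pointwise

variable {G : Type*} [Group G]

/-- A conjugate (by an element of `M`) of a complement of `K` in `M` is a complement. -/
theorem isComplIn_conj_smul {M K U : Subgroup G} (hK : ∀ m ∈ M, ∀ k ∈ K, m * k * m⁻¹ ∈ K)
    (hc : IsComplIn K U M) {m : G} (hm : m ∈ M) (hdisj : K ⊓ (MulAut.conj m • U) = ⊥) :
    IsComplIn K (MulAut.conj m • U) M := by
  refine ⟨hc.1, ?_, hdisj, ?_⟩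
  · exact Cfsg.Agent.Lib.Helper54.conj_smul_le_of_mem hm hc.2.1
  · intro x hx
    have h1 : m⁻¹ * x * m ∈ M := M.mul_mem (M.mul_mem (M.inv_mem hm) hx) hm
    obtain ⟨a, ha, b, hb, hab⟩ := hc.2.2.2 _ h1
    refine ⟨m * a * m⁻¹, hK m hm a ha, m * b * m⁻¹,
      Cfsg.Agent.Lib.Helper54.conj_mem_conj_smul hb, ?_⟩
    have h2 : x = m * (m⁻¹ * x * m) * m⁻¹ := by group
    rw [h2, hab]
    group

/-- `U` is a Hall subgroup of `M` for the set of primes not dividing `|K|`. -/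
theorem FData_isPiHallOf [Finite G] {M K U U₁ U₀ : Subgroup G} (hD : FData M K U U₁ U₀) :
    IsPiHallOf {r | r.Prime ∧ ¬ r ∣ Nat.card K} U M := by
  have hcard := Cfsg.Agent.Lib.Helper23.card_of_isComplIn hD.compl
  have h3 := Cfsg.Agent.Lib.Helper23.card_mul_relIndex_of_le hD.compl.2.1
  have hrel : U.relIndex M = Nat.card K := by
    rw [hcard, mul_comm (Nat.card K)] at h3
    exact Nat.eq_of_mul_eq_mul_left Nat.card_pos h3
  refine ⟨hD.compl.2.1, ?_, ?_⟩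
  · intro r hr hrU
    refine ⟨hr, fun hrK => ?_⟩
    exact hr.one_lt.ne' (Nat.eq_one_of_dvd_coprimes hD.cop hrK hrU)
  · intro r hr hrπ
    rw [hrel]
    exact hrπ.2

/-- A `p`-subgroup of `M`, `p ∤ |K|`, lies in an `M`-conjugate of `U`, which is a complement
of `K` in `M`. -/
theorem exists_compl_ge [Finite G] {M K U U₁ U₀ : Subgroup G} (hD : FData M K U U₁ U₀)
    {p : ℕ} (hp : p.Prime) (hpK : ¬ p ∣ Nat.card K) {P : Subgroup G} (hPM : P ≤ M)
    (hP : IsPGroup p P) :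
    ∃ m ∈ M, P ≤ MulAut.conj m • U ∧ IsComplIn K (MulAut.conj m • U) M := by
  haveI : Fact p.Prime := ⟨hp⟩
  have hUH := FData_isPiHallOf hD
  obtain ⟨n, hn⟩ := hP.exists_card_eq
  obtain ⟨H₁, hH₁, hPH₁⟩ := Cfsg.Agent.Lib.Helper62.isPiHallOf_dom
    (π := {r | r.Prime ∧ ¬ r ∣ Nat.card K}) hD.M_solv hPM (by
      intro r hr hrd
      rw [hn] at hrd
      have := (Nat.prime_dvd_prime_iff_eq hr hp).mp (hr.dvd_of_dvd_pow hrd)
      rw [this]
      exact ⟨hp, hpK⟩)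
  obtain ⟨m, hmM, hm⟩ := Cfsg.Agent.Lib.Helper62.isPiHallOf_conj hD.M_solv hUH hH₁
  refine ⟨m, hmM, by rw [hm]; exact hPH₁, ?_⟩
  apply isComplIn_conj_smul hD.K_norm hD.compl hmM
  have hcop : (Nat.card K).Coprime (Nat.card (MulAut.conj m • U : Subgroup G)) := by
    rw [Cfsg.Agent.Lib.Helper54.card_conj_smul]
    exact hD.cop
  exact (Subgroup.disjoint_of_coprime_natCard hcop).eq_bot

/-- In an abelian subgroup `PE` of `E` of `p`-rank at most 2, an elementary abelian subgroup `A₀` of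
order `p²` contains every element `a` with `a ^ p = 1`. -/
theorem mem_of_pow_eq_one_of_rank [Finite G] {p : ℕ} (E : Subgroup G) (PE : Subgroup ↥E)
    (hc : IsMulCommutative PE) (hr : PRankLE p 2 PE) {A₀ : Subgroup G}
    (hA₀ : A₀ ≤ PE.map E.subtype) (hA₀c : Nat.card A₀ = p ^ 2) (hA₀exp : ∀ a ∈ A₀, a ^ p = 1) :
    ∀ a ∈ PE.map E.subtype, a ^ p = 1 → a ∈ A₀ := by
  have hcomm : ∀ a b : ↥PE, a * b = b * a := fun a b => hc.is_comm.comm a b
  let W : Subgroup ↥PE :=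
    { carrier := {x | x ^ p = 1}
      one_mem' := by simp
      mul_mem' := by
        intro a b ha hb
        simp only [Set.mem_setOf_eq] at ha hb ⊢
        rw [(show Commute a b from hcomm a b).mul_pow, ha, hb, one_mul]
      inv_mem' := by
        intro a ha
        simp only [Set.mem_setOf_eq] at ha ⊢
        rw [inv_pow, ha, inv_one] }
  have hWmem : ∀ x : ↥PE, x ∈ W ↔ x ^ p = 1 := fun x => Iff.rfl
  haveI : IsMulCommutative W := ⟨⟨fun a b => Subtype.ext (hcomm a.1 b.1)⟩⟩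
  have hWc : Nat.card W ≤ p ^ 2 := by
    apply hr W inferInstance
    intro a ha
    exact ha
  set W' : Subgroup G := (W.map PE.subtype).map E.subtype with hW'
  have hW'c : Nat.card W' = Nat.card W := by
    rw [hW', Subgroup.card_map_of_injective E.subtype_injective,
      Subgroup.card_map_of_injective PE.subtype_injective]
  have hmemW' : ∀ a ∈ PE.map E.subtype, a ^ p = 1 → a ∈ W' := by
    intro a ha hap
    obtain ⟨y, hy, rfl⟩ := ha
    refine ⟨y, ⟨⟨y, hy⟩, ?_, rfl⟩, rfl⟩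
    change (⟨y, hy⟩ : ↥PE) ^ p = 1
    apply Subtype.ext
    apply Subtype.ext
    simpa using hap
  have hle : A₀ ≤ W' := fun a ha => hmemW' a (hA₀ ha) (hA₀exp a ha)
  have heq : A₀ = W' := by
    apply Subgroup.eq_of_le_of_card_ge hle
    rw [hW'c, hA₀c]
    exact hWc
  intro a ha hap
  rw [heq]
  exact hmemW' a ha hap

/-- **[SYLC]** (Peterfalvi (12.9), Sylow part.)  `M` of Frobenius type with data `hD`, `p ∤ |K|` a prime
for which the Sylow `p`-subgroups of every complement `E` of `K` in `M` are abelian of rank at most 2,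
and `A₀ ≤ M` elementary abelian of order `p²`.  Then there are a complement `E` and a Sylow
`p`-subgroup `P₀` of `M` with `A₀ ≤ P₀ ≤ E`, `P₀` abelian, `A₀ = Ω₁(P₀)`, and some `y₀ ∈ A₀^#` has no fixed
point on `K`. -/
theorem exists_sylow_cfg [Finite G] {M K U U₁ U₀ : Subgroup G} (hD : FData M K U U₁ U₀)
    {p : ℕ} (hp : p.Prime) (hpK : ¬ p ∣ Nat.card K)
    (hSyl : ∀ E : Subgroup G, IsComplIn K E M → ∀ P : Sylow p E,
      IsMulCommutative (P : Subgroup E) ∧ PRankLE p 2 (P : Subgroup E))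
    {A₀ : Subgroup G} (hA₀M : A₀ ≤ M) (hA₀c : Nat.card A₀ = p ^ 2)
    (hA₀comm : ∀ a ∈ A₀, ∀ b ∈ A₀, a * b = b * a) (hA₀exp : ∀ a ∈ A₀, a ^ p = 1) :
    ∃ (E P₀ : Subgroup G) (y₀ : G),
      IsComplIn K E M ∧ P₀ ≤ E ∧ IsPGroup p P₀ ∧
      (∀ Q : Subgroup G, Q ≤ M → IsPGroup p Q → P₀ ≤ Q → Q = P₀) ∧
      (∀ a ∈ P₀, ∀ b ∈ P₀, a * b = b * a) ∧
      A₀ ≤ P₀ ∧ (∀ a ∈ P₀, a ^ p = 1 → a ∈ A₀) ∧
      y₀ ∈ A₀ ∧ y₀ ≠ 1 ∧ (∀ k ∈ K, y₀ * k = k * y₀ → k = 1) := by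
  haveI : Fact p.Prime := ⟨hp⟩
  -- a Sylow `p`-subgroup of `M` containing `A₀`
  have hA₀p : IsPGroup p (A₀.subgroupOf M) := by
    apply IsPGroup.of_card (n := 2)
    rw [Nat.card_congr (Subgroup.subgroupOfEquivOfLe hA₀M).toEquiv, hA₀c]
  obtain ⟨S, hS⟩ := hA₀p.exists_le_sylow
  set P₀ : Subgroup G := (S : Subgroup ↥M).map M.subtype with hP₀
  have hP₀M : P₀ ≤ M := Subgroup.map_subtype_le _
  have hP₀p : IsPGroup p P₀ := S.isPGroup'.map M.subtype
  have hA₀P₀ : A₀ ≤ P₀ := by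
    have := Subgroup.map_mono (f := M.subtype) hS
    rwa [Subgroup.map_subgroupOf_eq_of_le hA₀M] at this
  -- the complement
  obtain ⟨m, hmM, hP₀E, hE⟩ := exists_compl_ge hD hp hpK hP₀M hP₀p
  set E : Subgroup G := MulAut.conj m • U with hEdef
  -- `P₀` is a Sylow `p`-subgroup of `E`
  have hcardM := Cfsg.Agent.Lib.Helper23.card_of_isComplIn hE
  have hfac : (Nat.card M).factorization p = (Nat.card E).factorization p := by
    rw [hcardM, Nat.factorization_mul Nat.card_pos.ne' Nat.card_pos.ne', Finsupp.add_apply,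
      Nat.factorization_eq_zero_of_not_dvd hpK, zero_add]
  obtain ⟨PE, hPE⟩ := Cfsg.Agent.Lib.Helper54.exists_sylow_of_card (p := p) E P₀ hP₀E (by
    rw [hP₀, Cfsg.Agent.Lib.Helper54.card_map_sylow, hfac])
  obtain ⟨hcomm, hrank⟩ := hSyl E hE PE
  have hP₀comm : ∀ a ∈ P₀, ∀ b ∈ P₀, a * b = b * a := by
    intro a ha b hb
    rw [← hPE] at ha hb
    obtain ⟨a', ha', rfl⟩ := ha
    obtain ⟨b', hb', rfl⟩ := hb
    have h1 : (⟨a', ha'⟩ : ↥(PE : Subgroup ↥E)) * ⟨b', hb'⟩ = ⟨b', hb'⟩ * ⟨a', ha'⟩ :=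
      hcomm.is_comm.comm _ _
    have h2 := congrArg (fun x : ↥(PE : Subgroup ↥E) => ((x : ↥E) : G)) h1
    simpa using h2
  have hΩ : ∀ a ∈ P₀, a ^ p = 1 → a ∈ A₀ := by
    have := mem_of_pow_eq_one_of_rank (p := p) E (PE : Subgroup ↥E) hcomm hrank
      (A₀ := A₀) (by rw [hPE]; exact hA₀P₀) hA₀c hA₀exp
    rwa [hPE] at this
  -- maximality
  have hmax : ∀ Q : Subgroup G, Q ≤ M → IsPGroup p Q → P₀ ≤ Q → Q = P₀ := by
    intro Q hQM hQp hP₀Q
    have hQ' : IsPGroup p (Q.subgroupOf M) := hQp.comap_subtype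
    have hle : (S : Subgroup ↥M) ≤ Q.subgroupOf M := by
      intro x hx
      rw [Subgroup.mem_subgroupOf]
      exact hP₀Q ⟨x, hx, rfl⟩
    have h1 := S.is_maximal' hQ' hle
    rw [hP₀, ← h1, Subgroup.map_subgroupOf_eq_of_le hQM]
  -- the element `y₀`
  have hpU : p ∣ Nat.card U := by
    have h1 : p ^ 2 ∣ Nat.card M := by
      rw [← hA₀c]
      exact Subgroup.card_dvd_of_le hA₀M
    have h2 : p ∣ Nat.card K * Nat.card U := by
      rw [← Cfsg.Agent.Lib.Helper23.card_of_isComplIn hD.compl]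
      exact dvd_trans (dvd_pow_self p two_ne_zero) h1
    exact (hp.dvd_mul.mp h2).resolve_left hpK
  obtain ⟨u₀, hu₀, hu₀o⟩ := Cfsg.Agent.Lib.Helper54.exists_mem_U₀_orderOf hD hp hpU
  have hu₀1 : u₀ ≠ 1 := by
    intro h
    rw [h, orderOf_one] at hu₀o
    exact hp.one_lt.ne hu₀o
  have hu₀p : u₀ ^ p = 1 := by rw [← hu₀o]; exact pow_orderOf_eq_one u₀
  have htE : m * u₀ * m⁻¹ ∈ E := Cfsg.Agent.Lib.Helper54.conj_mem_conj_smul (hD.U₀_le hu₀)
  have htp : (m * u₀ * m⁻¹) ^ p = 1 := by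
    rw [conj_pow, hu₀p]; group
  have hzp : IsPGroup p (Subgroup.zpowers (⟨m * u₀ * m⁻¹, htE⟩ : ↥E)) := by
    intro x
    refine ⟨1, ?_⟩
    obtain ⟨y, hy⟩ := x
    obtain ⟨j, rfl⟩ := Subgroup.mem_zpowers_iff.mp hy
    apply Subtype.ext
    simp only [pow_one, Subgroup.coe_pow, Subgroup.coe_zpow, Subgroup.coe_one]
    apply Subtype.ext
    simp only [Subgroup.coe_pow, Subgroup.coe_zpow, Subgroup.coe_one]
    rw [← zpow_natCast, ← zpow_mul, mul_comm, zpow_mul, zpow_natCast, htp, one_zpow]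
  obtain ⟨Q', hQ'⟩ := hzp.exists_le_sylow
  obtain ⟨e, he⟩ := MulAction.exists_smul_eq ↥E Q' PE
  have heQ : e * ⟨m * u₀ * m⁻¹, htE⟩ * e⁻¹ ∈ (PE : Subgroup ↥E) := by
    rw [← he, Sylow.coe_subgroup_smul]
    have := Subgroup.smul_mem_pointwise_smul _ (MulAut.conj e) _
      (hQ' (Subgroup.mem_zpowers (⟨m * u₀ * m⁻¹, htE⟩ : ↥E)))
    simpa [MulAut.smul_def, MulAut.conj_apply] using this
  set g : G := (e : G) * m with hg
  have hgM : g ∈ M := M.mul_mem (hE.2.1 e.2) hmM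
  have hy₀eq : ((e * ⟨m * u₀ * m⁻¹, htE⟩ * e⁻¹ : ↥E) : G) = g * u₀ * g⁻¹ := by
    simp only [Subgroup.coe_mul, Subgroup.coe_inv, hg]
    group
  have hy₀P₀ : g * u₀ * g⁻¹ ∈ P₀ := by
    rw [← hPE, ← hy₀eq]
    exact ⟨_, heQ, rfl⟩
  have hy₀p : (g * u₀ * g⁻¹) ^ p = 1 := by
    rw [conj_pow, hu₀p]; group
  refine ⟨E, P₀, g * u₀ * g⁻¹, hE, hP₀E, hP₀p, hmax, hP₀comm, hA₀P₀, hΩ,
    hΩ _ hy₀P₀ hy₀p, ?_, ?_⟩
  · intro h
    apply hu₀1
    have : u₀ = g⁻¹ * (g * u₀ * g⁻¹) * g := by group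
    rw [this, h]
    group
  · intro k hk hcomm'
    have hk' : g⁻¹ * k * g ∈ K := by
      have := hD.K_norm g⁻¹ (M.inv_mem hgM) k hk
      simpa using this
    have h1 : u₀ * (g⁻¹ * k * g) = (g⁻¹ * k * g) * u₀ := by
      calc u₀ * (g⁻¹ * k * g) = g⁻¹ * ((g * u₀ * g⁻¹) * k) * g := by group
        _ = g⁻¹ * (k * (g * u₀ * g⁻¹)) * g := by rw [hcomm']
        _ = (g⁻¹ * k * g) * u₀ := by group
    have h2 := hD.fpf u₀ hu₀ hu₀1 _ hk' h1
    have : k = g * (g⁻¹ * k * g) * g⁻¹ := by group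
    rw [this, h2]
    group

end Cfsg.Agent.Lib.Helper62.PF12G
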