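import Mathlib
import Cfsg.Agent.Lib.Helper64.PFElevenStruct
import Cfsg.Agent.Lib.Helper58.PFNineND
import Cfsg.Agent.Lib.Helper59.PFNineSB
import Cfsg.Agent.Lib.Helper4.PFNineA

/-!
# PROJECT PF, Peterfalvi section 11, module [T4-COUNT] (helper62)

Translation of helper58's `axis_count_small` ([ND]) and of [ND2] `axis_count_two` to `calS M`.
`typeIV_counts_of` takes the conclusion of [ND2] (for the sec.9 context of `↥M`) as a hypothesis;
statement otherwise verbatim from helper64's sheet `Lib/Helper64/PF11_MODULES2.md`.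
-/

set_option autoImplicit false

namespace Cfsg.Agent.Lib.Helper62.PF11

open Cfsg Cfsg.Agent.Lib.Helper4.PF Cfsg.Agent.Lib.Helper58.PF9
open Cfsg.Agent.Lib.Helper64.PF11

universe u

variable {G : Type u} [Group G] [Fintype G] {M W₁ U W₂ : Subgroup G} [Fintype M]

/-- `calS M` is finite -/
theorem calS_finite : (calS M).Finite := by
  have hfin : Finite (IrrCharacter ↥(derK M)) := Cfsg.Agent.Lib.Helper78.instFiniteIrrCharacter
  have h1 : ({θ : ↥(derK M) → ℂ | IsIrrCharacter ↥(derK M) θ}).Finite :=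
    Set.finite_coe_iff.mp hfin
  apply (h1.image (indFun (derK M))).subset
  rintro φ ⟨θ, hθ, -, -, rfl⟩
  exact ⟨θ, hθ, rfl⟩

/-- the members of the book's `S(N)` are members of `calS M` -/
theorem Sbook_subset_calS (H N : Subgroup ↥M) : Sbook (derK M) H N ⊆ calS M := by
  rintro φ ⟨θ, ⟨hθ, -, h, -, hne⟩, rfl⟩
  refine ⟨θ, hθ, ?_, ?_, rfl⟩
  · intro h1
    apply hne
    rw [h1]
  · intro a ha
    rw [Subgroup.mem_bot] at ha
    have : a = 1 := Subtype.ext ha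
    rw [this]

/-- index of the derived subgroup of `U`, computed in `↥M` -/
theorem relIndex_commutator_subgroupOf (hUM : U ≤ M) :
    (⁅U.subgroupOf M, U.subgroupOf M⁆).relIndex (U.subgroupOf M) = (⁅U, U⁆).relIndex U := by
  have hid : ⁅U.subgroupOf M, U.subgroupOf M⁆ = (⁅U, U⁆).subgroupOf M := by
    apply Subgroup.map_injective M.subtype_injective
    rw [Subgroup.map_commutator, Subgroup.map_subgroupOf_eq_of_le hUM,
      Subgroup.map_subgroupOf_eq_of_le ((Subgroup.commutator_le_self _).trans hUM)]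
  rw [hid, Subgroup.relIndex_subgroupOf hUM]

/-- **[T4-COUNT]**, with the conclusion of [ND2] as a hypothesis. -/
theorem typeIV_counts_of (S : Struct34 M W₁ U W₂) (c : Ctx34 M W₁ U W₂)
    (H₁ : Subgroup ↥M)
    (hA : IsAxis ((fittingHallOf M).subgroupOf M) (U.subgroupOf M) (W₁.subgroupOf M) ⊥ H₁
      (Nat.card W₂))
    (r m : ℕ) (hm : (⁅U, U⁆).relIndex U = r ^ m)
    (ha : (coreC (U.subgroupOf M) H₁ ⊥).relIndex (U.subgroupOf M) = r)
    (hND2 : (Nat.card W₁ - 1) * (Nat.card W₂ - 1) ^ 2 *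
        (⁅U.subgroupOf M, U.subgroupOf M⁆).relIndex (U.subgroupOf M) ≤ 2 * r ^ 4 *
      {φ : ↥M → ℂ | φ ∈ Sbook (derK M) ((fittingHallOf M).subgroupOf M)
          (⊥ ⊔ ⁅U.subgroupOf M, U.subgroupOf M⁆) ∧ IsIrrCharacter ↥M φ ∧
        φ 1 = ((Nat.card W₁ * r ^ 2 : ℕ) : ℂ)}.ncard) :
    (Nat.card W₂ - 1) * r ^ m ≤ r ^ 2 *
      {ξ : ↥M → ℂ | ξ ∈ calS M ∧ IsIrrCharacter ↥M ξ ∧
        ξ 1 = ((Nat.card W₁ * r : ℕ) : ℂ)}.ncard ∧
    (Nat.card W₁ - 1) * (Nat.card W₂ - 1) ^ 2 * r ^ m ≤ 2 * r ^ 4 *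
      {ξ : ↥M → ℂ | ξ ∈ calS M ∧ IsIrrCharacter ↥M ξ ∧
        ξ 1 = ((Nat.card W₁ * r ^ 2 : ℕ) : ℂ)}.ncard := by
  have hUM : U ≤ M := Cfsg.Agent.Lib.Helper4.PF9.U_le S.hP
  have hidx := relIndex_commutator_subgroupOf hUM
  rw [hm] at hidx
  have h1 := axis_count_small c hA
  rw [ha, hidx] at h1
  rw [hidx] at hND2
  constructor
  · refine h1.trans (Nat.mul_le_mul_left _ ?_)
    apply Set.ncard_le_ncard _ (calS_finite.subset (fun ξ hξ => hξ.1))
    rintro φ ⟨hφ, hirr, hdeg⟩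
    exact ⟨Sbook_subset_calS _ _ hφ, hirr, hdeg⟩
  · refine hND2.trans (Nat.mul_le_mul_left _ ?_)
    apply Set.ncard_le_ncard _ (calS_finite.subset (fun ξ hξ => hξ.1))
    rintro φ ⟨hφ, hirr, hdeg⟩
    exact ⟨Sbook_subset_calS _ _ hφ, hirr, hdeg⟩

end Cfsg.Agent.Lib.Helper62.PF11
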