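import Mathlib
import Cfsg.Agent.Lib.Helper62.PFElevenT4Count
import Cfsg.Agent.Lib.Helper33.PFNineND2

/-!
# PROJECT PF, Peterfalvi section 11, module [T4-COUNT], final form (helper62)

`typeIV_counts`: the exact statement of helper64's sheet `Lib/Helper64/PF11_MODULES2.md`, obtained
from `typeIV_counts_of` and helper33's [ND2] `axis_count_two`.
-/

set_option autoImplicit false

namespace Cfsg.Agent.Lib.Helper62.PF11

open Cfsg Cfsg.Agent.Lib.Helper4.PF Cfsg.Agent.Lib.Helper58.PF9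
open Cfsg.Agent.Lib.Helper64.PF11

universe u

variable {G : Type u} [Group G] [Fintype G] {M W₁ U W₂ : Subgroup G} [Fintype M]

/-- **[T4-COUNT]** (sheet statement). -/
theorem typeIV_counts (S : Struct34 M W₁ U W₂) (c : Ctx34 M W₁ U W₂)
    (H₁ : Subgroup ↥M)
    (hA : IsAxis ((fittingHallOf M).subgroupOf M) (U.subgroupOf M) (W₁.subgroupOf M) ⊥ H₁
      (Nat.card W₂))
    (r m : ℕ) (hm : (⁅U, U⁆).relIndex U = r ^ m)
    (ha : (coreC (U.subgroupOf M) H₁ ⊥).relIndex (U.subgroupOf M) = r)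
    (hind : ∀ w ∈ W₁.subgroupOf M, w ≠ 1 →
      (coreC (U.subgroupOf M) H₁ ⊥ ⊓
        coreC (U.subgroupOf M) (H₁.map (MulAut.conj w).toMonoidHom) ⊥).relIndex
          (U.subgroupOf M) = r ^ 2) :
    (Nat.card W₂ - 1) * r ^ m ≤ r ^ 2 *
      {ξ : ↥M → ℂ | ξ ∈ calS M ∧ IsIrrCharacter ↥M ξ ∧
        ξ 1 = ((Nat.card W₁ * r : ℕ) : ℂ)}.ncard ∧
    (Nat.card W₁ - 1) * (Nat.card W₂ - 1) ^ 2 * r ^ m ≤ 2 * r ^ 4 *
      {ξ : ↥M → ℂ | ξ ∈ calS M ∧ IsIrrCharacter ↥M ξ ∧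
        ξ 1 = ((Nat.card W₁ * r ^ 2 : ℕ) : ℂ)}.ncard :=
  typeIV_counts_of S c H₁ hA r m hm ha
    (Cfsg.Agent.Lib.Helper33.PF9ND2.axis_count_two c hA r ha hind)

end Cfsg.Agent.Lib.Helper62.PF11
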