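import Mathlib
import Cfsg.Agent.Lib.Helper94.SPMD.Defs

/-!
# SPMD-[R-CONJ] (helper62): conjugation moves weight spaces
-/

set_option autoImplicit false

namespace Cfsg.Agent.Lib.Helper94.SPMD

open Matrix Module

section R
variable {G : Type*} [Group G] {V : Type*} [AddCommGroup V] [Module ℂ V] [FiniteDimensional ℂ V]
variable {A : Type*} [AddCommGroup A] [Finite A]

/-- **[R-CONJ]** if `g u(a) g⁻¹ = u(α a)` then `ρ g` maps the `θ`-weight space into the `θ ∘ α⁻¹`-weight space -/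
theorem wt_ne_bot_of_conj (ρ : Representation ℂ G V) (u : Multiplicative A →* G) (θ : AddChar A ℂ)
    (g : G) (α : A ≃+ A)
    (hg : ∀ a : A, g * u (Multiplicative.ofAdd a) = u (Multiplicative.ofAdd (α a)) * g)
    (hθ : wt ρ u θ ≠ ⊥) : wt ρ u (θ.compAddMonoidHom ((α.symm : A ≃+ A) : A →+ A)) ≠ ⊥ := by
  obtain ⟨x, hx, hx0⟩ := (Submodule.ne_bot_iff _).mp hθ
  rw [Submodule.ne_bot_iff]
  refine ⟨ρ g x, ?_, ?_⟩
  · intro a
    have h1 := hg (α.symm a)
    rw [AddEquiv.apply_symm_apply] at h1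
    have h2 : ρ (u (Multiplicative.ofAdd a)) (ρ g x) =
        ρ g (ρ (u (Multiplicative.ofAdd (α.symm a))) x) := by
      rw [← Module.End.mul_apply, ← map_mul, ← h1, map_mul, Module.End.mul_apply]
    rw [h2, hx (α.symm a), map_smul]
    rfl
  · intro h
    apply hx0
    have h3 : ρ g⁻¹ (ρ g x) = x := by
      rw [← Module.End.mul_apply, ← map_mul, inv_mul_cancel, map_one]
      rfl
    rw [← h3, h, map_zero]

end R

end Cfsg.Agent.Lib.Helper94.SPMD
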