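import Mathlib
import Cfsg.Agent.Lib.Helper94.SPMD.Defs

/-!
# SPMD-[T-TRIV] (helper62): an irreducible representation of degree at least two is not trivial
-/

set_option autoImplicit false

namespace Cfsg.Agent.Lib.Helper94.SPMD

open Matrix Module

section R
variable {G : Type*} [Group G] {V : Type*} [AddCommGroup V] [Module ℂ V] [FiniteDimensional ℂ V]
variable {A : Type*} [AddCommGroup A] [Finite A]

/-- **[T-TRIV]** an irreducible representation on `Fin k → ℂ`, `k ≥ 2`, is not trivial -/
theorem exists_ne_one_of_irreducible {k : ℕ} (ρ : Representation ℂ G (Fin k → ℂ))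
    (hρ : ρ.IsIrreducible) (hk : 2 ≤ k) : ∃ g, ρ g ≠ 1 := by
  by_contra hcon
  push Not at hcon
  -- the line spanned by the first basis vector is a subrepresentation
  let i0 : Fin k := ⟨0, by omega⟩
  let i1 : Fin k := ⟨1, by omega⟩
  let e0 : Fin k → ℂ := Pi.single i0 1
  let e1 : Fin k → ℂ := Pi.single i1 1
  let W : Subrepresentation ρ :=
    { toSubmodule := Submodule.span ℂ {e0}
      apply_mem_toSubmodule := by
        intro g v hv
        rw [hcon g]
        exact hv }
  haveI := hρ
  rcases eq_bot_or_eq_top W with h | h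
  · have h1 : e0 ∈ W.toSubmodule := Submodule.subset_span rfl
    rw [h] at h1
    have h2 : e0 = 0 := by
      have h1' : e0 ∈ (⊥ : Submodule ℂ (Fin k → ℂ)) := h1
      simpa using h1'
    have h3 := congrFun h2 i0
    simp [e0] at h3
  · have h1 : e1 ∈ W.toSubmodule := by
      rw [h]
      trivial
    obtain ⟨c, hc⟩ := Submodule.mem_span_singleton.mp h1
    have h3 := congrFun hc i1
    have h4 : i0 ≠ i1 := by
      intro h
      have := congrArg Fin.val h
      simp [i0, i1] at this
    simp [e0, e1, h4.symm] at h3

end R

end Cfsg.Agent.Lib.Helper94.SPMD
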