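import Mathlib

/-!
# Cyclic fixed-point-free isometry groups of symplectic spaces over `ZMod p` (part A)

Generic pieces: counting for free permutations, an averaging (Maschke) lemma for a single operator
of finite order prime to the characteristic, and the data structure `Data`.
-/

set_option autoImplicit false

universe u

namespace Cfsg.Agent.Lib.Helper62.SympCyclic

open Module

/-- A finite group acting freely on a finite set: its order divides the size of the set. -/
theorem card_dvd_of_free {G X : Type*} [Group G] [MulAction G X] [Finite G] [Finite X]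
    (hfree : ∀ (g : G) (a : X), g • a = a → g = 1) : Nat.card G ∣ Nat.card X := by
  classical
  haveI : Fintype (MulAction.orbitRel.Quotient G X) := Fintype.ofFinite _
  haveI : Fintype (Quotient (MulAction.orbitRel G X)) := Fintype.ofFinite _
  have e := MulAction.selfEquivSigmaOrbitsQuotientStabilizer G X
  have key : ∀ ω : MulAction.orbitRel.Quotient G X,
      Nat.card (G ⧸ MulAction.stabilizer G ω.out) = Nat.card G := by
    intro ω
    have hs : MulAction.stabilizer G ω.out = ⊥ := by
      ext g
      rw [MulAction.mem_stabilizer_iff, Subgroup.mem_bot]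
      exact ⟨hfree g _, fun hg => by rw [hg, one_smul]⟩
    rw [hs]
    exact Nat.card_congr (QuotientGroup.quotientBot (G := G)).toEquiv
  rw [Nat.card_congr e, Nat.card_sigma]
  simp only [key]
  rw [Finset.sum_const, smul_eq_mul]
  exact Dvd.intro_left _ rfl

/-- A permutation of a finite set with `σ ^ h = 1` all of whose powers `σ ^ k`, `h ∤ k`, are
fixed-point-free: `h` divides the size of the set. -/
theorem dvd_card_of_free_perm {S : Type*} [Finite S] (σ : Equiv.Perm S) (h : ℕ) (hpos : 0 < h)
    (hpow : σ ^ h = 1) (hfree : ∀ k : ℕ, ¬ h ∣ k → ∀ a : S, (σ ^ k) a ≠ a) :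
    h ∣ Nat.card S := by
  classical
  rcases isEmpty_or_nonempty S with hS | ⟨⟨a₀⟩⟩
  · rw [Nat.card_of_isEmpty]
    exact dvd_zero h
  have hord : orderOf σ = h := by
    rw [orderOf_eq_iff hpos]
    refine ⟨hpow, fun m hm hm0 hσ => ?_⟩
    have : ¬ h ∣ m := Nat.not_dvd_of_pos_of_lt hm0 hm
    exact hfree m this a₀ (by rw [hσ]; rfl)
  have hcard : Nat.card (Subgroup.zpowers σ) = h := by
    rw [Nat.card_zpowers, hord]
  rw [← hcard]
  apply card_dvd_of_free
  rintro ⟨g, hg⟩ a hga
  have hfin : IsOfFinOrder σ := isOfFinOrder_of_finite σ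
  rw [← hfin.mem_powers_iff_mem_zpowers] at hg
  obtain ⟨k, rfl⟩ := hg
  apply Subtype.ext
  show σ ^ k = 1
  by_cases hk : h ∣ k
  · obtain ⟨c, rfl⟩ := hk
    rw [pow_mul, hpow, one_pow]
  · exact absurd hga (hfree k hk a)

section maschke

variable {F : Type*} [Field F] {V : Type*} [AddCommGroup V] [Module F V]

/-- Averaging: an operator `x` with `x ^ h = 1`, `h` invertible in `F`; every `x`-invariant
subspace has an `x`-invariant complement. -/
theorem exists_inv_compl (x : Module.End F V) (h : ℕ) (hx : x ^ h = 1) (hh : (h : F) ≠ 0)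
    (W : Submodule F V) (hW : ∀ v ∈ W, x v ∈ W) :
    ∃ U : Submodule F V, (∀ v ∈ U, x v ∈ U) ∧ IsCompl W U := by
  classical
  obtain ⟨W', hc⟩ := Submodule.exists_isCompl W
  let π : V →ₗ[F] W := W.projectionOnto W' hc
  have hπ : ∀ w : W, π w = w := Submodule.projectionOnto_apply_left hc
  let xW : Module.End F W := x.restrict hW
  have hxW : xW ^ h = 1 := by
    show (x.restrict hW) ^ h = 1
    rw [Module.End.pow_restrict]
    ext v
    simp [hx]
  have hxWpow : ∀ (i : ℕ) (w : W), ((xW ^ i) w : V) = (x ^ i) (w : V) := by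
    intro i w
    show (((x.restrict hW) ^ i) w : V) = _
    rw [Module.End.pow_restrict]
    rfl
  let f : V → ℕ → W := fun v i => (xW ^ (h + 1 - i)) (π ((x ^ i) v))
  let π' : V →ₗ[F] W :=
    (h : F)⁻¹ • ∑ i ∈ Finset.range h, (xW ^ (h - i)) ∘ₗ π ∘ₗ (x ^ i)
  have hπ'apply : ∀ v, π' v = (h : F)⁻¹ • ∑ i ∈ Finset.range h, (xW ^ (h - i)) (π ((x ^ i) v)) := by
    intro v
    simp [π', LinearMap.sum_apply]
  have h1 : ∀ w : W, π' w = w := by
    intro w
    rw [hπ'apply]
    have : ∀ i ∈ Finset.range h, (xW ^ (h - i)) (π ((x ^ i) (w : V))) = w := by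
      intro i hi
      rw [Finset.mem_range] at hi
      rw [← hxWpow i w, hπ, ← Module.End.mul_apply, ← pow_add, Nat.sub_add_cancel hi.le, hxW]
      rfl
    rw [Finset.sum_congr rfl this, Finset.sum_const, Finset.card_range, ← Nat.cast_smul_eq_nsmul F,
      smul_smul, inv_mul_cancel₀ hh, one_smul]
  have h2 : ∀ v, π' (x v) = xW (π' v) := by
    intro v
    rw [hπ'apply, hπ'apply, map_smul, map_sum]
    congr 1
    have e1 : ∀ i ∈ Finset.range h, (xW ^ (h - i)) (π ((x ^ i) (x v))) = f v (i + 1) := by
      intro i _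
      show _ = (xW ^ (h + 1 - (i + 1))) (π ((x ^ (i + 1)) v))
      rw [Nat.add_sub_add_right, pow_succ, Module.End.mul_apply]
    have e2 : ∀ i ∈ Finset.range h, xW ((xW ^ (h - i)) (π ((x ^ i) v))) = f v i := by
      intro i hi
      rw [Finset.mem_range] at hi
      show _ = (xW ^ (h + 1 - i)) (π ((x ^ i) v))
      rw [← Module.End.mul_apply, ← pow_succ', show h - i + 1 = h + 1 - i by omega]
    rw [Finset.sum_congr rfl e1, Finset.sum_congr rfl e2]
    have s1 := Finset.sum_range_succ (f v) h
    have s2 := Finset.sum_range_succ' (f v) h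
    have e3 : f v h = f v 0 := by
      show (xW ^ (h + 1 - h)) (π ((x ^ h) v)) = (xW ^ (h + 1 - 0)) (π ((x ^ 0) v))
      have a1 : h + 1 - h = 1 := by omega
      have a2 : xW ^ (h + 1 - 0) = xW := by
        rw [Nat.sub_zero, pow_succ, hxW, one_mul]
      rw [a1, a2, pow_one, hx, pow_zero]
    rw [e3] at s1
    exact add_right_cancel (s2.symm.trans s1)
  refine ⟨LinearMap.ker π', ?_, LinearMap.isCompl_of_proj h1⟩
  intro v hv
  rw [LinearMap.mem_ker] at hv ⊢
  rw [h2, hv, map_zero]

end maschke

end Cfsg.Agent.Lib.Helper62.SympCyclic
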