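import Mathlib
import Cfsg.Agent.Lib.Helper53.QuatAut
import Cfsg.Agent.Lib.Helper53.Q8Aut
import Cfsg.Agent.S0016
import Cfsg.Agent.Lib.Helper62.SympCyclicA

/-!
# Odd-order automorphism groups of `2`-groups with at most one involution (helper62)

`q8_of_odd_aut`: a finite `2`-group `Q` with at most one involution admitting a nontrivial group
`R` of automorphisms all of odd order has order `8`; `R` has order `3`, no nonidentity element of
`R` fixes an element of order `4`, and the `r`-invariant abelian subgroups have exponent `2`.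
Uses the classification `S0016` and helper53's `QuatAut`/`Q8Aut`.
-/

set_option autoImplicit false

namespace Cfsg.Agent.Lib.Helper62.AutQ8

open QuaternionGroup

set_option maxRecDepth 100000 in
theorem dl_six : ∀ u v x : QuaternionGroup 2, u * u = a 2 → v * v = a 2 → v ≠ u → v ≠ u⁻¹ →
    x * x = a 2 → x = u ∨ x = u⁻¹ ∨ x = v ∨ x = v⁻¹ ∨ x = u * v ∨ x = (u * v)⁻¹ := by decide

set_option maxRecDepth 100000 in
theorem dl_cycle : ∀ u v : QuaternionGroup 2, u * u = a 2 → v * v = a 2 → v ≠ u → v ≠ u⁻¹ →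
    v * (u * v) = u := by decide

set_option maxRecDepth 100000 in
theorem dl_comm : ∀ x y : QuaternionGroup 2, x * x = a 2 → y * y = a 2 → x * y = y * x →
    y = x ∨ y = x⁻¹ := by decide

theorem dl_card : Fintype.card {y : QuaternionGroup 2 // y * y ≠ 1} = 6 := by decide

theorem dl_sq : ∀ x : QuaternionGroup 2, x * x ≠ 1 → x * x = a 2 := by decide

/-- subgroups of order 2 coincide when there is at most one involution -/
theorem subgroup_card_two_unique {Q : Type*} [Group Q] [Finite Q]
    (huniq : ∀ x y : Q, orderOf x = 2 → orderOf y = 2 → x = y) (H K : Subgroup Q)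
    (hH : Nat.card H = 2) (hK : Nat.card K = 2) : H = K := by
  have key : ∀ L : Subgroup Q, Nat.card L = 2 →
      ∃ x : Q, orderOf x = 2 ∧ L = Subgroup.zpowers x := by
    intro L hL
    have : Fact (Nat.Prime 2) := ⟨Nat.prime_two⟩
    haveI : IsCyclic L := isCyclic_of_prime_card hL
    obtain ⟨g, hg⟩ := IsCyclic.exists_generator (α := L)
    have ho : orderOf g = 2 := by rw [orderOf_eq_card_of_forall_mem_zpowers hg, hL]
    have ho' : orderOf (g : Q) = 2 := by rw [Subgroup.orderOf_coe]; exact ho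
    refine ⟨(g : Q), ho', ?_⟩
    have hle : Subgroup.zpowers (g : Q) ≤ L := by
      rw [Subgroup.zpowers_le]; exact g.2
    have hc : Nat.card L ≤ Nat.card (Subgroup.zpowers (g : Q)) := by
      rw [Nat.card_zpowers, ho', hL]
    exact (Subgroup.eq_of_le_of_card_ge hle hc).symm
  obtain ⟨x, hx, rfl⟩ := key H hH
  obtain ⟨y, hy, rfl⟩ := key K hK
  rw [huniq x y hx hy]

theorem q8_of_odd_aut {Q : Type*} [Group Q] [Finite Q] (hQ : IsPGroup 2 Q)
    (huniq : ∀ x y : Q, orderOf x = 2 → orderOf y = 2 → x = y)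
    (R : Subgroup (MulAut Q)) (hRodd : ∀ r ∈ R, (orderOf r).Coprime 2) (hR : R ≠ ⊥) :
    Nat.card Q = 8 ∧ Nat.card R = 3 ∧
    (∀ r ∈ R, r ≠ 1 → ∀ x : Q, r x = x → x * x = 1) ∧
    (∀ r ∈ R, r ≠ 1 → ∀ B : Subgroup Q, (∀ x ∈ B, ∀ y ∈ B, x * y = y * x) →
      (∀ x ∈ B, r x ∈ B) → ∀ x ∈ B, x * x = 1) := by
  classical
  have : Fact (Nat.Prime 2) := ⟨Nat.prime_two⟩
  obtain ⟨r₀, hr₀R, hr₀⟩ : ∃ r ∈ R, r ≠ 1 := by
    by_contra hcon
    push Not at hcon
    exact hR ((Subgroup.eq_bot_iff_forall R).mpr hcon)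
  have hcyc : ¬ IsCyclic Q := by
    intro hc
    exact hr₀ (Cfsg.Agent.Lib.Helper53.aut_eq_one_of_cyclic hQ r₀ (hRodd r₀ hr₀R))
  rcases Cfsg.Agent.S0016.result 2 hQ (subgroup_card_two_unique huniq) with hc | ⟨-, n, ⟨ψ₀⟩⟩
  · exact absurd hc hcyc
  -- the three ranges of `n`
  have hn1 : n = 1 := by
    rcases Nat.lt_or_ge n 1 with h0 | h1
    · exfalso
      have hn0 : n = 0 := by omega
      subst hn0
      apply hcyc
      have hcq : IsCyclic (QuaternionGroup (2 ^ 0)) := by
        rw [pow_zero]; exact quaternionGroup_one_isCyclic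
      exact isCyclic_of_surjective ψ₀.symm ψ₀.symm.surjective
    rcases Nat.lt_or_ge 1 n with h2 | h2
    · exfalso
      have hm : 3 ≤ 2 ^ n := by
        calc 3 ≤ 2 ^ 2 := by norm_num
          _ ≤ 2 ^ n := Nat.pow_le_pow_right (by norm_num) h2
      haveI : NeZero (2 ^ n) := ⟨by positivity⟩
      have hβ : MulAut.congr ψ₀ r₀ = 1 := by
        apply Cfsg.Agent.Lib.Helper53.aut_eq_one_of_quaternion hm (n + 1) (by rw [pow_succ]; ring)
        rw [MulEquiv.orderOf_eq]
        exact hRodd r₀ hr₀R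
      exact hr₀ ((MulEquiv.map_eq_one_iff (MulAut.congr ψ₀)).mp hβ)
    · omega
  subst hn1
  have ψ : Q ≃* QuaternionGroup 2 := by
    have h := ψ₀
    rw [pow_one] at h
    exact h
  clear ψ₀
  -- transported automorphisms
  have hβapp : ∀ (r : MulAut Q) (y : QuaternionGroup 2), MulAut.congr ψ r y = ψ (r (ψ.symm y)) :=
    fun r y => rfl
  -- (b) fixed points
  have hb : ∀ r ∈ R, r ≠ 1 → ∀ x : Q, r x = x → x * x = 1 := by
    intro r hrR hr1 x hx
    by_contra hxx
    set β : MulAut (QuaternionGroup 2) := MulAut.congr ψ r with hβ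
    have hβodd : (orderOf β).Coprime 2 := by
      rw [hβ, MulEquiv.orderOf_eq]; exact hRodd r hrR
    have hβne : β ≠ 1 := fun h => hr1 ((MulEquiv.map_eq_one_iff (MulAut.congr ψ)).mp h)
    obtain ⟨γ, u, v, hγ, hu, hv, hvu, hvu', hγu, hγv⟩ :=
      Cfsg.Agent.Lib.Helper53.q8_aut_odd β hβodd hβne
    have hβx : β (ψ x) = ψ x := by
      rw [hβ, hβapp, MulEquiv.symm_apply_apply, hx]
    have hγx : γ (ψ x) = ψ x := by
      rcases hγ with rfl | rfl
      · exact hβx
      · have h1 : β⁻¹ (β (ψ x)) = ψ x := by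
          rw [← MulAut.mul_apply, inv_mul_cancel]; rfl
        rw [hβx] at h1
        exact h1
    have hsq : ψ x * ψ x = a 2 := by
      apply dl_sq
      intro h
      apply hxx
      have : ψ (x * x) = 1 := by rw [map_mul]; exact h
      exact (MulEquiv.map_eq_one_iff ψ).mp this
    have ha2 : (a 2 : QuaternionGroup 2) ≠ 1 := Cfsg.Agent.Lib.Helper53.q8_a_two_ne_one
    have hu1 : u ≠ 1 := by
      rintro rfl
      rw [mul_one] at hu
      exact ha2 hu.symm
    have hv1 : v ≠ 1 := by
      rintro rfl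
      rw [mul_one] at hv
      exact ha2 hv.symm
    have hγuv : γ (u * v) = u := by
      rw [map_mul, hγu, hγv]
      exact dl_cycle u v hu hv hvu hvu'
    rcases dl_six u v (ψ x) hu hv hvu hvu' hsq with h | h | h | h | h | h
    · rw [h, hγu] at hγx
      exact hvu hγx
    · rw [h, map_inv, hγu, inv_inj] at hγx
      exact hvu hγx
    · rw [h, hγv] at hγx
      exact hu1 (mul_eq_right.mp hγx)
    · rw [h, map_inv, hγv, inv_inj] at hγx
      exact hu1 (mul_eq_right.mp hγx)
    · rw [h, hγuv] at hγx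
      exact hv1 (left_eq_mul.mp hγx)
    · rw [h, map_inv, hγuv, inv_inj] at hγx
      exact hv1 (left_eq_mul.mp hγx)
  refine ⟨?_, ?_, hb, ?_⟩
  · -- card Q
    rw [Nat.card_congr ψ.toEquiv, Nat.card_eq_fintype_card, QuaternionGroup.card]
  · -- card R
    letI act : MulAction R {x : Q // x * x ≠ 1} :=
      { smul := fun r x => ⟨(r : MulAut Q) x.1, by
          intro h
          apply x.2
          have h1 : (r : MulAut Q) (x.1 * x.1) = 1 := by rw [map_mul]; exact h
          exact (MulEquiv.map_eq_one_iff _).mp h1⟩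
        one_smul := fun x => Subtype.ext rfl
        mul_smul := fun r s x => Subtype.ext rfl }
    have hsm : ∀ (r : R) (x : {x : Q // x * x ≠ 1}), ((r • x : {x : Q // x * x ≠ 1}) : Q) =
        (r : MulAut Q) x.1 := fun r x => rfl
    have hfree : ∀ (r : R) (x : {x : Q // x * x ≠ 1}), r • x = x → r = 1 := by
      intro r x hrx
      by_contra hr1
      have h1 : (r : MulAut Q) x.1 = x.1 := by
        rw [← hsm]; exact congrArg Subtype.val hrx
      have hr1' : (r : MulAut Q) ≠ 1 := fun h => hr1 (Subtype.ext h)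
      exact x.2 (hb r r.2 hr1' x.1 h1)
    have hdvd : Nat.card R ∣ Nat.card {x : Q // x * x ≠ 1} :=
      Cfsg.Agent.Lib.Helper62.SympCyclic.card_dvd_of_free hfree
    have hT : Nat.card {x : Q // x * x ≠ 1} = 6 := by
      have e : {x : Q // x * x ≠ 1} ≃ {y : QuaternionGroup 2 // y * y ≠ 1} :=
        Equiv.subtypeEquiv ψ.toEquiv (by
          intro x
          show x * x ≠ 1 ↔ ψ x * ψ x ≠ 1
          rw [← map_mul, Ne, Ne, MulEquiv.map_eq_one_iff])
      rw [Nat.card_congr e, Nat.card_eq_fintype_card]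
      exact dl_card
    rw [hT] at hdvd
    have hodd : (Nat.card R).Coprime 2 := by
      rw [Nat.coprime_comm, Nat.Prime.coprime_iff_not_dvd Nat.prime_two]
      intro h2
      obtain ⟨r, hr⟩ := exists_prime_orderOf_dvd_card' 2 h2
      have h3 := hRodd (r : MulAut Q) r.2
      rw [Subgroup.orderOf_coe, hr] at h3
      norm_num at h3
    have h3 : Nat.card R ∣ 3 := by
      have : (6 : ℕ) = 3 * 2 := by norm_num
      rw [this] at hdvd
      exact Nat.Coprime.dvd_of_dvd_mul_right hodd hdvd
    rcases (Nat.dvd_prime Nat.prime_three).mp h3 with h | h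
    · exact absurd (Subgroup.card_eq_one.mp h) hR
    · exact h
  · -- abelian invariant subgroups
    intro r hrR hr1 B hBc hBr x hxB
    by_contra hxx
    have hy : r x ∈ B := hBr x hxB
    have hcomm : x * r x = r x * x := hBc x hxB _ hy
    have hsq : ψ x * ψ x = a 2 := by
      apply dl_sq
      intro h
      apply hxx
      have : ψ (x * x) = 1 := by rw [map_mul]; exact h
      exact (MulEquiv.map_eq_one_iff ψ).mp this
    have hsq' : ψ (r x) * ψ (r x) = a 2 := by
      apply dl_sq
      intro h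
      apply hxx
      have h1 : ψ (r (x * x)) = 1 := by rw [map_mul, map_mul]; exact h
      exact (MulEquiv.map_eq_one_iff r).mp ((MulEquiv.map_eq_one_iff ψ).mp h1)
    have hc' : ψ x * ψ (r x) = ψ (r x) * ψ x := by
      rw [← map_mul, ← map_mul, hcomm]
    rcases dl_comm (ψ x) (ψ (r x)) hsq hsq' hc' with h | h
    · exact hxx (hb r hrR hr1 x (ψ.injective h))
    · have h2 : r x = x⁻¹ := by
        apply ψ.injective
        rw [h, map_inv]
      have hrr : (r * r) x = x := by
        rw [MulAut.mul_apply, h2, map_inv, h2, inv_inv]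
      have hrr1 : r * r ≠ 1 := by
        intro h3
        have h4 : orderOf r ∣ 2 := by
          rw [orderOf_dvd_iff_pow_eq_one, pow_two]; exact h3
        have h5 : orderOf r = 1 :=
          Nat.Coprime.eq_one_of_dvd (hRodd r hrR) h4
        exact hr1 (orderOf_eq_one_iff.mp h5)
      exact hxx (hb (r * r) (R.mul_mem hrR hrR) hrr1 x hrr)

end Cfsg.Agent.Lib.Helper62.AutQ8
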