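import Mathlib
import Cfsg.Agent.S1324
import Cfsg.Agent.Lib.Helper62.AutQ8A

/-!
# Coprime generation for automorphism groups, and restriction to invariant subgroups (helper62)

* `gen_of_invariant`: a noncyclic elementary abelian `p`-group `E0` of automorphisms of a finite
  group `W`, `X ≤ W` an `E0`-invariant `p'`-subgroup: `X` is generated by the fixed points in `X`
  of the nonidentity elements of `E0`.  Obtained from `S1324` (subgroup form) inside `W ⋊ E0`.
* `resOn`: restriction of a group of automorphisms to an invariant subgroup; `q8_sub`: subgroup form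
  of `q8_of_odd_aut`.
-/

set_option autoImplicit false

namespace Cfsg.Agent.Lib.Helper62.AutQ8

theorem gen_of_invariant {W : Type*} [Group W] [Finite W] (p : ℕ) [Fact p.Prime]
    (E0 : Subgroup (MulAut W)) (hc : ∀ x ∈ E0, ∀ y ∈ E0, x * y = y * x)
    (hp : ∀ x ∈ E0, x ^ p = 1) (hcard : p ^ 2 ≤ Nat.card E0)
    (X : Subgroup W) (hX : ¬ p ∣ Nat.card X) (hinv : ∀ e ∈ E0, ∀ x ∈ X, e x ∈ X)
    (S : Subgroup W) (hS : ∀ d ∈ E0, d ≠ 1 → ∀ x ∈ X, d x = x → x ∈ S) : X ≤ S := by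
  classical
  have hpr : p.Prime := Fact.out
  let φ : ↥E0 →* MulAut W := E0.subtype
  haveI : Finite (W ⋊[φ] ↥E0) := Finite.of_equiv _ SemidirectProduct.equivProd.symm
  set il : W →* W ⋊[φ] ↥E0 := SemidirectProduct.inl with hil
  set ir : ↥E0 →* W ⋊[φ] ↥E0 := SemidirectProduct.inr with hir
  have hilinj : Function.Injective il := SemidirectProduct.inl_injective
  have hirinj : Function.Injective ir := SemidirectProduct.inr_injective
  have hconj : ∀ (e : E0) (x : W), ir e * il x * (ir e)⁻¹ = il ((e : MulAut W) x) := by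
    intro e x
    rw [← map_inv]
    exact (SemidirectProduct.inl_aut (φ := φ) e x).symm
  set A : Subgroup (W ⋊[φ] ↥E0) := ir.range with hA
  set X' : Subgroup (W ⋊[φ] ↥E0) := X.map il with hX'
  have hAel : Cfsg.IsElementaryAbelian p A := by
    refine ⟨⟨⟨?_⟩⟩, ?_⟩
    · rintro ⟨_, e, rfl⟩ ⟨_, f, rfl⟩
      apply Subtype.ext
      show ir e * ir f = ir f * ir e
      rw [← map_mul, ← map_mul]
      congr 1
      exact Subtype.ext (hc e e.2 f f.2)
    · rintro _ ⟨e, rfl⟩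
      rw [← map_pow]
      have : e ^ p = 1 := Subtype.ext (by
        rw [Subgroup.coe_pow, Subgroup.coe_one]; exact hp e e.2)
      rw [this, map_one]
  have hA2 : p ^ 2 ≤ Nat.card A := by
    rw [hA, Nat.card_congr (MonoidHom.ofInjective hirinj).symm.toEquiv]
    exact hcard
  have hX'c : ¬ p ∣ Nat.card X' := by
    rw [hX', Subgroup.card_map_of_injective hilinj]
    exact hX
  have hAX : A ≤ Subgroup.normalizer (X' : Set (W ⋊[φ] ↥E0)) := by
    rintro _ ⟨e, rfl⟩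
    rw [Subgroup.mem_normalizer_iff]
    intro h
    constructor
    · rintro ⟨x, hx, rfl⟩
      rw [hconj]
      exact Subgroup.mem_map_of_mem il (hinv e e.2 x hx)
    · rintro ⟨y, hy, hyh⟩
      have h1 : h = ir e⁻¹ * il y * (ir e⁻¹)⁻¹ := by
        rw [hyh, map_inv]; group
      rw [h1, hconj]
      exact Subgroup.mem_map_of_mem il (hinv _ (e⁻¹).2 y hy)
  have key := Cfsg.Agent.S1324.result p A X' hAel hA2 hX'c hAX
  have hle : X' ≤ S.map il := by
    rw [key]
    apply iSup_le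
    rintro ⟨B, hBA, hBi⟩
    have hBne : B ≠ ⊥ := by
      rintro rfl
      rw [Subgroup.relIndex_bot_left] at hBi
      have h1 : p ^ 2 ≤ p := le_trans hA2 hBi
      have h2 : p < p ^ 2 := by
        have := hpr.one_lt
        nlinarith
      omega
    obtain ⟨⟨g, hgB⟩, hg1⟩ := (Subgroup.ne_bot_iff_exists_ne_one).mp hBne
    obtain ⟨d, rfl⟩ := hBA hgB
    have hd1 : (d : MulAut W) ≠ 1 := by
      intro h
      apply hg1
      apply Subtype.ext
      show ir d = 1
      have : d = 1 := Subtype.ext h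
      rw [this, map_one]
    rintro y ⟨⟨x, hx, rfl⟩, hyc⟩
    have h2 := (Subgroup.mem_centralizer_iff.mp hyc) (ir d) hgB
    have h3 : il ((d : MulAut W) x) = il x := by
      rw [← hconj, h2]; group
    have h4 : (d : MulAut W) x = x := hilinj h3
    exact Subgroup.mem_map_of_mem il (hS d d.2 hd1 x hx h4)
  intro x hx
  obtain ⟨s, hs, hsx⟩ := hle (Subgroup.mem_map_of_mem il hx)
  rw [← hilinj hsx]
  exact hs

/-- restriction of a group of automorphisms to an invariant subgroup -/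
def resOn {W : Type*} [Group W] (Q : Subgroup W) (S : Subgroup (MulAut W))
    (h : ∀ s ∈ S, ∀ x ∈ Q, s x ∈ Q) : ↥S →* MulAut ↥Q where
  toFun s :=
    { toFun := fun x => ⟨(s : MulAut W) x.1, h s.1 s.2 x.1 x.2⟩
      invFun := fun x => ⟨(s : MulAut W)⁻¹ x.1, h _ (S.inv_mem s.2) x.1 x.2⟩
      left_inv := fun x => Subtype.ext (MulAut.inv_apply_self _ _ _)
      right_inv := fun x => Subtype.ext (MulAut.apply_inv_self _ _ _)
      map_mul' := fun x y => Subtype.ext (map_mul _ _ _) }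
  map_one' := by ext x; rfl
  map_mul' := fun s t => by ext x; rfl

theorem resOn_apply {W : Type*} [Group W] (Q : Subgroup W) (S : Subgroup (MulAut W))
    (h : ∀ s ∈ S, ∀ x ∈ Q, s x ∈ Q) (s : S) (x : Q) :
    ((resOn Q S h s x : Q) : W) = (s : MulAut W) (x : W) := rfl

theorem resOn_eq_one_iff {W : Type*} [Group W] (Q : Subgroup W) (S : Subgroup (MulAut W))
    (h : ∀ s ∈ S, ∀ x ∈ Q, s x ∈ Q) (s : S) :
    resOn Q S h s = 1 ↔ ∀ x ∈ Q, (s : MulAut W) x = x := by
  constructor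
  · intro h1 x hx
    have := congrArg (fun f : MulAut Q => ((f ⟨x, hx⟩ : Q) : W)) h1
    exact this
  · intro h1
    ext x
    exact h1 x.1 x.2

theorem q8_sub {W : Type*} [Group W] [Finite W] (hW : IsPGroup 2 W) (Q : Subgroup W)
    (huniq : ∀ x ∈ Q, ∀ y ∈ Q, orderOf x = 2 → orderOf y = 2 → x = y)
    (S : Subgroup (MulAut W)) (hS : ∀ s ∈ S, ∀ x ∈ Q, s x ∈ Q)
    (hodd : ∀ s ∈ S, (orderOf s).Coprime 2) (hact : ∃ s ∈ S, ∃ x ∈ Q, s x ≠ x) :
    Nat.card Q = 8 ∧ Nat.card (resOn Q S hS).range = 3 ∧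
    (∀ s ∈ S, (∃ x ∈ Q, s x ≠ x) → ∀ x ∈ Q, s x = x → x * x = 1) ∧
    (∀ s ∈ S, (∃ x ∈ Q, s x ≠ x) → ∀ B : Subgroup W, (∀ x ∈ B, ∀ y ∈ B, x * y = y * x) →
      (∀ x ∈ B, s x ∈ B) → ∀ x ∈ B, x ∈ Q → x * x = 1) := by
  have hQ2 : IsPGroup 2 Q := hW.to_subgroup Q
  have hu : ∀ x y : Q, orderOf x = 2 → orderOf y = 2 → x = y := by
    intro x y hx hy
    apply Subtype.ext
    apply huniq x.1 x.2 y.1 y.2
    · rw [Subgroup.orderOf_coe]; exact hx
    · rw [Subgroup.orderOf_coe]; exact hy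
  have hRodd : ∀ r ∈ (resOn Q S hS).range, (orderOf r).Coprime 2 := by
    rintro _ ⟨s, rfl⟩
    have h1 : orderOf (resOn Q S hS s) ∣ orderOf s := orderOf_map_dvd _ s
    have h2 : (orderOf s).Coprime 2 := by
      rw [← Subgroup.orderOf_coe]; exact hodd s s.2
    exact Nat.Coprime.coprime_dvd_left h1 h2
  have hne : ∀ s : S, (∃ x ∈ Q, (s : MulAut W) x ≠ x) → resOn Q S hS s ≠ 1 := by
    rintro s ⟨x, hx, hsx⟩ h1
    exact hsx ((resOn_eq_one_iff Q S hS s).mp h1 x hx)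
  have hR : (resOn Q S hS).range ≠ ⊥ := by
    obtain ⟨s, hs, hx⟩ := hact
    intro h
    have h1 : resOn Q S hS ⟨s, hs⟩ ∈ (resOn Q S hS).range := ⟨_, rfl⟩
    rw [h, Subgroup.mem_bot] at h1
    exact hne ⟨s, hs⟩ hx h1
  obtain ⟨h8, h3, hb, hd⟩ := q8_of_odd_aut hQ2 hu _ hRodd hR
  refine ⟨h8, h3, ?_, ?_⟩
  · intro s hs hx x hxQ hsx
    have := hb (resOn Q S hS ⟨s, hs⟩) ⟨_, rfl⟩ (hne ⟨s, hs⟩ hx) ⟨x, hxQ⟩ (Subtype.ext hsx)
    exact congrArg Subtype.val this
  · intro s hs hx B hBc hBs x hxB hxQ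
    have := hd (resOn Q S hS ⟨s, hs⟩) ⟨_, rfl⟩ (hne ⟨s, hs⟩ hx) (B.subgroupOf Q)
      (by
        intro u hu v hv
        rw [Subgroup.mem_subgroupOf] at hu hv
        exact Subtype.ext (hBc _ hu _ hv))
      (by
        intro u hu
        rw [Subgroup.mem_subgroupOf] at hu ⊢
        exact hBs _ hu)
      ⟨x, hxQ⟩ (by rw [Subgroup.mem_subgroupOf]; exact hxB)
    exact congrArg Subtype.val this

end Cfsg.Agent.Lib.Helper62.AutQ8
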