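import Mathlib
import Cfsg.Agent.Lib.Helper62.SympCyclicA

/-!
# Cyclic fixed-point-free isometry groups of symplectic spaces over `ZMod p` (part B)

The data structure, restriction to nondegenerate invariant subspaces, semiregular counting,
the hyperbolic construction, and the splitting step.
-/

set_option autoImplicit false

universe u

namespace Cfsg.Agent.Lib.Helper62.SympCyclic

open Module

/-- A nondegenerate alternating form over `ZMod p` with an isometry `x`, `x ^ h = 1`, all of whose
powers `x ^ k` with `h ∤ k` have no nonzero fixed vectors. -/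
structure Data (p : ℕ) [Fact p.Prime] (h : ℕ) (V : Type u) [AddCommGroup V]
    [Module (ZMod p) V] where
  B : LinearMap.BilinForm (ZMod p) V
  x : Module.End (ZMod p) V
  alt : B.IsAlt
  nd : B.Nondegenerate
  inv : ∀ u v, B (x u) (x v) = B u v
  pow_h : x ^ h = 1
  fpf : ∀ k : ℕ, ¬ h ∣ k → ∀ v, (x ^ k) v = v → v = 0

/-- the conclusion -/
def Goal (p : ℕ) (h : ℕ) (V : Type u) [AddCommGroup V] [Module (ZMod p) V] : Prop :=
  ∃ m : ℕ, finrank (ZMod p) V = 2 * m ∧ ((p : ZMod h) ^ m = 1 ∨ (p : ZMod h) ^ m = -1)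

variable {p : ℕ} [hp : Fact p.Prime] {h : ℕ} {V : Type u} [AddCommGroup V] [Module (ZMod p) V]

namespace Data

variable (D : Data p h V)

/-- invariance of a subspace -/
abbrev Inv (W : Submodule (ZMod p) V) : Prop := ∀ v ∈ W, D.x v ∈ W

theorem inv_pow {W : Submodule (ZMod p) V} (hW : D.Inv W) (k : ℕ) : ∀ v ∈ W, (D.x ^ k) v ∈ W := by
  induction k with
  | zero => intro v hv; simpa using hv
  | succ k ih =>
    intro v hv
    rw [pow_succ, Module.End.mul_apply]
    exact ih _ (hW v hv)

theorem x_mul_pow (hpos : 0 < h) : D.x * D.x ^ (h - 1) = 1 := by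
  rw [← pow_succ', Nat.sub_add_cancel hpos, D.pow_h]

theorem x_apply_pow (hpos : 0 < h) (v : V) : D.x ((D.x ^ (h - 1)) v) = v := by
  rw [← Module.End.mul_apply, D.x_mul_pow hpos, Module.End.one_apply]

theorem pow_apply_x (hpos : 0 < h) (v : V) : (D.x ^ (h - 1)) (D.x v) = v := by
  rw [← Module.End.mul_apply, ← pow_succ, Nat.sub_add_cancel hpos, D.pow_h, Module.End.one_apply]

theorem inv_orthogonal (hpos : 0 < h) {W : Submodule (ZMod p) V} (hW : D.Inv W) :
    D.Inv (D.B.orthogonal W) := by
  intro v hv n hn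
  show D.B n (D.x v) = 0
  have h1 : D.B n (D.x v) = D.B ((D.x ^ (h - 1)) n) v := by
    conv_lhs => rw [← D.x_apply_pow hpos n]
    exact D.inv _ _
  rw [h1]
  exact hv _ (D.inv_pow hW _ n hn)

theorem inv_sup {W U : Submodule (ZMod p) V} (hW : D.Inv W) (hU : D.Inv U) : D.Inv (W ⊔ U) := by
  intro v hv
  obtain ⟨w, hw, u, hu, rfl⟩ := Submodule.mem_sup.mp hv
  rw [map_add]
  exact Submodule.add_mem _ (Submodule.mem_sup_left (hW w hw)) (Submodule.mem_sup_right (hU u hu))

theorem inv_inf {W U : Submodule (ZMod p) V} (hW : D.Inv W) (hU : D.Inv U) : D.Inv (W ⊓ U) := by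
  intro v hv
  exact ⟨hW v hv.1, hU v hv.2⟩

theorem eq_zero_of_x_apply_eq_zero (hpos : 0 < h) {v : V} (hv : D.x v = 0) : v = 0 := by
  rw [← D.pow_apply_x hpos v, hv, map_zero]

/-- restriction of the data to an invariant subspace on which the form is nondegenerate -/
def restrict (W : Submodule (ZMod p) V) (hW : D.Inv W)
    (hd : Disjoint W (D.B.orthogonal W)) : Data p h W where
  B := D.B.restrict W
  x := D.x.restrict hW
  alt := fun v => D.alt v
  nd := D.B.nondegenerate_restrict_of_disjoint_orthogonal D.alt.isRefl hd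
  inv := fun u v => D.inv u v
  pow_h := by
    rw [Module.End.pow_restrict]
    ext v
    simp [D.pow_h]
  fpf := fun k hk v hv => by
    rw [Module.End.pow_restrict] at hv
    have h1 : (D.x ^ k) (v : V) = v := congrArg Subtype.val hv
    exact Subtype.ext (D.fpf k hk v h1)

/-- Semiregular counting: `p ^ dim W ≡ 1 mod h` for every invariant subspace. -/
theorem pow_finrank_eq_one [Finite V] (hpos : 0 < h) {W : Submodule (ZMod p) V} (hW : D.Inv W) :
    (p : ZMod h) ^ finrank (ZMod p) W = 1 := by
  classical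
  let S := {v : V // v ∈ W ∧ v ≠ 0}
  let σ : Equiv.Perm S :=
    { toFun := fun v => ⟨D.x v.1, hW _ v.2.1, fun h0 => v.2.2 (D.eq_zero_of_x_apply_eq_zero hpos h0)⟩
      invFun := fun v => ⟨(D.x ^ (h - 1)) v.1, D.inv_pow hW _ _ v.2.1, fun h0 => v.2.2 (by
        rw [← D.x_apply_pow hpos v.1, h0, map_zero])⟩
      left_inv := fun v => Subtype.ext (D.pow_apply_x hpos v.1)
      right_inv := fun v => Subtype.ext (D.x_apply_pow hpos v.1) }
  have hσ : ∀ (k : ℕ) (a : S), ((σ ^ k) a : V) = (D.x ^ k) (a : V) := by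
    intro k
    induction k with
    | zero => intro a; simp
    | succ k ih =>
      intro a
      rw [pow_succ', Equiv.Perm.mul_apply, pow_succ', Module.End.mul_apply, ← ih]
      rfl
  have hdvd : h ∣ Nat.card S := by
    apply dvd_card_of_free_perm σ h hpos
    · ext a
      rw [hσ, D.pow_h]
      rfl
    · intro k hk a ha
      have h1 : (D.x ^ k) (a : V) = a := by rw [← hσ, ha]
      exact a.2.2 (D.fpf k hk _ h1)
  have hcardS : Nat.card S + 1 = p ^ finrank (ZMod p) W := by
    have e : S ⊕ Unit ≃ W :=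
      { toFun := fun s => match s with
          | Sum.inl v => ⟨v.1, v.2.1⟩
          | Sum.inr _ => 0
        invFun := fun w => if hw : (w : V) = 0 then Sum.inr () else Sum.inl ⟨w.1, w.2, hw⟩
        left_inv := by
          rintro (v | u)
          · have : (v : V) ≠ 0 := v.2.2
            simp [this]
          · simp
        right_inv := by
          intro w
          by_cases hw : (w : V) = 0
          · simp only [hw, dite_true]
            exact Subtype.ext hw.symm
          · simp [hw] }
    have h1 := Nat.card_congr e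
    have hU1 : Nat.card Unit = 1 := by simp
    rw [Nat.card_sum, hU1] at h1
    rw [h1, Module.natCard_eq_pow_finrank (K := ZMod p) (V := W), Nat.card_zmod]
  have h2 : ((Nat.card S : ℕ) : ZMod h) = 0 := (ZMod.natCast_eq_zero_iff _ _).mpr hdvd
  have h3 : ((p ^ finrank (ZMod p) W : ℕ) : ZMod h) = 1 := by
    rw [← hcardS, Nat.cast_add, h2, zero_add, Nat.cast_one]
  rwa [Nat.cast_pow] at h3

/-- hyperbolic construction: `W` totally isotropic, `U` a complement of `W^⊥`: the form is
nondegenerate on `W ⊔ U`, of dimension `2 dim W`. -/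
theorem hyperbolic [Finite V] {W U : Submodule (ZMod p) V} (hWW : W ≤ D.B.orthogonal W)
    (hU : IsCompl (D.B.orthogonal W) U) :
    Disjoint (W ⊔ U) (D.B.orthogonal (W ⊔ U)) ∧
      finrank (ZMod p) ↥(W ⊔ U) = 2 * finrank (ZMod p) W := by
  constructor
  · rw [Submodule.disjoint_def]
    intro v hvN hvP
    obtain ⟨w, hw, u, hu, rfl⟩ := Submodule.mem_sup.mp hvN
    have hu0 : u = 0 := by
      have hu' : u ∈ D.B.orthogonal W := by
        intro w' hw'
        show D.B w' u = 0
        have h1 : D.B w' (w + u) = 0 := hvP w' (Submodule.mem_sup_left hw')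
        have h2 : D.B w' w = 0 := hWW hw w' hw'
        rw [map_add, h2, zero_add] at h1
        exact h1
      exact (Submodule.disjoint_def.mp hU.disjoint) u hu' hu
    subst hu0
    rw [add_zero] at hvP ⊢
    apply D.nd.2 w
    intro t
    have ht : t ∈ D.B.orthogonal W ⊔ U := by rw [hU.sup_eq_top]; trivial
    obtain ⟨a, ha, b, hb, rfl⟩ := Submodule.mem_sup.mp ht
    have h1 : D.B a w = 0 := (D.alt.eq_iff).mp (ha w hw)
    have h2 : D.B b w = 0 := hvP b (Submodule.mem_sup_right hb)
    rw [map_add, LinearMap.add_apply, h1, h2, add_zero]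
  · have hWU : W ⊓ U = ⊥ := by
      rw [eq_bot_iff]
      intro v hv
      exact (Submodule.disjoint_def.mp hU.disjoint) v (hWW hv.1) hv.2
    have h1 := Submodule.finrank_sup_add_finrank_inf_eq W U
    rw [hWU, finrank_bot, add_zero] at h1
    have h2 := Submodule.finrank_add_eq_of_isCompl hU
    have h3 := LinearMap.BilinForm.finrank_orthogonal D.nd W
    have h4 : finrank (ZMod p) W ≤ finrank (ZMod p) V := Submodule.finrank_le W
    omega

/-- the splitting step -/
theorem split [Finite V] {N : Submodule (ZMod p) V}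
    (hd : Disjoint N (D.B.orthogonal N)) (g1 : Goal p h N) (g2 : Goal p h (D.B.orthogonal N)) :
    Goal p h V := by
  obtain ⟨m1, hm1, h1⟩ := g1
  obtain ⟨m2, hm2, h2⟩ := g2
  have hc : IsCompl N (D.B.orthogonal N) :=
    (LinearMap.BilinForm.isCompl_orthogonal_iff_disjoint D.alt.isRefl).mpr hd
  have h3 := Submodule.finrank_add_eq_of_isCompl hc
  refine ⟨m1 + m2, by omega, ?_⟩
  rw [pow_add]
  rcases h1 with h1 | h1 <;> rcases h2 with h2 | h2 <;> rw [h1, h2] <;> simp

theorem disjoint_orthogonal_orthogonal [Finite V] {N : Submodule (ZMod p) V}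
    (hd : Disjoint N (D.B.orthogonal N)) :
    Disjoint (D.B.orthogonal N) (D.B.orthogonal (D.B.orthogonal N)) := by
  rw [LinearMap.BilinForm.orthogonal_orthogonal D.nd D.alt.isRefl]
  exact hd.symm

/-- existence of a minimal nonzero invariant subspace -/
theorem exists_minimal [Finite V] [Nontrivial V] :
    ∃ W : Submodule (ZMod p) V, D.Inv W ∧ W ≠ ⊥ ∧
      ∀ W' : Submodule (ZMod p) V, D.Inv W' → W' ≤ W → W' = ⊥ ∨ W' = W := by
  classical
  let P : ℕ → Prop := fun d => ∃ W : Submodule (ZMod p) V, D.Inv W ∧ W ≠ ⊥ ∧ finrank (ZMod p) W = d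
  have hex : ∃ d, P d := ⟨_, ⊤, fun v _ => trivial, top_ne_bot, rfl⟩
  obtain ⟨W, hW, hW0, hWd⟩ := Nat.find_spec hex
  refine ⟨W, hW, hW0, fun W' hW' hle => ?_⟩
  by_cases h0 : W' = ⊥
  · left; exact h0
  · right
    have h1 : Nat.find hex ≤ finrank (ZMod p) W' := Nat.find_min' hex ⟨W', hW', h0, rfl⟩
    rw [← hWd] at h1
    exact Submodule.eq_of_le_of_finrank_le hle h1

end Data

end Cfsg.Agent.Lib.Helper62.SympCyclic
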