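import Mathlib
import Cfsg.Agent.Lib.Helper62.SympCyclicB
import Cfsg.Agent.Lib.Helper58.CyclicAlg

/-!
# Cyclic fixed-point-free isometry groups of symplectic spaces over `ZMod p` (part C)

The irreducible case: the algebra generated by the isometry is a finite field, the adjoint with
respect to the form induces a field automorphism inverting the isometry.
-/

set_option autoImplicit false

universe u

namespace Cfsg.Agent.Lib.Helper62.SympCyclic

open Module Polynomial

variable {p : ℕ} [hp : Fact p.Prime]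

/-- field-theoretic core: in a finite field `R = 𝔽_p[ξ]`, if `ξ⁻¹` is a root of the minimal
polynomial of `ξ`, then `ξ⁻¹ = ξ ^ (p ^ i)` with `i = 0` or `2 i = [R : 𝔽_p]`. -/
theorem field_core (R : Type*) [CommRing R] [IsDomain R] [Algebra (ZMod p) R] [Finite R] (ξ η : R)
    (hξη : ξ * η = 1) (hroot : aeval η (minpoly (ZMod p) ξ) = 0)
    (hgen : Algebra.adjoin (ZMod p) {ξ} = ⊤) :
    ∃ i : ℕ, ξ ^ (p ^ i) * ξ = 1 ∧ (i = 0 ∨ 2 * i = finrank (ZMod p) R) := by
  classical
  haveI : Fintype R := Fintype.ofFinite R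
  letI iF : Field R := Fintype.fieldOfDomain R
  have hint : IsIntegral (ZMod p) ξ := Algebra.IsIntegral.isIntegral ξ
  have hirr : Irreducible (minpoly (ZMod p) ξ) := minpoly.irreducible hint
  have hmonic := minpoly.monic hint
  have hconj : IsConjRoot (ZMod p) ξ η :=
    minpoly.eq_of_irreducible_of_monic hirr hroot hmonic
  obtain ⟨σ, hσ⟩ := hconj.exists_algEquiv
  obtain ⟨⟨i, hi⟩, hiσ⟩ :=
    (FiniteField.bijective_frobeniusAlgEquivOfAlgebraic_pow (ZMod p) R).2 σ
  have hfrob : ∀ (n : ℕ) (z : R),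
      (FiniteField.frobeniusAlgEquivOfAlgebraic (ZMod p) R ^ n) z = z ^ (p ^ n) := by
    intro n z
    rw [AlgEquiv.coe_pow, FiniteField.coe_frobeniusAlgEquivOfAlgebraic_iterate, ZMod.card]
  have h1 : η ^ (p ^ i) = ξ := by
    rw [← hfrob i η]
    have : FiniteField.frobeniusAlgEquivOfAlgebraic (ZMod p) R ^ i = σ := hiσ
    rw [this, hσ]
  have h2 : ξ ^ (p ^ i) * ξ = 1 := by
    calc ξ ^ (p ^ i) * ξ = ξ ^ (p ^ i) * η ^ (p ^ i) := by rw [h1]
      _ = (ξ * η) ^ (p ^ i) := (mul_pow _ _ _).symm
      _ = 1 := by rw [hξη, one_pow]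
  refine ⟨i, h2, ?_⟩
  have h3 : ξ ^ (p ^ i) = η := by
    calc ξ ^ (p ^ i) = ξ ^ (p ^ i) * (ξ * η) := by rw [hξη, mul_one]
      _ = (ξ ^ (p ^ i) * ξ) * η := by rw [mul_assoc]
      _ = η := by rw [h2, one_mul]
  have h4 : (FiniteField.frobeniusAlgEquivOfAlgebraic (ZMod p) R ^ (2 * i)) ξ = ξ := by
    rw [hfrob, two_mul, pow_add, pow_mul, h3, h1]
  have h5 : FiniteField.frobeniusAlgEquivOfAlgebraic (ZMod p) R ^ (2 * i) = 1 := by
    apply AlgEquiv.coe_toAlgHom_injective
    apply AlgHom.ext_of_adjoin_eq_top hgen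
    intro z hz
    rw [Set.mem_singleton_iff] at hz
    subst hz
    exact h4
  have h6 := orderOf_dvd_of_pow_eq_one h5
  rw [FiniteField.orderOf_frobeniusAlgEquivOfAlgebraic] at h6
  obtain ⟨c, hc⟩ := h6
  have hc2 : c < 2 := by
    by_contra hcon
    push Not at hcon
    have : finrank (ZMod p) R * 2 ≤ finrank (ZMod p) R * c := Nat.mul_le_mul_left _ hcon
    omega
  interval_cases c
  · left; omega
  · right; omega

variable {h : ℕ} {V : Type u} [AddCommGroup V] [Module (ZMod p) V]

namespace Data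

variable (D : Data p h V)

/-- adjoint identity for powers -/
theorem B_pow (hpos : 0 < h) (n : ℕ) :
    ∀ u v : V, D.B ((D.x ^ n) u) v = D.B u (((D.x ^ (h - 1)) ^ n) v) := by
  induction n with
  | zero => intro u v; simp
  | succ n ih =>
    intro u v
    rw [pow_succ, Module.End.mul_apply, ih, pow_succ', Module.End.mul_apply]
    conv_lhs => rw [← D.x_apply_pow hpos (((D.x ^ (h - 1)) ^ n) v)]
    exact D.inv _ _

/-- adjoint identity for polynomials -/
theorem B_aeval (hpos : 0 < h) (f : (ZMod p)[X]) :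
    ∀ u v : V, D.B ((aeval D.x f) u) v = D.B u ((aeval (D.x ^ (h - 1)) f) v) := by
  induction f using Polynomial.induction_on' with
  | add f g hf hg =>
    intro u v
    rw [map_add, map_add, LinearMap.add_apply, LinearMap.add_apply, map_add, LinearMap.add_apply,
      map_add, hf, hg]
  | monomial n a =>
    intro u v
    rw [aeval_monomial, aeval_monomial, Module.End.mul_apply, Module.End.mul_apply,
      Module.algebraMap_end_apply, Module.algebraMap_end_apply, map_smul, LinearMap.smul_apply,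
      map_smul, D.B_pow hpos]

theorem dvd_of_pow_eq_one [Nontrivial V] {k : ℕ} (hk : D.x ^ k = 1) : h ∣ k := by
  by_contra hcon
  obtain ⟨v, hv⟩ := exists_ne (0 : V)
  exact hv (D.fpf k hcon v (by rw [hk]; rfl))

open scoped IsMulCommutative in
/-- the irreducible case -/
theorem goal_of_irreducible [Finite V] [Nontrivial V] (hpos : 0 < h)
    (hirr : ∀ W : Submodule (ZMod p) V, D.Inv W → W = ⊥ ∨ W = ⊤) : Goal p h V := by
  classical
  let S : Set (Module.End (ZMod p) V) := {D.x}
  have hcomm : ∀ a ∈ S, ∀ b ∈ S, a * b = b * a := by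
    intro a ha b hb
    rw [Set.mem_singleton_iff.mp ha, Set.mem_singleton_iff.mp hb]
  have hxL : D.x ∈ Algebra.adjoin (ZMod p) S := Algebra.subset_adjoin (Set.mem_singleton _)
  have hcyc : ∀ v : V, v ≠ 0 → ∀ w : V, ∃ r ∈ Algebra.adjoin (ZMod p) S, r v = w := by
    intro v hv w
    let M : Submodule (ZMod p) V :=
      Submodule.map (LinearMap.applyₗ v) (Subalgebra.toSubmodule (Algebra.adjoin (ZMod p) S))
    have hMmem : ∀ t : V, t ∈ M ↔ ∃ r ∈ Algebra.adjoin (ZMod p) S, r v = t := by
      intro t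
      simp only [M, Submodule.mem_map, Subalgebra.mem_toSubmodule, LinearMap.applyₗ_apply_apply]
    have hMinv : D.Inv M := by
      intro t ht
      obtain ⟨r, hr, rfl⟩ := (hMmem t).mp ht
      exact (hMmem _).mpr ⟨D.x * r, Subalgebra.mul_mem _ hxL hr, rfl⟩
    have hvM : v ∈ M := (hMmem v).mpr ⟨1, Subalgebra.one_mem _, rfl⟩
    rcases hirr M hMinv with h0 | h1
    · rw [h0, Submodule.mem_bot] at hvM
      exact absurd hvM hv
    · have : w ∈ M := by rw [h1]; trivial
      exact (hMmem w).mp this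
  haveI hmc : IsMulCommutative (Algebra.adjoin (ZMod p) S) :=
    Algebra.isMulCommutative_adjoin (ZMod p) hcomm
  haveI hfinE : Finite (Module.End (ZMod p) V) :=
    Finite.of_injective (fun f : Module.End (ZMod p) V => (f : V → V)) DFunLike.coe_injective
  haveI hfinR : Finite (Algebra.adjoin (ZMod p) S) :=
    Finite.of_injective (fun r : Algebra.adjoin (ZMod p) S => (r : Module.End (ZMod p) V))
      Subtype.val_injective
  haveI hnzd : NoZeroDivisors (Algebra.adjoin (ZMod p) S) := ⟨fun {a b} hab => by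
    have h1 := Cfsg.Agent.Lib.Helper58.adjoin_mul_eq_zero S hcomm hcyc a.2
      (s := (b : Module.End (ZMod p) V)) (congrArg Subtype.val hab)
    rcases h1 with h | h
    · left
      exact Subtype.ext h
    · right
      exact Subtype.ext h⟩
  obtain ⟨v₀, hv₀⟩ := exists_ne (0 : V)
  haveI hnt : Nontrivial (Algebra.adjoin (ZMod p) S) := ⟨⟨0, 1, fun h => by
    have h1 : (0 : Module.End (ZMod p) V) = 1 := congrArg Subtype.val h
    have h2 := LinearMap.congr_fun h1 v₀
    rw [LinearMap.zero_apply, Module.End.one_apply] at h2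
    exact hv₀ h2.symm⟩⟩
  haveI hdom : IsDomain (Algebra.adjoin (ZMod p) S) := NoZeroDivisors.to_isDomain _
  -- cardinality
  have hcardR : Nat.card (Algebra.adjoin (ZMod p) S) = Nat.card V := by
    apply Nat.card_eq_of_bijective
      (fun r : Algebra.adjoin (ZMod p) S => (r : Module.End (ZMod p) V) v₀)
    constructor
    · intro r r' h
      have h1 : ((r : Module.End (ZMod p) V) - r') v₀ = 0 := by
        rw [LinearMap.sub_apply]
        exact sub_eq_zero.mpr h
      have h2 := Cfsg.Agent.Lib.Helper58.eq_zero_of_apply_eq_zero S hcomm hcyc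
        (Subalgebra.sub_mem _ r.2 r'.2) hv₀ h1
      exact Subtype.ext (sub_eq_zero.mp h2)
    · intro y
      obtain ⟨r, hr, hry⟩ := hcyc v₀ hv₀ y
      exact ⟨⟨r, hr⟩, hry⟩
  have hfr : finrank (ZMod p) (Algebra.adjoin (ZMod p) S) = finrank (ZMod p) V := by
    have h1 := Module.natCard_eq_pow_finrank (K := ZMod p) (V := Algebra.adjoin (ZMod p) S)
    have h2 := Module.natCard_eq_pow_finrank (K := ZMod p) (V := V)
    rw [hcardR, h2, Nat.card_zmod] at h1
    exact (Nat.pow_right_injective hp.out.two_le h1).symm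
  -- the elements
  let ξ : Algebra.adjoin (ZMod p) S := ⟨D.x, hxL⟩
  let η : Algebra.adjoin (ZMod p) S := ξ ^ (h - 1)
  have hξη : ξ * η = 1 := by
    apply Subtype.ext
    show D.x * D.x ^ (h - 1) = 1
    exact D.x_mul_pow hpos
  have hgen : Algebra.adjoin (ZMod p) {ξ} = ⊤ := by
    have h1 := Algebra.adjoin_adjoin_coe_preimage (R := ZMod p) (s := S)
    have h2 : ((↑) : Algebra.adjoin (ZMod p) S → Module.End (ZMod p) V) ⁻¹' S = {ξ} := by
      ext r
      simp only [Set.mem_preimage, Set.mem_singleton_iff, S]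
      exact ⟨fun hr => Subtype.ext hr, fun hr => congrArg Subtype.val hr⟩
    rw [h2] at h1
    exact h1
  have hroot : aeval η (minpoly (ZMod p) ξ) = 0 := by
    apply Subtype.ext
    rw [Polynomial.aeval_subalgebra_coe]
    show aeval (D.x ^ (h - 1)) (minpoly (ZMod p) ξ) = 0
    have h0 : aeval D.x (minpoly (ZMod p) ξ) = 0 := by
      have h1 := minpoly.aeval (ZMod p) ξ
      have h2 := congrArg Subtype.val h1
      rw [Polynomial.aeval_subalgebra_coe] at h2
      exact h2
    ext v
    rw [LinearMap.zero_apply]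
    apply D.nd.2
    intro u
    rw [← D.B_aeval hpos, h0, LinearMap.zero_apply, map_zero, LinearMap.zero_apply]
  obtain ⟨i, hi1, hi2⟩ := field_core (Algebra.adjoin (ZMod p) S) ξ η hξη hroot hgen
  have hxpow : D.x ^ (p ^ i + 1) = 1 := by
    have := congrArg Subtype.val hi1
    rw [pow_succ]
    exact this
  have hdvd : h ∣ p ^ i + 1 := D.dvd_of_pow_eq_one hxpow
  have hneg : (p : ZMod h) ^ i = -1 := by
    have h1 : ((p ^ i + 1 : ℕ) : ZMod h) = 0 := (ZMod.natCast_eq_zero_iff _ _).mpr hdvd
    rw [Nat.cast_add, Nat.cast_pow, Nat.cast_one] at h1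
    exact eq_neg_of_add_eq_zero_left h1
  rcases hi2 with hi0 | hi2
  · -- `x * x = 1`: then `x = ±1`, every line is invariant: impossible
    exfalso
    subst hi0
    rw [pow_zero, pow_one] at hi1
    have h1 : (ξ - 1) * (ξ + 1) = 0 := by
      have : (ξ - 1) * (ξ + 1) = ξ * ξ - 1 := by ring
      rw [this, hi1, sub_self]
    have hscal : ∀ v : V, D.x v = v ∨ D.x v = -v := by
      rcases mul_eq_zero.mp h1 with h2 | h2
      · intro v
        left
        have h3 : ξ = 1 := sub_eq_zero.mp h2
        have h4 : D.x = 1 := congrArg Subtype.val h3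
        rw [h4]; rfl
      · intro v
        right
        have h3 : ξ = -1 := eq_neg_of_add_eq_zero_left h2
        have h4 : D.x = -1 := congrArg Subtype.val h3
        rw [h4]; simp
    have hline : D.Inv (Submodule.span (ZMod p) {v₀}) := by
      intro v hv
      rcases hscal v with h2 | h2
      · rw [h2]; exact hv
      · rw [h2]; exact Submodule.neg_mem _ hv
    rcases hirr _ hline with h0 | h1
    · exact hv₀ ((Submodule.span_singleton_eq_bot).mp h0)
    · apply hv₀
      apply D.nd.1 v₀
      intro w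
      have hw : w ∈ Submodule.span (ZMod p) {v₀} := by rw [h1]; trivial
      obtain ⟨c, rfl⟩ := Submodule.mem_span_singleton.mp hw
      rw [map_smul, D.alt.self_eq_zero, smul_zero]
  · exact ⟨i, by rw [← hfr, ← hi2], Or.inr hneg⟩

end Data

end Cfsg.Agent.Lib.Helper62.SympCyclic
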