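import Mathlib
import Cfsg.Agent.Lib.Helper62.SympCyclicC

/-!
# Cyclic fixed-point-free isometry groups of symplectic spaces over `ZMod p` (part D)

The main induction: `h ∣ p ^ m + 1` or `h ∣ p ^ m - 1` where `2 m = dim V`.
-/

set_option autoImplicit false

universe u

namespace Cfsg.Agent.Lib.Helper62.SympCyclic

open Module

variable {p : ℕ} [hp : Fact p.Prime] {h : ℕ}

theorem main (hpos : 0 < h) (hcop : h.Coprime p) :
    ∀ (n : ℕ) (V : Type u) [AddCommGroup V] [Module (ZMod p) V] [Finite V] (D : Data p h V),
      finrank (ZMod p) V = n → Goal p h V := by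
  intro n
  induction n using Nat.strong_induction_on with
  | _ n ih =>
    intro V _ _ _ D hn
    rcases subsingleton_or_nontrivial V with hs | hnt
    · refine ⟨0, ?_, Or.inl (pow_zero _)⟩
      rw [finrank_zero_of_subsingleton]
    · -- the splitting step, with the induction hypothesis
      have hsplit : ∀ N : Submodule (ZMod p) V, D.Inv N → Disjoint N (D.B.orthogonal N) → N ≠ ⊥ →
          N ≠ ⊤ → Goal p h V := by
        intro N hN hd hN0 hNtop
        have hc : IsCompl N (D.B.orthogonal N) :=
          (LinearMap.BilinForm.isCompl_orthogonal_iff_disjoint D.alt.isRefl).mpr hd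
        have h3 := Submodule.finrank_add_eq_of_isCompl hc
        have f1 : finrank (ZMod p) N < n := by
          rw [← hn]
          exact Submodule.finrank_lt hNtop
        have f0 : 0 < finrank (ZMod p) N := by
          rw [Nat.pos_iff_ne_zero]
          intro h0
          exact hN0 (Submodule.finrank_eq_zero.mp h0)
        have f2 : finrank (ZMod p) (D.B.orthogonal N) < n := by omega
        exact D.split hd (ih _ f1 N (D.restrict N hN hd) rfl)
          (ih _ f2 _ (D.restrict _ (D.inv_orthogonal hpos hN)
            (D.disjoint_orthogonal_orthogonal hd)) rfl)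
      obtain ⟨W, hW, hW0, hWmin⟩ := D.exists_minimal
      by_cases hdis : Disjoint W (D.B.orthogonal W)
      · by_cases hWtop : W = ⊤
        · subst hWtop
          apply D.goal_of_irreducible hpos
          intro W' hW'
          exact hWmin W' hW' le_top
        · exact hsplit W hW hdis hW0 hWtop
      · have hWW : W ≤ D.B.orthogonal W := by
          rcases hWmin (W ⊓ D.B.orthogonal W) (D.inv_inf hW (D.inv_orthogonal hpos hW))
            inf_le_left with h0 | h1
          · exact absurd (disjoint_iff.mpr h0) hdis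
          · exact inf_eq_left.mp h1
        have hhF : (h : ZMod p) ≠ 0 := by
          intro h0
          rw [ZMod.natCast_eq_zero_iff] at h0
          have h1 : p ∣ Nat.gcd h p := Nat.dvd_gcd h0 dvd_rfl
          rw [hcop] at h1
          exact hp.out.one_lt.ne' (Nat.dvd_one.mp h1)
        obtain ⟨U, hU, hUc⟩ := exists_inv_compl D.x h D.pow_h hhF (D.B.orthogonal W)
          (D.inv_orthogonal hpos hW)
        obtain ⟨hNd, hNf⟩ := D.hyperbolic hWW hUc
        by_cases hNtop : W ⊔ U = ⊤
        · refine ⟨finrank (ZMod p) W, ?_, Or.inl (D.pow_finrank_eq_one hpos hW)⟩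
          rw [← hNf, hNtop, finrank_top]
        · refine hsplit (W ⊔ U) (D.inv_sup hW hU) hNd ?_ hNtop
          intro h0
          exact hW0 (eq_bot_iff.mpr (h0 ▸ le_sup_left))

/-- Main linear-algebra theorem. -/
theorem main' {V : Type u} [AddCommGroup V] [Module (ZMod p) V] [Finite V] (hpos : 0 < h)
    (hcop : h.Coprime p) (D : Data p h V) (n : ℕ) (hn : Nat.card V = p ^ (2 * n)) :
    h ∣ p ^ n + 1 ∨ h ∣ p ^ n - 1 := by
  obtain ⟨m, hm, hm2⟩ := main hpos hcop _ V D rfl
  have h1 := Module.natCard_eq_pow_finrank (K := ZMod p) (V := V)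
  rw [hn, Nat.card_zmod, hm] at h1
  have h2 : 2 * n = 2 * m := Nat.pow_right_injective hp.out.two_le h1
  have h3 : n = m := by omega
  subst h3
  rcases hm2 with h4 | h4
  · right
    have h5 : ((p ^ n - 1 : ℕ) : ZMod h) = 0 := by
      rw [Nat.cast_sub (Nat.one_le_pow _ _ hp.out.pos), Nat.cast_pow, h4, Nat.cast_one, sub_self]
    exact (ZMod.natCast_eq_zero_iff _ _).mp h5
  · left
    have h5 : ((p ^ n + 1 : ℕ) : ZMod h) = 0 := by
      rw [Nat.cast_add, Nat.cast_pow, h4, Nat.cast_one, neg_add_cancel]
    exact (ZMod.natCast_eq_zero_iff _ _).mp h5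

end Cfsg.Agent.Lib.Helper62.SympCyclic
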