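import Mathlib
import Cfsg.Prelude.Def_Transfer
import Cfsg.Agent.Lib.Helper1.PGroupMax
import Cfsg.Agent.Lib.Helper62.SympCyclicD

/-!
# Cyclic fixed-point-free automorphism groups of extraspecial groups: the bridge

From an extraspecial `p`-group `P` with an automorphism `φ`, `φ ^ h = 1`, trivial on `Z(P)`, whose
powers `φ ^ k` (`h ∤ k`) have all their fixed points in `Z(P)`, we build the symplectic space
`P / Z(P)` over `ZMod p` with its isometry and apply `SympCyclic.main'`.
-/

set_option autoImplicit false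

universe u

namespace Cfsg.Agent.Lib.Helper62.SympCyclic

open Module

open scoped commutatorElement

/-- `p`-th powers lie in the Frattini subgroup of a finite `p`-group. -/
theorem pow_p_mem_frattini {P : Type*} [Group P] [Finite P] {p : ℕ} [Fact p.Prime]
    (hP : IsPGroup p P) (x : P) : x ^ p ∈ frattini P := by
  unfold frattini Order.radical
  rw [Subgroup.mem_iInf]
  intro M
  rw [Subgroup.mem_iInf]
  intro hM
  have hM : IsCoatom M := hM
  have hn : M.Normal := Cfsg.Agent.Lib.Helper1.coatom_normal_of_isPGroup hP hM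
  have hi : M.index = p := Cfsg.Agent.Lib.Helper1.coatom_index_of_isPGroup hP hM
  have hcard : Nat.card (P ⧸ M) = p := by rw [← hi]; rfl
  rw [← QuotientGroup.eq_one_iff]
  have h := pow_card_eq_one' (G := P ⧸ M) (x := (x : P ⧸ M))
  rw [hcard] at h
  simpa using h

section comm

variable {P : Type*} [Group P] (hcen : ∀ a b : P, ⁅a, b⁆ ∈ Subgroup.center P)

include hcen in
theorem comm_mul_left (a b q : P) : ⁅a * b, q⁆ = ⁅a, q⁆ * ⁅b, q⁆ := by
  have h1 : ⁅a * b, q⁆ = a * ⁅b, q⁆ * a⁻¹ * ⁅a, q⁆ := by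
    simp only [commutatorElement_def]; group
  have h2 : a * ⁅b, q⁆ = ⁅b, q⁆ * a := (Subgroup.mem_center_iff.mp (hcen b q) a)
  have h3 : ⁅b, q⁆ * ⁅a, q⁆ = ⁅a, q⁆ * ⁅b, q⁆ := (Subgroup.mem_center_iff.mp (hcen a q) _)
  rw [h1, h2, mul_assoc ⁅b, q⁆, mul_inv_cancel, mul_one, h3]

include hcen in
theorem comm_mul_right (q a b : P) : ⁅q, a * b⁆ = ⁅q, a⁆ * ⁅q, b⁆ := by
  have h1 : ⁅q, a * b⁆ = (⁅a * b, q⁆)⁻¹ := (commutatorElement_inv _ _).symm
  have h3 : ⁅b, q⁆⁻¹ * ⁅a, q⁆⁻¹ = ⁅a, q⁆⁻¹ * ⁅b, q⁆⁻¹ :=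
    (Subgroup.mem_center_iff.mp ((Subgroup.center P).inv_mem (hcen a q)) _)
  rw [h1, comm_mul_left hcen, mul_inv_rev, h3, commutatorElement_inv, commutatorElement_inv]

end comm

/-- **Bridge theorem, abstract form.** `V` is any model of `P / Z(P)` as a `ZMod p`-module. -/
theorem extraspecial_aut_core {Pt : Type u} [Group Pt] [Finite Pt] {p : ℕ} [hp : Fact p.Prime]
    (hcomm : commutator Pt = Subgroup.center Pt) (hZcard : Nat.card (Subgroup.center Pt) = p)
    (n : ℕ) (h : ℕ) (hpos : 0 < h) (hcop : h.Coprime p) (φ : Pt ≃* Pt) (hφh : φ ^ h = 1)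
    (hφZ : ∀ z ∈ Subgroup.center Pt, φ z = z)
    (hfix : ∀ k : ℕ, ¬ h ∣ k → ∀ a : Pt, (φ ^ k) a = a → a ∈ Subgroup.center Pt)
    {V : Type u} [AddCommGroup V] [Module (ZMod p) V] [Finite V] (mkV : Pt → V)
    (mkV_surj : ∀ v : V, ∃ a, mkV a = v) (mkV_mul : ∀ a b : Pt, mkV (a * b) = mkV a + mkV b)
    (mkV_zero : ∀ a : Pt, mkV a = 0 ↔ a ∈ Subgroup.center Pt)
    (hcardV : Nat.card V = p ^ (2 * n)) :
    h ∣ p ^ n + 1 ∨ h ∣ p ^ n - 1 := by
  classical
  have hcen : ∀ a b : Pt, ⁅a, b⁆ ∈ Subgroup.center Pt := by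
    intro a b
    rw [← hcomm, commutator_def]
    exact Subgroup.commutator_mem_commutator (Subgroup.mem_top a) (Subgroup.mem_top b)
  have mkV_one : mkV 1 = 0 := (mkV_zero 1).mpr (Subgroup.one_mem _)
  have mkV_inv : ∀ a : Pt, mkV a⁻¹ = -mkV a := by
    intro a
    have h1 := mkV_mul a⁻¹ a
    rw [inv_mul_cancel, mkV_one] at h1
    exact eq_neg_of_add_eq_zero_left h1.symm
  have mkV_eq : ∀ a b : Pt, mkV a = mkV b ↔ a⁻¹ * b ∈ Subgroup.center Pt := by
    intro a b
    rw [← mkV_zero, mkV_mul, mkV_inv, neg_add_eq_zero]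
  -- the logarithm on the centre
  let e : Subgroup.center Pt ≃* Multiplicative (ZMod p) :=
    mulEquivOfPrimeCardEq hZcard (by simp)
  let cm : Pt → Pt → ZMod p := fun a b => Multiplicative.toAdd (e ⟨⁅a, b⁆, hcen a b⟩)
  have cm_mul_left : ∀ a b q : Pt, cm (a * b) q = cm a q + cm b q := by
    intro a b q
    have h1 : (⟨⁅a * b, q⁆, hcen _ _⟩ : Subgroup.center Pt) =
        ⟨⁅a, q⁆, hcen _ _⟩ * ⟨⁅b, q⁆, hcen _ _⟩ := Subtype.ext (comm_mul_left hcen a b q)
    show Multiplicative.toAdd (e _) = _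
    rw [h1, map_mul, toAdd_mul]
  have cm_mul_right : ∀ q a b : Pt, cm q (a * b) = cm q a + cm q b := by
    intro q a b
    have h1 : (⟨⁅q, a * b⁆, hcen _ _⟩ : Subgroup.center Pt) =
        ⟨⁅q, a⁆, hcen _ _⟩ * ⟨⁅q, b⁆, hcen _ _⟩ := Subtype.ext (comm_mul_right hcen q a b)
    show Multiplicative.toAdd (e _) = _
    rw [h1, map_mul, toAdd_mul]
  have cm_eq_zero : ∀ a b : Pt, cm a b = 0 ↔ ⁅a, b⁆ = 1 := by
    intro a b
    constructor
    · intro h0
      have h1 : e ⟨⁅a, b⁆, hcen a b⟩ = 1 := by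
        apply Multiplicative.toAdd.injective
        exact h0
      have h2 := (MulEquiv.map_eq_one_iff e).mp h1
      exact congrArg Subtype.val h2
    · intro h0
      have h1 : (⟨⁅a, b⁆, hcen a b⟩ : Subgroup.center Pt) = 1 := Subtype.ext h0
      show Multiplicative.toAdd (e _) = 0
      rw [h1, map_one]
      rfl
  have cm_central_left : ∀ c ∈ Subgroup.center Pt, ∀ b : Pt, cm c b = 0 := by
    intro c hc b
    rw [cm_eq_zero, commutatorElement_eq_one_iff_commute]
    exact (Subgroup.mem_center_iff.mp hc b).symm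
  have cm_central_right : ∀ c ∈ Subgroup.center Pt, ∀ b : Pt, cm b c = 0 := by
    intro c hc b
    rw [cm_eq_zero, commutatorElement_eq_one_iff_commute]
    exact (Subgroup.mem_center_iff.mp hc b)
  have cm_phi : ∀ a b : Pt, cm (φ a) (φ b) = cm a b := by
    intro a b
    have h1 : (⟨⁅φ a, φ b⁆, hcen _ _⟩ : Subgroup.center Pt) = ⟨⁅a, b⁆, hcen _ _⟩ := by
      apply Subtype.ext
      show ⁅φ a, φ b⁆ = ⁅a, b⁆
      rw [← map_commutatorElement]
      exact hφZ _ (hcen a b)
    show Multiplicative.toAdd (e _) = Multiplicative.toAdd (e _)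
    rw [h1]
  -- representatives
  let rep : V → Pt := fun v => Classical.choose (mkV_surj v)
  have rep_spec : ∀ v, mkV (rep v) = v := fun v => Classical.choose_spec (mkV_surj v)
  have cm_congr : ∀ a a' b b' : Pt, mkV a = mkV a' → mkV b = mkV b' → cm a b = cm a' b' := by
    intro a a' b b' ha hb
    rw [mkV_eq] at ha hb
    obtain ⟨ca, hca, rfl⟩ : ∃ ca ∈ Subgroup.center Pt, a' = a * ca := ⟨a⁻¹ * a', ha, by group⟩
    obtain ⟨cb, hcb, rfl⟩ : ∃ cb ∈ Subgroup.center Pt, b' = b * cb := ⟨b⁻¹ * b', hb, by group⟩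
    rw [cm_mul_left, cm_central_left _ hca, add_zero, cm_mul_right, cm_central_right _ hcb,
      add_zero]
  let B₀ : V → V → ZMod p := fun v w => cm (rep v) (rep w)
  have B₀_mk : ∀ a b : Pt, B₀ (mkV a) (mkV b) = cm a b := by
    intro a b
    exact cm_congr _ _ _ _ (rep_spec _) (rep_spec _)
  have B₀_add_left : ∀ u v w, B₀ (u + v) w = B₀ u w + B₀ v w := by
    intro u v w
    obtain ⟨a, rfl⟩ := mkV_surj u
    obtain ⟨b, rfl⟩ := mkV_surj v
    obtain ⟨c, rfl⟩ := mkV_surj w
    rw [← mkV_mul, B₀_mk, B₀_mk, B₀_mk, cm_mul_left]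
  have B₀_add_right : ∀ u v w, B₀ u (v + w) = B₀ u v + B₀ u w := by
    intro u v w
    obtain ⟨a, rfl⟩ := mkV_surj u
    obtain ⟨b, rfl⟩ := mkV_surj v
    obtain ⟨c, rfl⟩ := mkV_surj w
    rw [← mkV_mul, B₀_mk, B₀_mk, B₀_mk, cm_mul_right]
  let B : LinearMap.BilinForm (ZMod p) V :=
    LinearMap.mk₂ (ZMod p) B₀ B₀_add_left
      (fun c u w => ZMod.map_smul
        (AddMonoidHom.mk' (fun u => B₀ u w) (fun u v => B₀_add_left u v w)) c u)
      B₀_add_right
      (fun c u w => ZMod.map_smul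
        (AddMonoidHom.mk' (fun w => B₀ u w) (fun v w => B₀_add_right u v w)) c w)
  have B_mk : ∀ a b : Pt, B (mkV a) (mkV b) = cm a b := fun a b => B₀_mk a b
  -- the operator
  have hφZ' : ∀ z : Pt, z ∈ Subgroup.center Pt → φ z ∈ Subgroup.center Pt := by
    intro z hz
    rw [hφZ z hz]
    exact hz
  let X₀ : V → V := fun v => mkV (φ (rep v))
  have X₀_mk : ∀ a : Pt, X₀ (mkV a) = mkV (φ a) := by
    intro a
    show mkV (φ (rep (mkV a))) = mkV (φ a)
    rw [mkV_eq, ← map_inv, ← map_mul]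
    apply hφZ'
    rw [← mkV_eq]
    exact rep_spec _
  have X₀_add : ∀ u v, X₀ (u + v) = X₀ u + X₀ v := by
    intro u v
    obtain ⟨a, rfl⟩ := mkV_surj u
    obtain ⟨b, rfl⟩ := mkV_surj v
    rw [← mkV_mul, X₀_mk, X₀_mk, X₀_mk, map_mul, mkV_mul]
  let X : Module.End (ZMod p) V := (AddMonoidHom.mk' X₀ X₀_add).toZModLinearMap p
  have X_mk : ∀ a : Pt, X (mkV a) = mkV (φ a) := fun a => X₀_mk a
  have X_pow : ∀ (k : ℕ) (a : Pt), (X ^ k) (mkV a) = mkV ((φ ^ k) a) := by
    intro k
    induction k with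
    | zero => intro a; rfl
    | succ k ih =>
      intro a
      rw [pow_succ', Module.End.mul_apply, ih, X_mk, pow_succ', MulAut.mul_apply]
  -- the data
  have hD : Data p h V :=
    { B := B
      x := X
      alt := by
        intro v
        obtain ⟨a, rfl⟩ := mkV_surj v
        show B (mkV a) (mkV a) = 0
        rw [B_mk, cm_eq_zero, commutatorElement_self]
      nd := by
        constructor
        · intro v hv
          obtain ⟨a, rfl⟩ := mkV_surj v
          rw [mkV_zero, Subgroup.mem_center_iff]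
          intro b
          have h1 := hv (mkV b)
          rw [B_mk, cm_eq_zero, commutatorElement_eq_one_iff_commute] at h1
          exact h1.eq.symm
        · intro v hv
          obtain ⟨a, rfl⟩ := mkV_surj v
          rw [mkV_zero, Subgroup.mem_center_iff]
          intro b
          have h1 := hv (mkV b)
          rw [B_mk, cm_eq_zero, commutatorElement_eq_one_iff_commute] at h1
          exact h1.eq
      inv := by
        intro u v
        obtain ⟨a, rfl⟩ := mkV_surj u
        obtain ⟨b, rfl⟩ := mkV_surj v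
        rw [X_mk, X_mk, B_mk, B_mk, cm_phi]
      pow_h := by
        apply LinearMap.ext
        intro v
        obtain ⟨a, rfl⟩ := mkV_surj v
        rw [X_pow, hφh]
        rfl
      fpf := by
        intro k hk v hv
        obtain ⟨a, rfl⟩ := mkV_surj v
        rw [X_pow, mkV_eq] at hv
        rw [mkV_zero]
        -- `(φ^k) a = a * c` with `c` central
        set ψ := φ ^ k with hψ
        set c := (ψ a)⁻¹ * a with hc
        have hψa : ψ a = a * c⁻¹ := by rw [hc]; group
        have hψc : ψ c⁻¹ = c⁻¹ := by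
          have h1 : ∀ (j : ℕ) (z : Pt), z ∈ Subgroup.center Pt → (φ ^ j) z = z := by
            intro j
            induction j with
            | zero => intro z _; rfl
            | succ j ih =>
              intro z hz
              rw [pow_succ', MulAut.mul_apply, ih z hz, hφZ z hz]
          exact h1 k _ ((Subgroup.center Pt).inv_mem hv)
        have hpowj : ∀ j : ℕ, (ψ ^ j) a = a * (c⁻¹) ^ j := by
          intro j
          induction j with
          | zero => simp
          | succ j ih =>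
            rw [pow_succ', MulAut.mul_apply, ih, map_mul, map_pow, hψa, hψc, mul_assoc, ← pow_succ']
        have hψh : ψ ^ h = 1 := by
          rw [hψ, ← pow_mul, mul_comm, pow_mul, hφh, one_pow]
        have h1 := hpowj h
        rw [hψh, MulAut.one_apply] at h1
        have h2 : (c⁻¹) ^ h = 1 := by
          have := h1.symm
          rwa [mul_eq_left] at this
        have h3 : (c⁻¹) ^ p = 1 := by
          have h4 : ((⟨c⁻¹, (Subgroup.center Pt).inv_mem hv⟩ : Subgroup.center Pt)) ^ p = 1 := by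
            have := pow_card_eq_one' (G := Subgroup.center Pt)
              (x := ⟨c⁻¹, (Subgroup.center Pt).inv_mem hv⟩)
            rwa [hZcard] at this
          exact congrArg Subtype.val h4
        have h5 : c⁻¹ = 1 := by
          have h6 : orderOf (c⁻¹) ∣ Nat.gcd h p :=
            Nat.dvd_gcd (orderOf_dvd_of_pow_eq_one h2) (orderOf_dvd_of_pow_eq_one h3)
          rw [hcop, Nat.dvd_one, orderOf_eq_one_iff] at h6
          exact h6
        rw [h5, mul_one] at hψa
        exact hfix k hk a hψa }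
  exact main' hpos hcop hD n hcardV

/-- **Bridge theorem.** A cyclic group of automorphisms of an extraspecial group of order
`p ^ (2 n + 1)`, of order `h` prime to `p`, trivial on the centre and with all fixed points of all
non-identity elements central, has order dividing `p ^ n + 1` or `p ^ n - 1`. -/
theorem extraspecial_aut {Pt : Type u} [Group Pt] [Finite Pt] {p : ℕ} [hp : Fact p.Prime]
    (hP : Cfsg.IsExtraspecial p Pt) (n : ℕ) (hn : Nat.card Pt = p ^ (2 * n + 1))
    (h : ℕ) (hpos : 0 < h) (hcop : h.Coprime p) (φ : Pt ≃* Pt) (hφh : φ ^ h = 1)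
    (hφZ : ∀ z ∈ Subgroup.center Pt, φ z = z)
    (hfix : ∀ k : ℕ, ¬ h ∣ k → ∀ a : Pt, (φ ^ k) a = a → a ∈ Subgroup.center Pt) :
    h ∣ p ^ n + 1 ∨ h ∣ p ^ n - 1 := by
  classical
  obtain ⟨⟨hPp, hfrat, hcomm⟩, hZcard⟩ := hP
  have hcen : ∀ a b : Pt, ⁅a, b⁆ ∈ Subgroup.center Pt := by
    intro a b
    rw [← hcomm, commutator_def]
    exact Subgroup.commutator_mem_commutator (Subgroup.mem_top a) (Subgroup.mem_top b)
  let instQ : CommGroup (Pt ⧸ Subgroup.center Pt) :=
    { (inferInstance : Group (Pt ⧸ Subgroup.center Pt)) with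
      mul_comm := by
        intro x y
        induction x using QuotientGroup.induction_on with
        | H a =>
          induction y using QuotientGroup.induction_on with
          | H b =>
            rw [← QuotientGroup.mk_mul, ← QuotientGroup.mk_mul, QuotientGroup.eq]
            have h1 : (a * b)⁻¹ * (b * a) = ⁅b⁻¹, a⁻¹⁆ := by
              simp only [commutatorElement_def]; group
            rw [h1]
            exact hcen _ _ }
  let instA : AddCommGroup (Additive (Pt ⧸ Subgroup.center Pt)) :=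
    @Additive.addCommGroup (Pt ⧸ Subgroup.center Pt) instQ
  let mkV : Pt → Additive (Pt ⧸ Subgroup.center Pt) := fun a => Additive.ofMul (QuotientGroup.mk a)
  have mkV_surj : ∀ v : Additive (Pt ⧸ Subgroup.center Pt), ∃ a, mkV a = v := by
    intro v
    obtain ⟨a, ha⟩ := QuotientGroup.mk_surjective (Additive.toMul v)
    exact ⟨a, by show Additive.ofMul _ = v; rw [ha]; rfl⟩
  have mkV_mul : ∀ a b : Pt, mkV (a * b) = mkV a + mkV b := fun a b => rfl
  have mkV_zero : ∀ a : Pt, mkV a = 0 ↔ a ∈ Subgroup.center Pt := by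
    intro a
    show Additive.ofMul _ = Additive.ofMul 1 ↔ _
    rw [Additive.ofMul.injective.eq_iff, QuotientGroup.eq_one_iff]
  have hexp : ∀ v : Additive (Pt ⧸ Subgroup.center Pt), p • v = 0 := by
    intro v
    obtain ⟨a, rfl⟩ := mkV_surj v
    show Additive.ofMul ((QuotientGroup.mk a : Pt ⧸ Subgroup.center Pt) ^ p) = 0
    rw [← QuotientGroup.mk_pow]
    have h1 : a ^ p ∈ Subgroup.center Pt := by
      rw [← hfrat]
      exact pow_p_mem_frattini hPp a
    exact (mkV_zero _).mpr h1
  let instM : Module (ZMod p) (Additive (Pt ⧸ Subgroup.center Pt)) :=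
    @AddCommGroup.zmodModule p (Additive (Pt ⧸ Subgroup.center Pt)) instA hexp
  have hcardV : Nat.card (Additive (Pt ⧸ Subgroup.center Pt)) = p ^ (2 * n) := by
    have h1 := Subgroup.card_eq_card_quotient_mul_card_subgroup (Subgroup.center Pt)
    rw [hn, hZcard, pow_succ] at h1
    have h2 : Nat.card (Additive (Pt ⧸ Subgroup.center Pt)) = Nat.card (Pt ⧸ Subgroup.center Pt) :=
      Nat.card_congr Additive.toMul
    rw [h2]
    exact (Nat.eq_of_mul_eq_mul_right hp.out.pos h1).symm
  exact @extraspecial_aut_core Pt _ _ p hp hcomm hZcard n h hpos hcop φ hφh hφZ hfix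
    (Additive (Pt ⧸ Subgroup.center Pt)) instA instM inferInstance mkV mkV_surj mkV_mul mkV_zero
    hcardV

end Cfsg.Agent.Lib.Helper62.SympCyclic
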