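import Mathlib
import Cfsg.Agent.S0093
import Cfsg.Agent.Lib.Helper62.SympCyclicE
import Cfsg.Agent.Lib.Helper90.ESCriterion

/-!
# 2-groups whose characteristic abelian subgroups have order at most 2 (helper62)

* `central_split`: if `H ≤ M`, `⁅H, M⁆ ⊆ {1, z}` with `z` a central involution of `M` lying in `H`
  and `Z(H) ⊆ {1, z}`, then `M = H * C_M(H)` (elementwise form).
* `extraspecial_of_char_abelian`: a finite 2-group of order `> 2` all of whose characteristic
  abelian subgroups have order `≤ 2` is extraspecial (critical subgroup argument, via `S0093`).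
-/

set_option autoImplicit false

namespace Cfsg.Agent.Lib.Helper62.AutQ8

open scoped commutatorElement

theorem central_split {G : Type*} [Group G] [Finite G] (z : G) (hzz : z * z = 1) :
    ∀ (n : ℕ) (H M : Subgroup G), Nat.card H ≤ n → H ≤ M → z ∈ H →
      (∀ m ∈ M, z * m = m * z) →
      (∀ h ∈ H, ∀ m ∈ M, h * m = m * h ∨ h * m = z * m * h) →
      (∀ c ∈ H, (∀ h ∈ H, c * h = h * c) → c = 1 ∨ c = z) →
      ∀ m ∈ M, ∃ c ∈ H, ∀ h ∈ H, (c⁻¹ * m) * h = h * (c⁻¹ * m) := by
  intro n
  induction n with
  | zero =>
    intro H M hn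
    exact absurd hn (by have : 0 < Nat.card H := Nat.card_pos; omega)
  | succ n ih =>
    intro H M hn hHM hzH hzM h1 h3 m hm
    by_cases hall : ∀ h ∈ H, h * m = m * h
    · refine ⟨1, H.one_mem, ?_⟩
      intro h hh
      rw [inv_one, one_mul]
      exact (hall h hh).symm
    · push Not at hall
      obtain ⟨h1', hh1, hne1⟩ := hall
      have hz1 : z ≠ 1 := by
        rintro rfl
        rcases h1 h1' hh1 m hm with h | h
        · exact hne1 h
        · rw [one_mul] at h; exact hne1 h
      have hzinv : z⁻¹ = z := inv_eq_of_mul_eq_one_right hzz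
      -- the centralizer of m in H
      set K : Subgroup G := H ⊓ Subgroup.centralizer {m} with hK
      have hKmem : ∀ x, x ∈ K ↔ x ∈ H ∧ x * m = m * x := by
        intro x
        rw [hK, Subgroup.mem_inf, Subgroup.mem_centralizer_singleton_iff]
      have hKH : K ≤ H := inf_le_left
      have hzK : z ∈ K := (hKmem z).mpr ⟨hzH, hzM m hm⟩
      have hnotK : ∀ h ∈ H, h ∉ K → h * m = z * m * h := by
        intro h hh hk
        rcases h1 h hh m hm with h' | h'
        · exact absurd ((hKmem h).mpr ⟨hh, h'⟩) hk
        · exact h'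
      have hprodK : ∀ h ∈ H, ∀ h' ∈ H, h ∉ K → h' ∉ K → h * h' ∈ K := by
        intro h hh h' hh' hk hk'
        rw [hKmem]
        refine ⟨H.mul_mem hh hh', ?_⟩
        have e1 := hnotK h hh hk
        have e2 := hnotK h' hh' hk'
        have e3 : h * z = z * h := (hzM h (hHM hh)).symm
        calc h * h' * m = h * (h' * m) := by rw [mul_assoc]
          _ = h * (z * m * h') := by rw [e2]
          _ = (h * z) * m * h' := by simp only [mul_assoc]
          _ = z * (h * m) * h' := by rw [e3]; simp only [mul_assoc]
          _ = z * (z * m * h) * h' := by rw [e1]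
          _ = (z * z) * m * h * h' := by simp only [mul_assoc]
          _ = m * (h * h') := by rw [hzz, one_mul, mul_assoc]
      have hh1K : h1' ∉ K := fun hk => hne1 ((hKmem h1').mp hk).2
      have hcardK : Nat.card K ≤ n := by
        have : Nat.card K < Nat.card H := by
          by_contra hcon
          have he := Subgroup.eq_of_le_of_card_ge hKH (not_lt.mp hcon)
          exact hh1K (he ▸ hh1)
        omega
      -- Claim A
      have hA : ∃ c ∈ H, c ≠ 1 ∧ c ≠ z ∧ ∀ k ∈ K, c * k = k * c := by
        by_contra hcon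
        push Not at hcon
        have h3K : ∀ c ∈ H, (∀ k ∈ K, c * k = k * c) → c = 1 ∨ c = z := by
          intro c hc hck
          by_cases hc1 : c = 1
          · exact Or.inl hc1
          · by_cases hcz : c = z
            · exact Or.inr hcz
            · obtain ⟨k, hk, hne⟩ := hcon c hc hc1 hcz
              exact absurd (hck k hk) hne
        obtain ⟨c, hcK, hcc⟩ := ih K H hcardK hKH hzK (fun h hh => hzM h (hHM hh))
          (fun k hk h hh => h1 k (hKH hk) h (hHM hh))
          (fun c hc hck => h3K c (hKH hc) hck) h1' hh1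
        have hcH : c⁻¹ * h1' ∈ H := H.mul_mem (H.inv_mem (hKH hcK)) hh1
        rcases h3K (c⁻¹ * h1') hcH hcc with h | h
        · apply hh1K
          have : h1' = c := by
            have := congrArg (fun t => c * t) h
            simpa using this
          rw [this]; exact hcK
        · apply hh1K
          have : h1' = c * z := by
            have := congrArg (fun t => c * t) h
            simpa using this
          rw [this]; exact K.mul_mem hcK hzK
      obtain ⟨c, hcH, hc1, hcz, hcK⟩ := hA
      have hex : ∃ h2 ∈ H, c * h2 ≠ h2 * c := by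
        by_contra hcon
        push Not at hcon
        rcases h3 c hcH hcon with h | h
        · exact hc1 h
        · exact hcz h
      obtain ⟨h2, hh2, hne2⟩ := hex
      have hh2K : h2 ∉ K := fun hk => hne2 (hcK h2 hk)
      have hcM : c ∈ M := hHM hcH
      have e2c : h2 * c = z * c * h2 := by
        rcases h1 h2 hh2 c hcM with h | h
        · exact absurd h.symm hne2
        · exact h
      refine ⟨c, hcH, ?_⟩
      intro h hh
      have hfin : ∀ u v : G, h * m * h⁻¹ = u * m → h * c * h⁻¹ = u * c → u * c = c * u →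
          (c⁻¹ * m) * h = h * (c⁻¹ * m) := by
        intro u v k1 k2 k0
        have k3 : h * (c⁻¹ * m) * h⁻¹ = c⁻¹ * m := by
          calc h * (c⁻¹ * m) * h⁻¹ = (h * c * h⁻¹)⁻¹ * (h * m * h⁻¹) := by group
            _ = (u * c)⁻¹ * (u * m) := by rw [k1, k2]
            _ = c⁻¹ * m := by group
        calc (c⁻¹ * m) * h = (h * (c⁻¹ * m) * h⁻¹) * h := by rw [k3]
          _ = h * (c⁻¹ * m) := by group
      by_cases hk : h ∈ K
      · have e1 : h * m = m * h := ((hKmem h).mp hk).2
        have e2 : c * h = h * c := hcK h hk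
        apply hfin 1 1
        · rw [e1]; group
        · rw [← e2]; group
        · rw [one_mul, mul_one]
      · have e1 : h * m = z * m * h := hnotK h hh hk
        have e4 : h * c = z * c * h := by
          rcases h1 h hh c hcM with h' | h'
          · exfalso
            have hK2 : h * h2 ∈ K := hprodK h hh h2 hh2 hk hh2K
            have e5 := hcK (h * h2) hK2
            have k4 : h2 * c * h2⁻¹ = z * c := by rw [e2c]; group
            have k5 : h * c * h⁻¹ = c := by rw [h']; group
            have k6 : h * z * h⁻¹ = z := by rw [(hzM h (hHM hh)).symm]; group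
            have k7 : (h * h2) * c * (h * h2)⁻¹ = c := by rw [← e5]; group
            have k8 : (h * h2) * c * (h * h2)⁻¹ = z * c := by
              calc (h * h2) * c * (h * h2)⁻¹ = h * (h2 * c * h2⁻¹) * h⁻¹ := by group
                _ = h * (z * c) * h⁻¹ := by rw [k4]
                _ = (h * z * h⁻¹) * (h * c * h⁻¹) := by group
                _ = z * c := by rw [k5, k6]
            apply hz1
            have k9 : z * c = c := k8.symm.trans k7
            have : z = (z * c) * c⁻¹ := by group
            rw [this, k9, mul_inv_cancel]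
          · exact h'
        apply hfin z z
        · rw [e1]; group
        · rw [e4]; group
        · exact hzM c hcM

theorem extraspecial_of_char_abelian {W : Type*} [Group W] [Finite W] (hW : IsPGroup 2 W)
    (hbig : 2 < Nat.card W)
    (hchar : ∀ A : Subgroup W, A.Characteristic → (∀ x ∈ A, ∀ y ∈ A, x * y = y * x) →
      Nat.card A ≤ 2) : Cfsg.IsExtraspecial 2 W := by
  haveI : Fact (Nat.Prime 2) := ⟨Nat.prime_two⟩
  obtain ⟨H, hHc, hΦ, hcm, hcent⟩ := Cfsg.Agent.S0093.result hW
  haveI := hHc
  haveI : Nontrivial W := by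
    rw [← Finite.one_lt_card_iff_nontrivial]; omega
  -- the centre has order 2
  have hZle : Nat.card (Subgroup.center W) ≤ 2 :=
    hchar _ inferInstance (fun x hx y _ => (Subgroup.mem_center_iff.mp hx y).symm)
  haveI : Nontrivial (Subgroup.center W) := hW.center_nontrivial
  obtain ⟨⟨z, hzc⟩, hz1'⟩ := exists_ne (1 : Subgroup.center W)
  have hz1 : z ≠ 1 := fun h => hz1' (Subtype.ext h)
  have hzo : orderOf z = 2 := by
    have h1 : orderOf z ≤ 2 := by
      rw [← Nat.card_zpowers]
      exact le_trans (Subgroup.card_le_of_le (Subgroup.zpowers_le.mpr hzc)) hZle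
    have h2 : orderOf z ≠ 1 := fun h => hz1 (orderOf_eq_one_iff.mp h)
    have h3 : 0 < orderOf z := orderOf_pos z
    omega
  have hzz : z * z = 1 := by
    rw [← pow_two, ← hzo]; exact pow_orderOf_eq_one z
  have hZeq : Subgroup.zpowers z = Subgroup.center W := by
    apply Subgroup.eq_of_le_of_card_ge (Subgroup.zpowers_le.mpr hzc)
    rw [Nat.card_zpowers, hzo]; exact hZle
  have hcenter : ∀ x : W, x ∈ Subgroup.center W ↔ (x = 1 ∨ x = z) := by
    intro x
    rw [← hZeq]
    exact Cfsg.Agent.Lib.Helper90.mem_zpowers_of_involution z hzz x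
  -- Z(H) = Z(W)
  set ZH : Subgroup W := H ⊓ Subgroup.centralizer (H : Set W) with hZH
  have hZHle : Nat.card ZH ≤ 2 := by
    apply hchar ZH inferInstance
    intro x hx y hy
    exact (Subgroup.mem_centralizer_iff.mp (Subgroup.mem_inf.mp hy).2 x (Subgroup.mem_inf.mp hx).1)
  have hcZH : Subgroup.center W ≤ ZH := by
    intro x hx
    have hx' : x ∈ Subgroup.centralizer (H : Set W) := by
      rw [Subgroup.mem_centralizer_iff]
      intro h _
      exact (Subgroup.mem_center_iff.mp hx h)
    exact Subgroup.mem_inf.mpr ⟨hcent hx', hx'⟩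
  have hZHeq : Subgroup.center W = ZH := by
    apply Subgroup.eq_of_le_of_card_ge hcZH
    have : 2 ≤ Nat.card (Subgroup.center W) := by
      rw [← hZeq, Nat.card_zpowers, hzo]
    omega
  have hZHmem : ∀ x : W, x ∈ ZH ↔ (x = 1 ∨ x = z) := by
    intro x; rw [← hZHeq]; exact hcenter x
  have h1 : ∀ h ∈ H, ∀ m ∈ (⊤ : Subgroup W), h * m = m * h ∨ h * m = z * m * h := by
    intro h hh m _
    have hmem : ⁅h, m⁆ ∈ ZH :=
      hcm (Subgroup.commutator_mem_commutator hh (Subgroup.mem_top m))
    rcases (hZHmem _).mp hmem with e | e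
    · left
      exact commutatorElement_eq_one_iff_mul_comm.mp e
    · right
      rw [← e, commutatorElement_def]; group
  have h3 : ∀ c ∈ H, (∀ h ∈ H, c * h = h * c) → c = 1 ∨ c = z := by
    intro c hc hcc
    rw [← hZHmem]
    refine Subgroup.mem_inf.mpr ⟨hc, ?_⟩
    rw [Subgroup.mem_centralizer_iff]
    intro h hh
    exact (hcc h hh).symm
  have hzH : z ∈ H := (hcZH hzc).1
  have hsplit := central_split z hzz (Nat.card H) H ⊤ le_rfl le_top hzH
    (fun m _ => (Subgroup.mem_center_iff.mp hzc m).symm) h1 h3
  have hHtop : H = ⊤ := by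
    rw [eq_top_iff]
    intro m _
    obtain ⟨c, hc, hcc⟩ := hsplit m (Subgroup.mem_top m)
    have : c⁻¹ * m ∈ H := by
      apply hcent
      rw [Subgroup.mem_centralizer_iff]
      intro h hh
      exact (hcc h hh).symm
    have : c * (c⁻¹ * m) ∈ H := H.mul_mem hc this
    simpa using this
  apply Cfsg.Agent.Lib.Helper90.isExtraspecial_two_of hW z hz1 hcenter
  · intro a b
    have ha : a ∈ H := hHtop ▸ Subgroup.mem_top a
    rcases h1 a ha b (Subgroup.mem_top b) with e | e
    · left; rw [e]; group
    · right; rw [e]; group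
  · intro a
    have ha : a ∈ H := hHtop ▸ Subgroup.mem_top a
    have hf : (⟨a, ha⟩ : H) ^ 2 ∈ frattini H :=
      Cfsg.Agent.Lib.Helper62.SympCyclic.pow_p_mem_frattini (hW.to_subgroup H) _
    have hmem : a * a ∈ ZH := by
      refine Subgroup.mem_inf.mpr ⟨H.mul_mem ha ha, hΦ ⟨_, hf, ?_⟩⟩
      simp [pow_two]
    exact (hZHmem _).mp hmem
  · by_contra hcon
    push Not at hcon
    have hWZ : (⊤ : Subgroup W) ≤ Subgroup.center W := by
      intro x _
      rw [Subgroup.mem_center_iff]
      intro g
      exact hcon g x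
    have : Nat.card W ≤ 2 := by
      rw [← Subgroup.card_top (G := W)]
      exact le_trans (Subgroup.card_le_of_le hWZ) hZle
    omega

end Cfsg.Agent.Lib.Helper62.AutQ8
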