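import Mathlib
import Cfsg.Agent.Lib.Helper62.AutQ8B

/-!
# Fixed point subgroups of automorphisms: small lemmas (helper62)
-/

set_option autoImplicit false

namespace Cfsg.Agent.Lib.Helper62.AutQ8

variable {W : Type*} [Group W]

/-- fixed points of one automorphism -/
def fixS (d : MulAut W) : Subgroup W where
  carrier := {x | d x = x}
  mul_mem' := by
    intro a b ha hb
    show d (a * b) = a * b
    rw [map_mul, ha, hb]
  one_mem' := map_one _
  inv_mem' := by
    intro a ha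
    show d a⁻¹ = a⁻¹
    rw [map_inv, ha]

theorem mem_fixS {d : MulAut W} {x : W} : x ∈ fixS d ↔ d x = x := Iff.rfl

/-- common fixed points of a group of automorphisms -/
def fixAll (E : Subgroup (MulAut W)) : Subgroup W where
  carrier := {x | ∀ e ∈ E, e x = x}
  mul_mem' := by
    intro a b ha hb e he
    rw [map_mul, ha e he, hb e he]
  one_mem' := fun e _ => map_one _
  inv_mem' := by
    intro a ha e he
    rw [map_inv, ha e he]

theorem mem_fixAll {E : Subgroup (MulAut W)} {x : W} : x ∈ fixAll E ↔ ∀ e ∈ E, e x = x := Iff.rfl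

theorem fixAll_le_fixS {E : Subgroup (MulAut W)} {d : MulAut W} (hd : d ∈ E) :
    fixAll E ≤ fixS d := fun _ hx => hx d hd

theorem fixS_le_pow (d : MulAut W) (k : ℕ) : fixS d ≤ fixS (d ^ k) := by
  intro x hx
  rw [mem_fixS] at hx ⊢
  induction k with
  | zero => rw [pow_zero]; rfl
  | succ k ih => rw [pow_succ, MulAut.mul_apply, hx, ih]

theorem fixS_le_of_pow_eq {d d' : MulAut W} (k : ℕ) (h : d ^ k = d') : fixS d ≤ fixS d' :=
  h ▸ fixS_le_pow d k

theorem fixS_eq_top_iff (d : MulAut W) : fixS d = ⊤ ↔ d = 1 := by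
  constructor
  · intro h
    ext x
    have : x ∈ fixS d := h ▸ Subgroup.mem_top x
    exact this
  · rintro rfl
    rw [eq_top_iff]
    intro x _
    rfl

/-- invariance of fixed points under commuting automorphisms -/
theorem fixS_invariant {d e : MulAut W} (h : d * e = e * d) {x : W} (hx : x ∈ fixS d) :
    e x ∈ fixS d := by
  rw [mem_fixS] at hx ⊢
  calc d (e x) = (d * e) x := rfl
    _ = (e * d) x := by rw [h]
    _ = e (d x) := rfl
    _ = e x := by rw [hx]

/-- second isomorphism theorem, cardinality form -/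
theorem card_sup_mul_card_inf {G : Type*} [Group G] (A B : Subgroup G) [B.Normal] :
    Nat.card ↥(A ⊔ B) * Nat.card ↥(A ⊓ B) = Nat.card A * Nat.card B := by
  have key : ∀ H K : Subgroup G, H ≤ K → Nat.card H * H.relIndex K = Nat.card K := by
    intro H K h
    have := Subgroup.relIndex_mul_relIndex ⊥ H K bot_le h
    rw [Subgroup.relIndex_bot_left, Subgroup.relIndex_bot_left] at this
    exact this
  have h1 := key B (A ⊔ B) le_sup_right
  have h2 := key (A ⊓ B) A inf_le_left
  rw [Subgroup.relIndex_sup_right] at h1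
  rw [Subgroup.inf_relIndex_left] at h2
  rw [← h1, ← h2]
  ring

theorem two_mul_card_sup_le {G : Type*} [Group G] [Finite G] (A B Z : Subgroup G) [B.Normal]
    (hZA : Z ≤ A) (hZB : Z ≤ B) (hZ : Nat.card Z = 2) :
    2 * Nat.card ↥(A ⊔ B) ≤ Nat.card A * Nat.card B := by
  rw [← card_sup_mul_card_inf A B]
  have : 2 ≤ Nat.card ↥(A ⊓ B) := by
    rw [← hZ]
    exact Subgroup.card_le_of_le (le_inf hZA hZB)
  calc 2 * Nat.card ↥(A ⊔ B) = Nat.card ↥(A ⊔ B) * 2 := mul_comm _ _
    _ ≤ Nat.card ↥(A ⊔ B) * Nat.card ↥(A ⊓ B) := Nat.mul_le_mul_left _ this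

/-- in an image of order 3, every element acts as a power of a nontrivially acting one -/
theorem exists_pow_agree [Finite W] (Q : Subgroup W) (E : Subgroup (MulAut W))
    (hinv : ∀ s ∈ E, ∀ x ∈ Q, s x ∈ Q) (h3 : Nat.card (resOn Q E hinv).range = 3)
    (d : MulAut W) (hd : d ∈ E) (hact : ∃ x ∈ Q, d x ≠ x) (e : MulAut W) (he : e ∈ E) :
    ∃ j : ℕ, ∀ x ∈ Q, e x = (d ^ j) x := by
  haveI : Fact (Nat.Prime 3) := ⟨Nat.prime_three⟩
  set f := resOn Q E hinv with hf
  set g : f.range := ⟨f ⟨d, hd⟩, ⟨_, rfl⟩⟩ with hg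
  have hg1 : g ≠ 1 := by
    intro h
    have h1 : f ⟨d, hd⟩ = 1 := congrArg Subtype.val h
    obtain ⟨x, hx, hdx⟩ := hact
    exact hdx ((resOn_eq_one_iff Q E hinv ⟨d, hd⟩).mp h1 x hx)
  have htop : Subgroup.zpowers g = ⊤ := zpowers_eq_top_of_prime_card h3 hg1
  haveI : Finite f.range := Nat.finite_of_card_ne_zero (by rw [h3]; norm_num)
  have hmem : (⟨f ⟨e, he⟩, ⟨_, rfl⟩⟩ : f.range) ∈ Submonoid.powers g := by
    rw [mem_powers_iff_mem_zpowers, htop]
    exact Subgroup.mem_top _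
  obtain ⟨j, hj⟩ := hmem
  refine ⟨j, ?_⟩
  intro x hx
  have h1 : (f ⟨d, hd⟩) ^ j = f ⟨e, he⟩ := by
    have := congrArg Subtype.val hj
    simpa using this
  rw [← map_pow] at h1
  have h2 := congrArg (fun φ : MulAut Q => ((φ ⟨x, hx⟩ : Q) : W)) h1
  simp only [hf, resOn_apply] at h2
  rw [← h2]
  rfl

end Cfsg.Agent.Lib.Helper62.AutQ8
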