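import Mathlib
import Cfsg.Agent.S0016
import Cfsg.Agent.S0095
import Cfsg.Agent.Lib.Helper62.AutQ8C
import Cfsg.Agent.Lib.Helper62.AutQ8D

/-!
# Noncyclic abelian odd-order automorphism groups of 2-groups fixing at most one involution (helper62)
-/

set_option autoImplicit false

namespace Cfsg.Agent.Lib.Helper62.AutQ8

/-- squares in a commuting pair of elements of order 3 -/
theorem sq_lemmas {G : Type*} [Group G] (a b : G) (hab : a * b = b * a) (ha : a ^ 3 = 1)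
    (hb : b ^ 3 = 1) :
    (a ^ 2) ^ 2 = a ∧ (b ^ 2) ^ 2 = b ∧ (a ^ 2 * b ^ 2) ^ 2 = a * b ∧
    (a ^ 2 * b) ^ 2 = a * b ^ 2 ∧ (a * b ^ 2) ^ 2 = a ^ 2 * b := by
  have hc : Commute a b := hab
  have ha4 : a ^ 4 = a := by rw [pow_succ, ha, one_mul]
  have hb4 : b ^ 4 = b := by rw [pow_succ, hb, one_mul]
  refine ⟨?_, ?_, ?_, ?_, ?_⟩
  · rw [← pow_mul]; exact ha4
  · rw [← pow_mul]; exact hb4
  · rw [((hc.pow_left 2).pow_right 2).mul_pow, ← pow_mul, ← pow_mul]
    rw [show 2 * 2 = 4 from rfl, ha4, hb4]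
  · rw [(hc.pow_left 2).mul_pow, ← pow_mul]
    rw [show 2 * 2 = 4 from rfl, ha4]
  · rw [(hc.pow_right 2).mul_pow, ← pow_mul]
    rw [show 2 * 2 = 4 from rfl, hb4]

/-- existence of `Ω₁` of order at least `p²` in a noncyclic abelian `p`-group, `p` odd -/
theorem exists_omega {W : Type*} [Group W] [Finite W] {p : ℕ} [Fact p.Prime] (hp : p ≠ 2)
    (E : Subgroup (MulAut W)) (hE : IsPGroup p ↥E)
    (hc : ∀ x ∈ E, ∀ y ∈ E, x * y = y * x) (hnc : ¬ IsCyclic ↥E) :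
    ∃ E0 : Subgroup (MulAut W), E0 ≤ E ∧ (∀ x ∈ E0, x ^ p = 1) ∧ p ^ 2 ≤ Nat.card E0 := by
  have hpr : p.Prime := Fact.out
  have h16 : ¬ ∀ H K : Subgroup ↥E, Nat.card H = p → Nat.card K = p → H = K := by
    intro hu
    rcases Cfsg.Agent.S0016.result p hE hu with h | ⟨h, _⟩
    · exact hnc h
    · exact hp h
  push Not at h16
  obtain ⟨H, K, hH, hK, hHK⟩ := h16
  let E0 : Subgroup (MulAut W) :=
    { carrier := {e | e ∈ E ∧ e ^ p = 1}
      mul_mem' := by
        rintro a b ⟨ha, ha'⟩ ⟨hb, hb'⟩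
        refine ⟨E.mul_mem ha hb, ?_⟩
        have : Commute a b := hc a ha b hb
        rw [this.mul_pow, ha', hb', one_mul]
      one_mem' := ⟨E.one_mem, one_pow _⟩
      inv_mem' := by
        rintro a ⟨ha, ha'⟩
        exact ⟨E.inv_mem ha, by rw [inv_pow, ha', inv_one]⟩ }
  have hE0E : E0 ≤ E := fun e he => he.1
  have hexp : ∀ x ∈ E0, x ^ p = 1 := fun e he => he.2
  have hsub : ∀ L : Subgroup ↥E, Nat.card L = p → L.map E.subtype ≤ E0 := by
    rintro L hL _ ⟨x, hx, rfl⟩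
    refine ⟨x.2, ?_⟩
    have h1 : (⟨x, hx⟩ : L) ^ p = 1 := by
      rw [← hL]; exact pow_card_eq_one'
    have h2 := congrArg (fun t : L => ((t : ↥E) : MulAut W)) h1
    simpa using h2
  have hE0p : IsPGroup p E0 := by
    intro x
    refine ⟨1, ?_⟩
    rw [pow_one]
    exact Subtype.ext (by rw [Subgroup.coe_pow]; exact hexp x.1 x.2)
  refine ⟨E0, hE0E, hexp, ?_⟩
  obtain ⟨k, hk⟩ := hE0p.exists_card_eq
  have hcm : ∀ L : Subgroup ↥E, Nat.card (L.map E.subtype) = Nat.card L := fun L =>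
    Subgroup.card_map_of_injective E.subtype_injective
  have hlt : p < Nat.card E0 := by
    by_contra hcon
    have hle : Nat.card E0 ≤ p := not_lt.mp hcon
    have e1 : H.map E.subtype = E0 :=
      Subgroup.eq_of_le_of_card_ge (hsub H hH) (by rw [hcm, hH]; exact hle)
    have e2 : K.map E.subtype = E0 :=
      Subgroup.eq_of_le_of_card_ge (hsub K hK) (by rw [hcm, hK]; exact hle)
    exact hHK (Subgroup.map_injective E.subtype_injective (e1.trans e2.symm))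
  rw [hk] at hlt ⊢
  have : 1 < k := by
    have : p ^ 1 < p ^ k := by rw [pow_one]; exact hlt
    exact (Nat.pow_lt_pow_iff_right hpr.one_lt).mp this
  exact Nat.pow_le_pow_right hpr.pos this

/-- `d` is active: some element of `E` moves a fixed point of `d` -/
def IsActive {W : Type*} [Group W] (E : Subgroup (MulAut W)) (d : MulAut W) : Prop :=
  ∃ s ∈ E, ∃ x ∈ fixS d, s x ≠ x

open scoped commutatorElement in
theorem main_thm {W : Type*} [Group W] [Finite W] (hW : IsPGroup 2 W) {p : ℕ} [Fact p.Prime]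
    (hp : p ≠ 2) (E : Subgroup (MulAut W)) (hE : IsPGroup p ↥E) (hab : IsMulCommutative ↥E)
    (hnc : ¬ IsCyclic ↥E)
    (hfix : ∀ e ∈ E, e ≠ 1 → ∀ x y : W, orderOf x = 2 → orderOf y = 2 → e x = x → e y = y →
      x = y) :
    Nat.card ↥E = 9 ∧ Cfsg.IsExtraspecial 2 W ∧
    (Nat.card W = 2 ^ 5 ∨ Nat.card W = 2 ^ 7 ∨ Nat.card W = 2 ^ 9) ∧
    {x : W | ∀ e ∈ E, e x = x} = (Subgroup.center W : Set W) := by
  classical
  have hpr : p.Prime := Fact.out
  haveI : Fact (Nat.Prime 2) := ⟨Nat.prime_two⟩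
  have hc : ∀ x ∈ E, ∀ y ∈ E, x * y = y * x := by
    intro x hx y hy
    exact congrArg Subtype.val (hab.is_comm.comm (⟨x, hx⟩ : E) ⟨y, hy⟩)
  obtain ⟨E0, hE0E, hexp, hcard0⟩ := exists_omega hp E hE hc hnc
  have hc0 : ∀ x ∈ E0, ∀ y ∈ E0, x * y = y * x :=
    fun x hx y hy => hc x (hE0E hx) y (hE0E hy)
  have hpW : ∀ X : Subgroup W, ¬ p ∣ Nat.card X := by
    intro X hdiv
    obtain ⟨k, hk⟩ := (hW.to_subgroup X).exists_card_eq
    rw [hk] at hdiv
    exact hp ((Nat.prime_dvd_prime_iff_eq hpr Nat.prime_two).mp (hpr.dvd_of_dvd_pow hdiv))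
  have hodd : ∀ s ∈ E, (orderOf s).Coprime 2 := by
    intro s hs
    obtain ⟨k, hk⟩ := hE ⟨s, hs⟩
    have h1 : s ^ p ^ k = 1 := by
      have := congrArg Subtype.val hk
      simpa using this
    have h2 : orderOf s ∣ p ^ k := orderOf_dvd_of_pow_eq_one h1
    have h3 : (p ^ k).Coprime 2 :=
      Nat.Coprime.pow_left k ((Nat.coprime_primes hpr Nat.prime_two).mpr hp)
    exact Nat.Coprime.coprime_dvd_left h2 h3
  have hinvE : ∀ d ∈ E, ∀ s ∈ E, ∀ x ∈ fixS d, s x ∈ fixS d :=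
    fun d hd s hs x hx => fixS_invariant (hc d hd s hs) hx
  have huniq : ∀ d ∈ E, d ≠ 1 → ∀ x ∈ fixS d, ∀ y ∈ fixS d, orderOf x = 2 → orderOf y = 2 →
      x = y := fun d hd hd1 x hx y hy ox oy => hfix d hd hd1 x y ox oy hx hy
  have hinact : ∀ d, ¬ IsActive E d → fixS d ≤ fixAll E := by
    intro d hna x hx s hs
    by_contra hne
    exact hna ⟨s, hs, x, hx, hne⟩
  -- Step 2: an active element
  have hex1 : ∃ d ∈ E0, d ≠ 1 ∧ IsActive E d := by
    by_contra hcon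
    have hcon' : ∀ d ∈ E0, d ≠ 1 → ¬ IsActive E d :=
      fun d hd hd1 ha => hcon ⟨d, hd, hd1, ha⟩
    have hle : (⊤ : Subgroup W) ≤ fixAll E :=
      gen_of_invariant p E0 hc0 hexp hcard0 ⊤ (hpW ⊤) (fun _ _ _ _ => Subgroup.mem_top _)
        (fixAll E) (fun d hd hd1 x _ hdx => hinact d (hcon' d hd hd1) hdx)
    have hE1 : ∀ e ∈ E, e = 1 := by
      intro e he
      ext x
      exact hle (Subgroup.mem_top x) e he
    have h1 : Nat.card E0 ≤ 1 := by
      have : E0 = ⊥ := by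
        rw [eq_bot_iff]; intro e he; rw [Subgroup.mem_bot]; exact hE1 e (hE0E he)
      rw [this, Subgroup.card_bot]
    have h2 : 2 ^ 2 ≤ p ^ 2 := Nat.pow_le_pow_left hpr.two_le 2
    omega
  have hq8 : ∀ d (hd : d ∈ E), d ≠ 1 → IsActive E d →
      Nat.card (fixS d) = 8 ∧ Nat.card (resOn (fixS d) E (hinvE d hd)).range = 3 ∧
      (∀ s ∈ E, (∃ x ∈ fixS d, s x ≠ x) → ∀ x ∈ fixS d, s x = x → x * x = 1) ∧
      (∀ s ∈ E, (∃ x ∈ fixS d, s x ≠ x) → ∀ B : Subgroup W,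
        (∀ x ∈ B, ∀ y ∈ B, x * y = y * x) → (∀ x ∈ B, s x ∈ B) → ∀ x ∈ B, x ∈ fixS d →
        x * x = 1) :=
    fun d hd hd1 ha => q8_sub hW (fixS d) (huniq d hd hd1) E (hinvE d hd) hodd ha
  obtain ⟨d1, hd1E0, hd1ne, hact1⟩ := hex1
  have hd1E : d1 ∈ E := hE0E hd1E0
  obtain ⟨h8_1, h3_1, hfx1, hab1⟩ := hq8 d1 hd1E hd1ne hact1
  have hp3 : p = 3 := by
    have h1 : Nat.card (resOn (fixS d1) E (hinvE d1 hd1E)).range ∣ Nat.card E :=
      Subgroup.card_range_dvd _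
    rw [h3_1] at h1
    obtain ⟨k, hk⟩ := hE.exists_card_eq
    rw [hk] at h1
    exact ((Nat.prime_dvd_prime_iff_eq Nat.prime_three hpr).mp
      (Nat.prime_three.dvd_of_dvd_pow h1)).symm
  subst hp3
  -- the common fixed points have order at most 2
  have hFEsq : ∀ x ∈ fixAll E, x = 1 ∨ orderOf x = 2 := by
    intro x hx
    obtain ⟨s, hs, hsx⟩ := hact1
    have hxx : x * x = 1 := hfx1 s hs hsx x (fixAll_le_fixS hd1E hx) (hx s hs)
    by_cases hx1 : x = 1
    · exact Or.inl hx1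
    · exact Or.inr (orderOf_eq_prime (by rw [pow_two]; exact hxx) hx1)
  have hFE2 : ∀ x ∈ fixAll E, ∀ y ∈ fixAll E, x ≠ 1 → y ≠ 1 → x = y := by
    intro x hx y hy hx1 hy1
    have ox := (hFEsq x hx).resolve_left hx1
    have oy := (hFEsq y hy).resolve_left hy1
    exact huniq d1 hd1E hd1ne x (fixAll_le_fixS hd1E hx) y (fixAll_le_fixS hd1E hy) ox oy
  have hFEcard : Nat.card (fixAll E) ≤ 2 := by
    by_cases hbot : fixAll E = ⊥
    · rw [hbot, Subgroup.card_bot]; norm_num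
    · obtain ⟨⟨t, ht⟩, ht1⟩ := (Subgroup.ne_bot_iff_exists_ne_one.mp hbot)
      have ht1' : (t : W) ≠ 1 := fun h => ht1 (Subtype.ext h)
      have hsub : ((fixAll E : Subgroup W) : Set W) ⊆ {1, (t : W)} := by
        intro x hx
        by_cases hx1 : x = 1
        · left; exact hx1
        · right; exact hFE2 x hx t ht hx1 ht1'
      have h1 : Nat.card (fixAll E) = ((fixAll E : Subgroup W) : Set W).ncard := rfl
      rw [h1]
      exact le_trans (Set.ncard_le_ncard hsub (Set.toFinite _))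
        (le_of_eq (Set.ncard_pair (Ne.symm ht1')))
  -- Step 4: invariant abelian subgroups are fixed pointwise
  have hstep4 : ∀ A : Subgroup W, (∀ e ∈ E, ∀ x ∈ A, e x ∈ A) →
      (∀ x ∈ A, ∀ y ∈ A, x * y = y * x) → A ≤ fixAll E := by
    intro A hA hAc
    refine gen_of_invariant 3 E0 hc0 hexp hcard0 A (hpW A)
      (fun e he x hx => hA e (hE0E he) x hx) (fixAll E) ?_
    intro d hd hd1 x hxA hdx
    by_cases ha : IsActive E d
    · obtain ⟨_, _, _, habd⟩ := hq8 d (hE0E hd) hd1 ha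
      obtain ⟨s, hs, hsx⟩ := ha
      have hxx : x * x = 1 := habd s hs hsx A hAc (fun y hy => hA s hs y hy) x hxA hdx
      by_cases hx1 : x = 1
      · rw [hx1]; exact (fixAll E).one_mem
      · have hox : orderOf x = 2 := orderOf_eq_prime (by rw [pow_two]; exact hxx) hx1
        intro e he
        apply huniq d (hE0E hd) hd1 (e x) (hinvE d (hE0E hd) e he x hdx) x hdx ?_ hox
        rw [MulEquiv.orderOf_eq e x]
        exact hox
    · exact hinact d ha hdx
  have hcharinv : ∀ A : Subgroup W, A.Characteristic → ∀ e : MulAut W, ∀ x ∈ A, e x ∈ A := by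
    intro A hAch e x hx
    have := Subgroup.characteristic_iff_map_eq.mp hAch e
    rw [← this]
    exact ⟨x, hx, rfl⟩
  have hchar : ∀ A : Subgroup W, A.Characteristic → (∀ x ∈ A, ∀ y ∈ A, x * y = y * x) →
      Nat.card A ≤ 2 := by
    intro A hAch hAc
    have hAE : A ≤ fixAll E := hstep4 A (fun e _ x hx => hcharinv A hAch e x hx) hAc
    exact le_trans (Subgroup.card_le_of_le hAE) hFEcard
  have hbig : 2 < Nat.card W := by
    have := Subgroup.card_le_card_group (fixS d1)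
    omega
  have hES : Cfsg.IsExtraspecial 2 W := extraspecial_of_char_abelian hW hbig hchar
  have hZ2 : Nat.card (Subgroup.center W) = 2 := hES.2
  have hZFE : Subgroup.center W ≤ fixAll E :=
    hstep4 (Subgroup.center W) (fun e _ x hx => hcharinv _ inferInstance e x hx)
      (fun x hx y _ => (Subgroup.mem_center_iff.mp hx y).symm)
  have hZeq : Subgroup.center W = fixAll E :=
    Subgroup.eq_of_le_of_card_ge hZFE (by rw [hZ2]; exact hFEcard)
  have hconc4 : {x : W | ∀ e ∈ E, e x = x} = (Subgroup.center W : Set W) := by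
    rw [hZeq]; rfl
  -- Step 6: a second active element
  have hex2 : ∃ d ∈ E0, d ≠ 1 ∧ IsActive E d ∧ ¬ fixS d ≤ fixS d1 := by
    by_contra hcon
    have hle : (⊤ : Subgroup W) ≤ fixS d1 := by
      refine gen_of_invariant 3 E0 hc0 hexp hcard0 ⊤ (hpW ⊤)
        (fun _ _ _ _ => Subgroup.mem_top _) (fixS d1) ?_
      intro d hd hdne x _ hdx
      by_cases ha : IsActive E d
      · by_contra hx
        exact hcon ⟨d, hd, hdne, ha, fun hle => hx (hle hdx)⟩
      · exact fixAll_le_fixS hd1E (hinact d ha hdx)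
    exact hd1ne ((fixS_eq_top_iff d1).mp (top_le_iff.mp hle))
  obtain ⟨d2, hd2E0, hd2ne, hact2, hnle⟩ := hex2
  have hd2E : d2 ∈ E := hE0E hd2E0
  obtain ⟨h8_2, h3_2, hfx2, hab2⟩ := hq8 d2 hd2E hd2ne hact2
  have hd2act : ∃ x ∈ fixS d1, d2 x ≠ x := by
    by_contra hcon
    push Not at hcon
    have hle : fixS d1 ≤ fixS d2 := fun x hx => hcon x hx
    have := Subgroup.eq_of_le_of_card_ge hle (by rw [h8_1, h8_2])
    exact hnle (le_of_eq this.symm)
  have hd1act : ∃ x ∈ fixS d2, d1 x ≠ x := by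
    by_contra hcon
    push Not at hcon
    exact hnle (fun x hx => hcon x hx)
  have hd1_3 : d1 ^ 3 = 1 := hexp d1 hd1E0
  have hd2_3 : d2 ^ 3 = 1 := hexp d2 hd2E0
  have hd12 : d1 * d2 = d2 * d1 := hc d1 hd1E d2 hd2E
  -- Step 7: E is generated by d1, d2
  have hstep7 : ∀ e ∈ E, ∃ i j : ℕ, i < 3 ∧ j < 3 ∧ e = d1 ^ i * d2 ^ j := by
    intro e he
    obtain ⟨j, hj⟩ := exists_pow_agree (fixS d1) E (hinvE d1 hd1E) h3_1 d2 hd2E hd2act e he
    obtain ⟨i, hi⟩ := exists_pow_agree (fixS d2) E (hinvE d2 hd2E) h3_2 d1 hd1E hd1act e he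
    have hiE : d1 ^ i ∈ E := E.pow_mem hd1E i
    have hjE : d2 ^ j ∈ E := E.pow_mem hd2E j
    have htE : d1 ^ i * d2 ^ j ∈ E := E.mul_mem hiE hjE
    have ht1 : ∀ x ∈ fixS d1, e x = (d1 ^ i * d2 ^ j) x := by
      intro x hx
      rw [hj x hx]
      have h1 : (d2 ^ j) x ∈ fixS d1 := hinvE d1 hd1E (d2 ^ j) hjE x hx
      exact ((fixS_le_pow d1 i) h1).symm
    have ht2 : ∀ x ∈ fixS d2, e x = (d1 ^ i * d2 ^ j) x := by
      intro x hx
      rw [hi x hx, hc _ hiE _ hjE]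
      have h1 : (d1 ^ i) x ∈ fixS d2 := hinvE d2 hd2E (d1 ^ i) hiE x hx
      exact ((fixS_le_pow d2 j) h1).symm
    have he'E : (d1 ^ i * d2 ^ j)⁻¹ * e ∈ E := E.mul_mem (E.inv_mem htE) he
    have h1' : fixS d1 ≤ fixS ((d1 ^ i * d2 ^ j)⁻¹ * e) := by
      intro x hx
      show (d1 ^ i * d2 ^ j)⁻¹ (e x) = x
      rw [ht1 x hx]
      exact MulAut.inv_apply_self _ _ x
    have h2' : fixS d2 ≤ fixS ((d1 ^ i * d2 ^ j)⁻¹ * e) := by
      intro x hx
      show (d1 ^ i * d2 ^ j)⁻¹ (e x) = x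
      rw [ht2 x hx]
      exact MulAut.inv_apply_self _ _ x
    have het : e = d1 ^ i * d2 ^ j := by
      by_cases he1 : (d1 ^ i * d2 ^ j)⁻¹ * e = 1
      · exact (inv_mul_eq_one.mp he1).symm
      · exfalso
        obtain ⟨x, hx, hne⟩ := hd2act
        obtain ⟨h8', _, _, _⟩ := hq8 _ he'E he1 ⟨d2, hd2E, x, h1' hx, hne⟩
        have e1 := Subgroup.eq_of_le_of_card_ge h1' (by rw [h8', h8_1])
        have e2 := Subgroup.eq_of_le_of_card_ge h2' (by rw [h8', h8_2])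
        exact hnle (le_of_eq (e2.trans e1.symm))
    refine ⟨i % 3, j % 3, Nat.mod_lt _ (by norm_num), Nat.mod_lt _ (by norm_num), ?_⟩
    rw [← pow_eq_pow_mod i hd1_3, ← pow_eq_pow_mod j hd2_3]
    exact het
  have hcardE : Nat.card E = 9 := by
    apply le_antisymm
    · have hex : ∀ e : E, ∃ ij : Fin 3 × Fin 3,
          (e : MulAut W) = d1 ^ (ij.1 : ℕ) * d2 ^ (ij.2 : ℕ) := by
        intro e
        obtain ⟨i, j, hi, hj, hij⟩ := hstep7 e.1 e.2
        exact ⟨(⟨i, hi⟩, ⟨j, hj⟩), hij⟩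
      choose f hf using hex
      have hinj : Function.Injective f := fun a b hab =>
        Subtype.ext (by rw [hf a, hf b, hab])
      have := Nat.card_le_card_of_injective f hinj
      simpa using this
    · have h1 : (3 : ℕ) ^ 2 ≤ Nat.card E := le_trans hcard0 (Subgroup.card_le_of_le hE0E)
      omega
  -- Step 8: the order of W
  obtain ⟨n, hn1, hn⟩ := Cfsg.Agent.S0095.result hES
  have hlow : 8 < Nat.card W := by
    by_contra hcon
    have hle : Nat.card W ≤ Nat.card (fixS d1) := by rw [h8_1]; omega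
    exact hd1ne ((fixS_eq_top_iff d1).mp (Subgroup.eq_top_of_le_card _ hle))
  obtain ⟨sq1, sq2, sq3, sq4, sq5⟩ := sq_lemmas d1 d2 hd12 hd1_3 hd2_3
  have hd3E : d1 * d2 ∈ E := E.mul_mem hd1E hd2E
  have hd4E : d1 * d2 ^ 2 ∈ E := E.mul_mem hd1E (E.pow_mem hd2E 2)
  have hd3ne : d1 * d2 ≠ 1 := by
    intro h
    apply hnle
    apply fixS_le_of_pow_eq 2
    -- d2 ^ 2 = d1
    have h1 : d1 = d2⁻¹ := eq_inv_of_mul_eq_one_left h
    have h2 : d2 ^ 2 * d2 = 1 := by rw [← pow_succ]; exact hd2_3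
    rw [h1]
    exact eq_inv_of_mul_eq_one_left h2
  have hd4ne : d1 * d2 ^ 2 ≠ 1 := by
    intro h
    apply hnle
    have h1 : d1 = (d2 ^ 2)⁻¹ := eq_inv_of_mul_eq_one_left h
    have h2 : d2 * d2 ^ 2 = 1 := by rw [← pow_succ']; exact hd2_3
    have h3 : d2 = (d2 ^ 2)⁻¹ := eq_inv_of_mul_eq_one_left h2
    rw [h1, ← h3]
  have hnorm : ∀ d ∈ E, (fixS d).Normal := by
    intro d hd
    refine ⟨fun x hx w => ?_⟩
    have hcomm : ⁅w, x⁆ ∈ fixS d := by
      apply fixAll_le_fixS hd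
      rw [← hZeq, ← hES.1.2.2, commutator_def]
      exact Subgroup.commutator_mem_commutator (Subgroup.mem_top w) (Subgroup.mem_top x)
    have : w * x * w⁻¹ = ⁅w, x⁆ * x := by rw [commutatorElement_def]; group
    rw [this]
    exact (fixS d).mul_mem hcomm hx
  have hle8 : ∀ d ∈ E, d ≠ 1 → Nat.card (fixS d) ≤ 8 := by
    intro d hd hd1
    by_cases ha : IsActive E d
    · rw [(hq8 d hd hd1 ha).1]
    · exact le_trans (Subgroup.card_le_of_le (hinact d ha)) (le_trans hFEcard (by norm_num))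
  have hZd : ∀ d ∈ E, Subgroup.center W ≤ fixS d := fun d hd =>
    hZeq ▸ fixAll_le_fixS hd
  have hgen : (⊤ : Subgroup W) ≤
      fixS d1 ⊔ fixS d2 ⊔ fixS (d1 * d2) ⊔ fixS (d1 * d2 ^ 2) := by
    refine gen_of_invariant 3 E0 hc0 hexp hcard0 ⊤ (hpW ⊤)
      (fun _ _ _ _ => Subgroup.mem_top _) _ ?_
    intro d hd hdne x _ hdx
    have m1 : fixS d1 ≤ fixS d1 ⊔ fixS d2 ⊔ fixS (d1 * d2) ⊔ fixS (d1 * d2 ^ 2) :=
      le_trans (le_trans le_sup_left le_sup_left) le_sup_left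
    have m2 : fixS d2 ≤ fixS d1 ⊔ fixS d2 ⊔ fixS (d1 * d2) ⊔ fixS (d1 * d2 ^ 2) :=
      le_trans (le_trans le_sup_right le_sup_left) le_sup_left
    have m3 : fixS (d1 * d2) ≤ fixS d1 ⊔ fixS d2 ⊔ fixS (d1 * d2) ⊔ fixS (d1 * d2 ^ 2) :=
      le_trans le_sup_right le_sup_left
    have m4 : fixS (d1 * d2 ^ 2) ≤
        fixS d1 ⊔ fixS d2 ⊔ fixS (d1 * d2) ⊔ fixS (d1 * d2 ^ 2) := le_sup_right
    obtain ⟨i, j, hi, hj, hij⟩ := hstep7 d (hE0E hd)
    have hdx' : x ∈ fixS d := hdx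
    interval_cases i <;> interval_cases j <;>
      try simp only [pow_zero, pow_one, one_mul, mul_one] at hij
    · exact absurd hij hdne
    · rw [hij] at hdx'; exact m2 hdx'
    · rw [hij] at hdx'; exact m2 (fixS_le_of_pow_eq 2 sq2 hdx')
    · rw [hij] at hdx'; exact m1 hdx'
    · rw [hij] at hdx'; exact m3 hdx'
    · rw [hij] at hdx'; exact m4 hdx'
    · rw [hij] at hdx'; exact m1 (fixS_le_of_pow_eq 2 sq1 hdx')
    · rw [hij] at hdx'; exact m4 (fixS_le_of_pow_eq 2 sq4 hdx')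
    · rw [hij] at hdx'; exact m3 (fixS_le_of_pow_eq 2 sq3 hdx')
  have hup : Nat.card W ≤ 512 := by
    have := hnorm d2 hd2E
    have := hnorm (d1 * d2) hd3E
    have := hnorm (d1 * d2 ^ 2) hd4E
    have b2 := two_mul_card_sup_le (fixS d1) (fixS d2) (Subgroup.center W) (hZd d1 hd1E)
      (hZd d2 hd2E) hZ2
    have b3 := two_mul_card_sup_le (fixS d1 ⊔ fixS d2) (fixS (d1 * d2)) (Subgroup.center W)
      (le_trans (hZd d1 hd1E) le_sup_left) (hZd _ hd3E) hZ2
    have b4 := two_mul_card_sup_le (fixS d1 ⊔ fixS d2 ⊔ fixS (d1 * d2)) (fixS (d1 * d2 ^ 2))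
      (Subgroup.center W)
      (le_trans (le_trans (hZd d1 hd1E) le_sup_left) le_sup_left) (hZd _ hd4E) hZ2
    have c3 := hle8 _ hd3E hd3ne
    have c4 := hle8 _ hd4E hd4ne
    rw [h8_1, h8_2] at b2
    have a2 : Nat.card ↥(fixS d1 ⊔ fixS d2) ≤ 32 := by omega
    have b3' := le_trans b3 (Nat.mul_le_mul a2 c3)
    have a3 : Nat.card ↥(fixS d1 ⊔ fixS d2 ⊔ fixS (d1 * d2)) ≤ 128 := by omega
    have b4' := le_trans b4 (Nat.mul_le_mul a3 c4)
    have a4 : Nat.card ↥(fixS d1 ⊔ fixS d2 ⊔ fixS (d1 * d2) ⊔ fixS (d1 * d2 ^ 2)) ≤ 512 := by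
      omega
    have := Subgroup.card_le_of_le hgen
    rw [Subgroup.card_top] at this
    exact le_trans this a4
  have hn' : n = 2 ∨ n = 3 ∨ n = 4 := by
    have h1 : 2 * n + 1 ≤ 9 := by
      apply (Nat.pow_le_pow_iff_right (by norm_num : 1 < 2)).mp
      rw [← hn]; exact hup
    have h2 : 3 < 2 * n + 1 := by
      apply (Nat.pow_lt_pow_iff_right (by norm_num : 1 < 2)).mp
      rw [← hn]; exact hlow
    omega
  refine ⟨hcardE, hES, ?_, hconc4⟩
  rcases hn' with rfl | rfl | rfl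
  · left; exact hn
  · right; left; exact hn
  · right; right; exact hn

end Cfsg.Agent.Lib.Helper62.AutQ8
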