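import Mathlib
import Cfsg.Agent.Lib.Helper17.BT.Defs
import Cfsg.Agent.Lib.Helper64.BrauerNNV
import Cfsg.Agent.Lib.Helper78.InvolKernel

/-!
# S0998 (Brauer–Tuan), modules [BT-COUNT] and [BT-TENSOR-A] (helper62)

Statements verbatim from helper17's `Lib/Helper17/BT/SPINE.md`.
* `bt_count`: `∑_{x ∈ P ∖ 1} Φ(x)` in terms of the multiplicities of a character `Φ`;
* `bt_exists_degree_succ`: `ε = 1`, `t = 2`: `θ θ̄` has a constituent `χ ∈ X` with `a χ = 1` of
  degree `p + 1`.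
-/

set_option autoImplicit false
set_option linter.unusedSectionVars false
open Cfsg
open scoped ComplexConjugate

namespace Cfsg.Agent.Lib.Helper62.BT

open Cfsg.Agent.Lib.Helper17.BT
open Cfsg.Agent.Lib
open Cfsg.Agent.Lib.Helper64.BrauerN (finsum_mem_subgroup ne_one_of_mem_erase)

variable {G : Type*} [Group G] [Finite G] {p : ℕ} [Fact p.Prime] {M : Ideal Cfsg.AlgInt}
  {P : Sylow p G} {e t : ℕ} {ε : ℤ} {a : IrrCharacter G → ℤ} {X Y : Finset (IrrCharacter G)}

theorem bt_card_erase_one [DecidableEq G] (D : BTData p M P e t ε a X Y)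
    [Fintype (P : Subgroup G)] :
    ((Finset.univ : Finset (P : Subgroup G)).erase 1).card = p - 1 := by
  rw [Finset.card_erase_of_mem (Finset.mem_univ _), Finset.card_univ, ← Nat.card_eq_fintype_card,
    D.hPcard]

theorem bt_e_le_p (D : BTData p M P e t ε a X Y) : e ≤ p := by
  have h1 := D.hpet
  have h2 := D.ht
  nlinarith

/-- the sum of `ζ` over `P ∖ 1`. -/
theorem bt_sum_erase_irr [DecidableEq G] [DecidableEq (IrrCharacter G)]
    (D : BTData p M P e t ε a X Y) [Fintype (P : Subgroup G)]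
    (hvan : ∀ ζ : IrrCharacter G, ζ ∉ X → ζ ∉ Y → ∀ x : G, x ∈ (P : Subgroup G) → x ≠ 1 →
      (ζ : G → ℂ) x = 0)
    (hsumP : ∀ θ ∈ Y, ∑ᶠ x ∈ ((P : Subgroup G) : Set G), (θ : G → ℂ) x =
      if ε = 1 then 0 else (p : ℂ))
    (ζ : IrrCharacter G) :
    ∑ x ∈ (Finset.univ : Finset (P : Subgroup G)).erase 1, (ζ : G → ℂ) x =
      (if ζ ∈ X then ((p : ℂ) - 1) * (a ζ : ℂ) else 0) +
        (if ζ ∈ Y then -((ε : ℂ) * (e : ℂ)) else 0) := by
  have hp : 1 ≤ p := (Fact.out : p.Prime).one_lt.le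
  by_cases hX : ζ ∈ X
  · have hY : ζ ∉ Y := fun h => (Finset.disjoint_left.1 D.hdisj) hX h
    rw [if_pos hX, if_neg hY, add_zero]
    have h1 : ∀ x ∈ (Finset.univ : Finset (P : Subgroup G)).erase 1,
        (ζ : G → ℂ) x = (a ζ : ℂ) := fun x hx => D.hXval ζ hX x x.2 (ne_one_of_mem_erase hx)
    rw [Finset.sum_congr rfl h1, Finset.sum_const, bt_card_erase_one D, nsmul_eq_mul]
    push_cast [hp]
    ring
  · by_cases hY : ζ ∈ Y
    · rw [if_neg hX, if_pos hY, zero_add, Finset.sum_erase_eq_sub (Finset.mem_univ _)]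
      have h1 := hsumP ζ hY
      rw [finsum_mem_subgroup] at h1
      rw [h1]
      have h2 : (ζ : G → ℂ) ((1 : (P : Subgroup G)) : G) =
          if ε = 1 then (e : ℂ) else ((p - e : ℕ) : ℂ) := D.hdegY ζ hY
      rw [h2]
      have hep := bt_e_le_p D
      rcases D.hε with h | h
      · rw [if_pos h, if_pos h, h]
        push_cast
        ring
      · have hne : ¬ ε = 1 := by rw [h]; norm_num
        rw [if_neg hne, if_neg hne, h]
        push_cast [hep]
        ring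
    · rw [if_neg hX, if_neg hY, add_zero]
      apply Finset.sum_eq_zero
      intro x hx
      exact hvan ζ hX hY x x.2 (ne_one_of_mem_erase hx)

/-- **[BT-COUNT]** -/
theorem bt_count [Fintype G] (D : BTData p M P e t ε a X Y)
    (hvan : ∀ ζ : IrrCharacter G, ζ ∉ X → ζ ∉ Y → ∀ x : G, x ∈ (P : Subgroup G) → x ≠ 1 →
      (ζ : G → ℂ) x = 0)
    (hsumP : ∀ θ ∈ Y, ∑ᶠ x ∈ ((P : Subgroup G) : Set G), (θ : G → ℂ) x =
      if ε = 1 then 0 else (p : ℂ))
    {Φ : G → ℂ} (hΦ : IsCharacter G Φ) :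
    ∑ᶠ x ∈ ((P : Subgroup G) : Set G), Φ x - Φ 1 =
      ((p : ℂ) - 1) * ∑ χ ∈ X, (a χ : ℂ) * classInner Φ (χ : G → ℂ) -
        (ε : ℂ) * (e : ℂ) * ∑ θ ∈ Y, classInner Φ (θ : G → ℂ) := by
  classical
  have : Fintype (P : Subgroup G) := Fintype.ofFinite _
  obtain ⟨m, hm⟩ := (Helper78.isCharacter_iff_exists_nat_combination Φ).1 hΦ
  have hpt : ∀ g : G, Φ g = ∑ ζ : IrrCharacter G, (m ζ : ℂ) * (ζ : G → ℂ) g := by
    intro g
    have h := congrFun hm g
    simpa [Finset.sum_apply] using h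
  have hinner : ∀ ζ : IrrCharacter G, classInner Φ (ζ : G → ℂ) = (m ζ : ℂ) := by
    intro ζ
    have h1 := Helper78.classInner_nat_combination (fun ζ => (m ζ : ℂ)) ζ
    rw [← hm] at h1
    exact h1
  rw [finsum_mem_subgroup]
  have h0 : ∑ x : (P : Subgroup G), Φ x - Φ 1 =
      ∑ x ∈ (Finset.univ : Finset (P : Subgroup G)).erase 1, Φ x := by
    rw [Finset.sum_erase_eq_sub (Finset.mem_univ _)]
    simp
  have h0' : ∀ x ∈ (Finset.univ : Finset (P : Subgroup G)).erase 1,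
      Φ (x : G) = ∑ ζ : IrrCharacter G, (m ζ : ℂ) * (ζ : G → ℂ) (x : G) := fun x _ => hpt x
  rw [h0, Finset.sum_congr rfl h0', Finset.sum_comm]
  have h2 : ∀ ζ : IrrCharacter G,
      ∑ x ∈ (Finset.univ : Finset (P : Subgroup G)).erase 1, (m ζ : ℂ) * (ζ : G → ℂ) x =
      (if ζ ∈ X then ((p : ℂ) - 1) * ((a ζ : ℂ) * (m ζ : ℂ)) else 0) +
        (if ζ ∈ Y then -((ε : ℂ) * (e : ℂ) * (m ζ : ℂ)) else 0) := by
    intro ζ
    rw [← Finset.mul_sum, bt_sum_erase_irr D hvan hsumP ζ]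
    split_ifs <;> ring
  rw [Finset.sum_congr rfl (fun ζ _ => h2 ζ), Finset.sum_add_distrib, Finset.sum_ite_mem,
    Finset.sum_ite_mem, Finset.univ_inter, Finset.univ_inter, ← Finset.mul_sum,
    Finset.sum_neg_distrib, ← Finset.mul_sum]
  simp only [hinner]
  ring

/-- **[BT-TENSOR-A]** -/
theorem bt_exists_degree_succ (D : BTData p M P e t ε a X Y) (hε : ε = 1) (ht : t = 2)
    (h7 : 7 ≤ p)
    (hlin : ∀ χ ∈ X, (χ : G → ℂ) 1 = 1 → (χ : G → ℂ) = fun _ => 1)
    (hvan : ∀ ζ : IrrCharacter G, ζ ∉ X → ζ ∉ Y → ∀ x : G, x ∈ (P : Subgroup G) → x ≠ 1 →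
      (ζ : G → ℂ) x = 0)
    (hsumP : ∀ θ ∈ Y, ∑ᶠ x ∈ ((P : Subgroup G) : Set G), (θ : G → ℂ) x =
      if ε = 1 then 0 else (p : ℂ))
    (hnormP : ∀ θ ∈ Y, ∑ᶠ x ∈ ((P : Subgroup G) : Set G),
      (θ : G → ℂ) x * conj ((θ : G → ℂ) x) = (p : ℂ) * (θ : G → ℂ) 1) :
    ∃ χ ∈ X, a χ = 1 ∧ (χ : G → ℂ) 1 = ((p + 1 : ℕ) : ℂ) := by
  classical
  have : Fintype G := Fintype.ofFinite G
  have : Fintype (P : Subgroup G) := Fintype.ofFinite _
  have hpe : p = 2 * e + 1 := by
    have := D.hpet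
    rw [ht] at this
    omega
  have he := D.he
  by_contra hcon
  push Not at hcon
  -- pick θ
  have hYne : Y.Nonempty := by
    rw [← Finset.card_pos, D.hYcard]
    omega
  obtain ⟨θ, hθ⟩ := hYne
  have hθc : IsCharacter G (θ : G → ℂ) := Helper78.IsIrrCharacter.isCharacter θ.2
  have hΦ : IsCharacter G ((θ : G → ℂ) * fun g => conj ((θ : G → ℂ) g)) :=
    Helper80.isCharacter_mul hθc (Helper80.isCharacter_conj hθc)
  obtain ⟨m, hm⟩ := (Helper78.isCharacter_iff_exists_nat_combination _).1 hΦ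
  have hpt : ∀ g : G, (θ : G → ℂ) g * conj ((θ : G → ℂ) g) =
      ∑ ζ : IrrCharacter G, (m ζ : ℂ) * (ζ : G → ℂ) g := by
    intro g
    have h := congrFun hm g
    simpa [Finset.sum_apply] using h
  have hinner : ∀ ζ : IrrCharacter G,
      classInner ((θ : G → ℂ) * fun g => conj ((θ : G → ℂ) g)) (ζ : G → ℂ) = (m ζ : ℂ) := by
    intro ζ
    have h1 := Helper78.classInner_nat_combination (fun ζ => (m ζ : ℂ)) ζ
    rw [← hm] at h1
    exact h1
  -- the trivial character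
  obtain ⟨χ₁, hχ₁X, hχ₁⟩ := D.htriv
  have hm1 : m χ₁ = 1 := by
    have h1 := hinner χ₁
    have h2 : classInner ((θ : G → ℂ) * fun g => conj ((θ : G → ℂ) g)) (χ₁ : G → ℂ) =
        classInner (θ : G → ℂ) (θ : G → ℂ) := by
      unfold classInner
      congr 1
      apply Finset.sum_congr rfl
      intro g _
      rw [hχ₁]
      simp
    rw [h2, Helper78.classInner_irr_self θ.2] at h1
    exact_mod_cast h1.symm
  have hne : ((Finset.univ : Finset (P : Subgroup G)).erase 1).Nonempty := by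
    rw [← Finset.card_pos, bt_card_erase_one D]
    omega
  obtain ⟨x₀, hx₀⟩ := hne
  have ha1 : a χ₁ = 1 := by
    have h1 : ((a χ₁ : ℤ) : ℂ) = 1 := by
      rw [← D.hXval χ₁ hχ₁X x₀ x₀.2 (ne_one_of_mem_erase hx₀), hχ₁]
    exact_mod_cast h1
  set A : ℕ := ∑ χ ∈ X.erase χ₁, (if a χ = 1 then m χ else 0) with hA
  have hθ1 : (θ : G → ℂ) 1 = (e : ℂ) := by
    rw [D.hdegY θ hθ, if_pos hε]
  have h2 : ∀ ζ : IrrCharacter G, (ζ : G → ℂ) 1 = (charDegree (ζ : G → ℂ) : ℂ) :=
    fun ζ => Helper78.IsCharacter.apply_one_eq_charDegree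
      (Helper78.IsIrrCharacter.isCharacter ζ.2)
  -- (A): degrees
  have hdegA : 1 + (2 * p + 1) * A ≤ e * e := by
    have h1 := hpt 1
    rw [hθ1, Complex.conj_natCast] at h1
    have h3 : e * e = ∑ ζ : IrrCharacter G, m ζ * charDegree (ζ : G → ℂ) := by
      have : ((e * e : ℕ) : ℂ) =
          ((∑ ζ : IrrCharacter G, m ζ * charDegree (ζ : G → ℂ) : ℕ) : ℂ) := by
        push_cast
        rw [h1]
        apply Finset.sum_congr rfl
        intro ζ _
        rw [h2 ζ]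
      exact_mod_cast this
    have h4 : ∑ ζ ∈ X, m ζ * charDegree (ζ : G → ℂ) ≤
        ∑ ζ : IrrCharacter G, m ζ * charDegree (ζ : G → ℂ) :=
      Finset.sum_le_sum_of_subset (Finset.subset_univ X)
    rw [← Finset.add_sum_erase X _ hχ₁X] at h4
    have h5 : charDegree (χ₁ : G → ℂ) = 1 := by
      have : (charDegree (χ₁ : G → ℂ) : ℂ) = 1 := by
        rw [← h2 χ₁, hχ₁]
      exact_mod_cast this
    have h6 : (2 * p + 1) * A ≤ ∑ ζ ∈ X.erase χ₁, m ζ * charDegree (ζ : G → ℂ) := by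
      rw [hA, Finset.mul_sum]
      apply Finset.sum_le_sum
      intro χ hχ
      by_cases hax : a χ = 1
      · rw [if_pos hax]
        have hχX := (Finset.mem_erase.1 hχ).2
        have hχc : IsCharacter G (χ : G → ℂ) := Helper78.IsIrrCharacter.isCharacter χ.2
        have hdvd := Helper78.card_dvd_degree_sub_of_const hχc (P : Subgroup G) 1
          (fun k hk hk1 => by rw [D.hXval χ hχX k hk hk1, hax])
        rw [D.hPcard] at hdvd
        obtain ⟨k, hk⟩ := hdvd
        have hpos : 0 < charDegree (χ : G → ℂ) := Helper80.charDegree_pos_of_isIrr χ.2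
        have hne1 : charDegree (χ : G → ℂ) ≠ 1 := by
          intro h
          apply (Finset.mem_erase.1 hχ).1
          apply Subtype.ext
          rw [hχ₁]
          apply hlin χ hχX
          rw [h2 χ, h]
          simp
        have hnep : charDegree (χ : G → ℂ) ≠ p + 1 := by
          intro h
          apply hcon χ hχX hax
          rw [h2 χ, h]
        have hp0 : (0 : ℤ) < p := by
          have := (Fact.out : p.Prime).pos
          exact_mod_cast this
        have hk2 : 2 ≤ k := by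
          by_contra hk2
          push Not at hk2
          have hk0 : 0 ≤ k := by
            by_contra hk0
            push Not at hk0
            have : (p : ℤ) * k < 0 := mul_neg_of_pos_of_neg hp0 hk0
            have : (0 : ℤ) < charDegree (χ : G → ℂ) := by exact_mod_cast hpos
            omega
          interval_cases k
          · apply hne1
            have : (charDegree (χ : G → ℂ) : ℤ) = 1 := by omega
            exact_mod_cast this
          · apply hnep
            have : (charDegree (χ : G → ℂ) : ℤ) = p + 1 := by omega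
            exact_mod_cast this
        have h8 : 2 * p + 1 ≤ charDegree (χ : G → ℂ) := by
          have : (2 * (p : ℤ) + 1) ≤ charDegree (χ : G → ℂ) := by nlinarith
          exact_mod_cast this
        calc (2 * p + 1) * m χ = m χ * (2 * p + 1) := by ring
          _ ≤ m χ * charDegree (χ : G → ℂ) := Nat.mul_le_mul_left _ h8
      · rw [if_neg hax, mul_zero]
        exact Nat.zero_le _
    rw [hm1, h5] at h4
    rw [h3]
    omega
  -- (B): count on `P ∖ 1`
  have hcount := bt_count D hvan hsumP hΦ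
  have hL : ∑ᶠ x ∈ ((P : Subgroup G) : Set G),
      ((θ : G → ℂ) * fun g => conj ((θ : G → ℂ) g)) x = (p : ℂ) * (e : ℂ) := by
    have := hnormP θ hθ
    rw [hθ1] at this
    exact this
  have hΦ1 : ((θ : G → ℂ) * fun g => conj ((θ : G → ℂ) g)) 1 = (e : ℂ) * (e : ℂ) := by
    show (θ : G → ℂ) 1 * conj ((θ : G → ℂ) 1) = _
    rw [hθ1, Complex.conj_natCast]
  rw [hL, hΦ1, hε] at hcount
  simp only [hinner] at hcount
  have h4 : ((p : ℤ) * e - e * e : ℤ) =
      ((p : ℤ) - 1) * ∑ χ ∈ X, a χ * (m χ : ℤ) - (e : ℤ) * ∑ θ' ∈ Y, (m θ' : ℤ) := by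
    have : (((p : ℤ) * e - e * e : ℤ) : ℂ) =
        ((((p : ℤ) - 1) * ∑ χ ∈ X, a χ * (m χ : ℤ) - (e : ℤ) * ∑ θ' ∈ Y, (m θ' : ℤ) : ℤ) : ℂ) := by
      push_cast
      rw [hcount]
      push_cast
      ring
    exact_mod_cast this
  have h5 : ∑ χ ∈ X, a χ * (m χ : ℤ) ≤ 1 + (A : ℤ) := by
    rw [← Finset.add_sum_erase X _ hχ₁X, hm1, ha1, hA]
    push_cast
    have : ∑ χ ∈ X.erase χ₁, a χ * (m χ : ℤ) ≤
        ∑ χ ∈ X.erase χ₁, ((if a χ = 1 then (m χ : ℤ) else 0)) := by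
      apply Finset.sum_le_sum
      intro χ hχ
      rcases D.haX χ (Finset.mem_erase.1 hχ).2 with h | h
      · rw [if_pos h, h, one_mul]
      · rw [if_neg (by rw [h]; norm_num), h]
        have : (0 : ℤ) ≤ m χ := Int.natCast_nonneg _
        linarith
    linarith
  have h7 : (0 : ℤ) ≤ ∑ θ' ∈ Y, (m θ' : ℤ) :=
    Finset.sum_nonneg (fun _ _ => Int.natCast_nonneg _)
  -- arithmetic
  have hpz : (p : ℤ) = 2 * e + 1 := by exact_mod_cast hpe
  have hez : (2 : ℤ) ≤ e := by exact_mod_cast he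
  have hdegz : (1 : ℤ) + (2 * p + 1) * A ≤ e * e := by exact_mod_cast hdegA
  rw [hpz] at h4 hdegz
  set S : ℤ := ∑ χ ∈ X, a χ * (m χ : ℤ) with hS
  set mY : ℤ := ∑ θ' ∈ Y, (m θ' : ℤ) with hmY
  have hAz : (0 : ℤ) ≤ A := Int.natCast_nonneg _
  -- e * (e + 1) = 2 e S - e mY  ⇒  e + 1 = 2 S - mY
  have h8 : (e : ℤ) * ((e : ℤ) + 1 - (2 * S - mY)) = 0 := by linarith
  have h9 : (e : ℤ) + 1 - (2 * S - mY) = 0 := by
    rcases mul_eq_zero.1 h8 with h | h
    · omega
    · exact h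
  have h10 : (e : ℤ) - 1 ≤ 2 * A := by linarith
  nlinarith

end Cfsg.Agent.Lib.Helper62.BT
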