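import Mathlib
import Cfsg.Agent.S4730
import Cfsg.Agent.Lib.Helper16.BlockBasic
import Cfsg.Agent.Lib.Helper78.CharMore

/-!
# S0998 (Brauer–Tuan), module [BT-TOOL2] (helper62)

`not_mem_principalBlock_of_prime_pow_degree`: statement verbatim from helper17's
`Lib/Helper17/BT/SPINE.md`.  From the landed S4730: the block of a faithful irreducible character
of `q`-power degree of a group with trivial centre has defect `≤ A - B` (`|Q| = q^A`,
`|Z(Q)| = q^B`, `B ≥ 1`), while the principal block has defect `A`.
-/

set_option autoImplicit false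
open Cfsg

namespace Cfsg.Agent.Lib.Helper62.BT

open Cfsg.Agent.Lib.Helper16

/-- the principal block has full defect -/
theorem blockDefect_principalBlock {G : Type*} [Group G] [Finite G] (q : ℕ)
    (Mq : Ideal Cfsg.AlgInt) (hne : Mq ≠ ⊤) :
    blockDefect q (principalBlock Mq G) = (Nat.card G).factorization q := by
  unfold blockDefect
  have h0 : (0 : ℕ) ∈ (fun χ : IrrCharacter G => (charDegree (χ : G → ℂ)).factorization q) ''
      (principalBlock Mq G) := by
    refine ⟨⟨fun _ => 1, Cfsg.Agent.Lib.Helper78.isIrrCharacter_one⟩, ?_, ?_⟩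
    · exact sameBlock_refl hne _
    · have : charDegree (fun _ : G => (1 : ℂ)) = 1 := by
        unfold charDegree
        simp
      show (charDegree (fun _ : G => (1 : ℂ))).factorization q = 0
      rw [this]
      simp
  have h1 : sInf ((fun χ : IrrCharacter G => (charDegree (χ : G → ℂ)).factorization q) ''
      (principalBlock Mq G)) = 0 := Nat.eq_zero_of_le_zero (Nat.sInf_le h0)
  rw [h1, Nat.sub_zero]

/-- **[BT-TOOL2]** -/
theorem not_mem_principalBlock_of_prime_pow_degree {G : Type*} [Group G] [Finite G] (q : ℕ)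
    [Fact q.Prime] (Mq : Ideal Cfsg.AlgInt) (hMq : IsPModular q Mq)
    (hZ : Subgroup.center G = ⊥) (hq : q ∣ Nat.card G) (χ : IrrCharacter G)
    (hfaith : ∀ g : G, (χ : G → ℂ) g = (χ : G → ℂ) 1 → g = 1) (n : ℕ)
    (hdeg : charDegree (χ : G → ℂ) = q ^ n) : χ ∉ principalBlock Mq G := by
  intro hmem
  have hqp : q.Prime := Fact.out
  haveI hprime : Mq.IsPrime := isPModular_isPrime hMq
  have hne : Mq ≠ ⊤ := hprime.ne_top
  obtain ⟨Q⟩ : Nonempty (Sylow q G) := inferInstance
  set A := (Nat.card G).factorization q with hA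
  have hQcard : Nat.card (Q : Subgroup G) = q ^ A := Sylow.card_eq_multiplicity Q
  have hA1 : 1 ≤ A := by
    have hpos : 0 < Nat.card G := Nat.card_pos
    exact (hqp.dvd_iff_one_le_factorization hpos.ne').1 hq
  -- the centre of `Q`
  have hQp : IsPGroup q (Q : Subgroup G) := Q.isPGroup'
  haveI : Nontrivial (Q : Subgroup G) := by
    rw [← Finite.one_lt_card_iff_nontrivial, hQcard]
    exact Nat.one_lt_pow (by omega) hqp.one_lt
  haveI := hQp.center_nontrivial
  have hZp : IsPGroup q (Subgroup.center (Q : Subgroup G)) := hQp.to_subgroup _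
  obtain ⟨B, hB⟩ := hZp.exists_card_eq
  have hB1 : 1 ≤ B := by
    by_contra h
    have hB0 : B = 0 := by omega
    rw [hB0, pow_zero] at hB
    have := Finite.one_lt_card_iff_nontrivial.2
      (inferInstance : Nontrivial (Subgroup.center (Q : Subgroup G)))
    omega
  have h1 := (Cfsg.Agent.S4730.result q Mq hMq hZ Q A B hQcard hB χ hfaith n hdeg).1
  have h2 : blockOf Mq (χ : G → ℂ) = principalBlock Mq G := blockOf_eq_of_mem hmem
  rw [h2, blockDefect_principalBlock q Mq hne] at h1
  omega

end Cfsg.Agent.Lib.Helper62.BT
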