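/-
helper62: the Baer trick. A group `H` of class at most two whose commutators have odd order
dividing `2k+1` becomes an abelian group under `x + y = x * y * ⁅x, y⁆ ^ k`; automorphisms of `H`
act additively. Application: a fixed point lemma for a `p`-group of automorphisms normalizing a
`p'`-group of automorphisms (the "special group" step of Thompson's `P × Q` lemma for odd `p`).
-/
import Mathlib

set_option autoImplicit false
set_option linter.style.haveILetI false

namespace Cfsg.Agent.Lib.Helper62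

open scoped commutatorElement

/-- Hypotheses of the Baer trick: class at most two, commutators of order dividing `2k+1`. -/
structure BaerHyp (H : Type*) [Group H] (k : ℕ) : Prop where
  cl : ∀ x y : H, ⁅x, y⁆ ∈ Subgroup.center H
  exp : ∀ x y : H, ⁅x, y⁆ ^ (2 * k + 1) = 1

section Comm

variable {H : Type*} [Group H]

lemma central_comm {c : H} (hc : c ∈ Subgroup.center H) (g : H) : g * c = c * g :=
  (Subgroup.mem_center_iff.mp hc g)

lemma comm_mul_left_of_class_two (hcl : ∀ x y : H, ⁅x, y⁆ ∈ Subgroup.center H) (x y z : H) :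
    ⁅x * y, z⁆ = ⁅x, z⁆ * ⁅y, z⁆ := by
  have h1 : ⁅x * y, z⁆ = x * ⁅y, z⁆ * x⁻¹ * ⁅x, z⁆ := by
    simp only [commutatorElement_def]; group
  rw [h1, central_comm (hcl y z) x, mul_inv_cancel_right, central_comm (hcl x z)]

lemma comm_mul_right_of_class_two (hcl : ∀ x y : H, ⁅x, y⁆ ∈ Subgroup.center H) (x y z : H) :
    ⁅x, y * z⁆ = ⁅x, y⁆ * ⁅x, z⁆ := by
  have h1 : ⁅x, y * z⁆ = ⁅x, y⁆ * (y * ⁅x, z⁆ * y⁻¹) := by
    simp only [commutatorElement_def]; group
  rw [h1, central_comm (hcl x z) y, mul_inv_cancel_right]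

lemma comm_central_left {c : H} (hc : c ∈ Subgroup.center H) (x : H) : ⁅c, x⁆ = 1 := by
  rw [commutatorElement_eq_one_iff_mul_comm]
  exact (central_comm hc x).symm

lemma comm_central_right {c : H} (hc : c ∈ Subgroup.center H) (x : H) : ⁅x, c⁆ = 1 := by
  rw [commutatorElement_eq_one_iff_mul_comm]
  exact central_comm hc x

end Comm

/-- The Baer group of `H`: the same set with addition `x + y = x * y * ⁅x, y⁆ ^ k`. -/
def Baer {H : Type*} [Group H] {k : ℕ} (_h : BaerHyp H k) : Type _ := H

namespace Baer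

variable {H : Type*} [Group H] {k : ℕ} (h : BaerHyp H k)

/-- The identity map `H → Baer h`. -/
def of : H ≃ Baer h := Equiv.refl H

/-- Baer addition on the underlying set. -/
def badd (k : ℕ) (x y : H) : H := x * y * ⁅x, y⁆ ^ k

include h in
lemma badd_assoc (x y z : H) : badd k (badd k x y) z = badd k x (badd k y z) := by
  unfold badd
  have ha := Subgroup.pow_mem _ (h.cl x y) k
  have hb := Subgroup.pow_mem _ (h.cl x z) k
  have hc := Subgroup.pow_mem _ (h.cl y z) k
  have e1 : ⁅x * y * ⁅x, y⁆ ^ k, z⁆ = ⁅x, z⁆ * ⁅y, z⁆ := by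
    rw [comm_mul_left_of_class_two h.cl, comm_mul_left_of_class_two h.cl,
      comm_central_left ha, mul_one]
  have e2 : ⁅x, y * z * ⁅y, z⁆ ^ k⁆ = ⁅x, y⁆ * ⁅x, z⁆ := by
    rw [comm_mul_right_of_class_two h.cl, comm_mul_right_of_class_two h.cl,
      comm_central_right hc, mul_one]
  have c1 : Commute ⁅x, z⁆ ⁅y, z⁆ := central_comm (h.cl y z) _
  have c2 : Commute ⁅x, y⁆ ⁅x, z⁆ := central_comm (h.cl x z) _
  rw [e1, e2, c1.mul_pow, c2.mul_pow]
  -- x*y*a^k*z*(b^k*c^k) = x*(y*z*c^k)*(a^k*b^k)
  have s1 : x * y * ⁅x, y⁆ ^ k * z = x * y * z * ⁅x, y⁆ ^ k := by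
    rw [mul_assoc (x * y), ← central_comm ha z, ← mul_assoc]
  rw [s1]
  have s2 : x * (y * z * ⁅y, z⁆ ^ k) = x * y * z * ⁅y, z⁆ ^ k := by simp only [mul_assoc]
  rw [s2]
  simp only [mul_assoc]
  congr 3
  -- a^k * (b^k * c^k) = c^k * (a^k * b^k)
  rw [← mul_assoc, central_comm hc]

include h in
lemma badd_comm (x y : H) : badd k x y = badd k y x := by
  unfold badd
  have hxy : y * x = ⁅x, y⁆⁻¹ * (x * y) := by
    simp only [commutatorElement_def]; group
  have hinv : ⁅y, x⁆ = ⁅x, y⁆⁻¹ := (commutatorElement_inv x y).symm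
  have hai := Subgroup.inv_mem _ (h.cl x y)
  have he := h.exp x y
  have hk : ⁅x, y⁆ ^ k = ⁅x, y⁆⁻¹ * (⁅x, y⁆ ^ k)⁻¹ := by
    rw [← mul_inv_rev]
    apply eq_inv_of_mul_eq_one_left
    rw [← pow_succ, ← pow_add, show k + (k + 1) = 2 * k + 1 by ring, he]
  rw [hxy, hinv, inv_pow, ← central_comm hai (x * y), mul_assoc (x * y)]
  congr 1

lemma badd_one_left (x : H) : badd k 1 x = x := by simp [badd]

lemma badd_inv_left (x : H) : badd k x⁻¹ x = 1 := by
  have : ⁅x⁻¹, x⁆ = 1 := by simp [commutatorElement_def]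
  simp [badd, this]

instance instAdd : Add (Baer h) := ⟨fun x y => of h (badd k ((of h).symm x) ((of h).symm y))⟩
instance instZero : Zero (Baer h) := ⟨of h 1⟩
instance instNeg : Neg (Baer h) := ⟨fun x => of h ((of h).symm x)⁻¹⟩

instance instAddCommGroup : AddCommGroup (Baer h) :=
  { AddGroup.ofLeftAxioms (G := Baer h)
      (fun x y z => badd_assoc (H := H) h ((of h).symm x) ((of h).symm y) ((of h).symm z))
      (fun x => badd_one_left (H := H) (k := k) ((of h).symm x))
      (fun x => badd_inv_left (H := H) (k := k) ((of h).symm x)) with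
    add_comm := fun x y => badd_comm (H := H) h ((of h).symm x) ((of h).symm y) }

lemma add_def (x y : H) : of h x + of h y = of h (x * y * ⁅x, y⁆ ^ k) := rfl

lemma zero_def : (0 : Baer h) = of h 1 := rfl

lemma neg_def (x : H) : -of h x = of h x⁻¹ := rfl

lemma of_symm_of (x : H) : (of h).symm (of h x) = x := rfl

lemma of_of_symm (a : Baer h) : of h ((of h).symm a) = a := rfl

lemma add_of_central {c : H} (hc : c ∈ Subgroup.center H) (x : H) :
    of h x + of h c = of h (x * c) := by
  rw [add_def, comm_central_right hc, one_pow, mul_one]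

lemma nsmul_of (n : ℕ) (x : H) : n • of h x = of h (x ^ n) := by
  induction n with
  | zero => rw [zero_nsmul, pow_zero]; rfl
  | succ n ih =>
    rw [succ_nsmul, ih, add_def, pow_succ]
    have : ⁅x ^ n, x⁆ = 1 := by
      rw [commutatorElement_eq_one_iff_mul_comm]
      exact ((Commute.refl x).pow_left n).eq
    rw [this, one_pow, mul_one]

/-- Automorphisms of `H` act additively on the Baer group. -/
def autAdd (φ : H ≃* H) : Baer h →+ Baer h where
  toFun a := of h (φ ((of h).symm a))
  map_zero' := by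
    show of h (φ 1) = of h 1
    rw [map_one]
  map_add' a b := by
    have key : ∀ x y : H, φ (badd k x y) = badd k (φ x) (φ y) := by
      intro x y
      unfold badd
      rw [map_mul, map_mul, map_pow, map_commutatorElement]
    exact congrArg (of h) (key _ _)

lemma autAdd_of (φ : H ≃* H) (x : H) : autAdd h φ (of h x) = of h (φ x) := rfl

lemma autAdd_mul (φ ψ : MulAut H) (a : Baer h) :
    autAdd h (φ * ψ) a = autAdd h φ (autAdd h ψ a) := rfl

end Baer

/-- **Fixed points via the Baer trick.** Let `H` be a finite group of class at most two and odd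
prime exponent `p`, `P` and `Q` groups of automorphisms with `P` normalizing `Q`, `Q` of order prime
to `p`, centralizing `Z(H)` and with all its fixed points in `Z(H)`. If `x ∉ Z(H)` is fixed by `P`
modulo `Z(H)`, then `P` has a fixed point outside `Z(H)`. -/
theorem exists_fixed_of_baer {H : Type*} [Group H] [Finite H] {p : ℕ} [Fact p.Prime] (hp2 : p ≠ 2)
    (hcl : ∀ x y : H, ⁅x, y⁆ ∈ Subgroup.center H) (hexp : ∀ x : H, x ^ p = 1)
    (P Q : Subgroup (MulAut H)) (hnorm : ∀ u ∈ P, ∀ q ∈ Q, u * q * u⁻¹ ∈ Q)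
    (hcop : (Nat.card Q).Coprime p) (hZ : ∀ q ∈ Q, ∀ z ∈ Subgroup.center H, q z = z)
    (hfix : ∀ y : H, (∀ q ∈ Q, q y = y) → y ∈ Subgroup.center H)
    (x : H) (hx : ∀ u ∈ P, u x * x⁻¹ ∈ Subgroup.center H) (hxZ : x ∉ Subgroup.center H) :
    ∃ w : H, w ∉ Subgroup.center H ∧ ∀ u ∈ P, u w = w := by
  classical
  have hp : p.Prime := Fact.out
  obtain ⟨k, hk⟩ : ∃ k, p = 2 * k + 1 := by
    rcases hp.eq_two_or_odd' with h | ⟨k, hk⟩
    · exact absurd h hp2
    · exact ⟨k, hk⟩
  have hB : BaerHyp H k := ⟨hcl, fun x y => by rw [← hk]; exact hexp _⟩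
  letI : Fintype Q := Fintype.ofFinite Q
  set n := Fintype.card Q with hn
  have hncop : n.Coprime p := by rwa [hn, ← Nat.card_eq_fintype_card]
  set T : Baer hB := ∑ q : Q, Baer.autAdd hB (q : MulAut H) (Baer.of hB x) with hT
  -- `T` is fixed by `Q`
  have hTQ : ∀ q' ∈ Q, Baer.autAdd hB q' T = T := by
    intro q' hq'
    rw [hT, map_sum]
    have : ∀ q : Q, Baer.autAdd hB q' (Baer.autAdd hB (q : MulAut H) (Baer.of hB x)) =
        Baer.autAdd hB (((⟨q', hq'⟩ : Q) * q : Q) : MulAut H) (Baer.of hB x) := fun q => rfl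
    simp_rw [this]
    exact Fintype.sum_equiv (Equiv.mulLeft (⟨q', hq'⟩ : Q)) _ _ (fun q => rfl)
  set t : H := (Baer.of hB).symm T with ht
  have htZ : t ∈ Subgroup.center H := hfix t (fun q hq => by
    have := hTQ q hq
    exact this)
  -- the candidate
  set w : Baer hB := n • Baer.of hB x - T with hw
  have hwP : ∀ u ∈ P, Baer.autAdd hB u w = w := by
    intro u hu
    set z : H := u x * x⁻¹ with hz
    have hzZ : z ∈ Subgroup.center H := hx u hu
    have hux : Baer.autAdd hB u (Baer.of hB x) = Baer.of hB x + Baer.of hB z := by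
      rw [Baer.add_of_central hB hzZ, Baer.autAdd_of]
      congr 1
      rw [central_comm hzZ x]
      show u x = u x * x⁻¹ * x
      rw [inv_mul_cancel_right]
    -- conjugation by `u` permutes `Q`
    let f : Q → Q := fun q => ⟨u * q * u⁻¹, hnorm u hu q q.2⟩
    have hf : Function.Injective f := by
      intro a b hab
      have := congrArg Subtype.val hab
      simp only [f] at this
      exact Subtype.ext (mul_left_cancel (mul_right_cancel this))
    let e : Q ≃ Q := Equiv.ofBijective f ⟨hf, Finite.surjective_of_injective hf⟩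
    have huT : Baer.autAdd hB u T = T + n • Baer.of hB z := by
      rw [hT, map_sum]
      have h1 : ∀ q : Q, Baer.autAdd hB u (Baer.autAdd hB (q : MulAut H) (Baer.of hB x)) =
          Baer.autAdd hB ((e q : Q) : MulAut H) (Baer.of hB x) + Baer.of hB z := by
        intro q
        have h2 : Baer.autAdd hB u (Baer.autAdd hB (q : MulAut H) (Baer.of hB x)) =
            Baer.autAdd hB ((e q : Q) : MulAut H) (Baer.autAdd hB u (Baer.of hB x)) := by
          have h3 : u * (q : MulAut H) = ((e q : Q) : MulAut H) * u := by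
            show u * (q : MulAut H) = u * q * u⁻¹ * u
            group
          rw [← Baer.autAdd_mul, ← Baer.autAdd_mul, h3]
        rw [h2, hux, map_add]
        congr 1
        rw [Baer.autAdd_of, hZ _ (e q).2 z hzZ]
      simp_rw [h1]
      rw [Finset.sum_add_distrib, Finset.sum_const, Finset.card_univ]
      congr 1
      exact Fintype.sum_equiv e _ _ (fun q => rfl)
    rw [hw, map_sub, map_nsmul, hux, huT, nsmul_add]
    abel
  refine ⟨(Baer.of hB).symm w, ?_, ?_⟩
  · -- `w = x ^ n * t⁻¹`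
    have hwval : w = Baer.of hB (x ^ n * t⁻¹) := by
      rw [hw, sub_eq_add_neg, Baer.nsmul_of]
      have : -T = Baer.of hB t⁻¹ := by
        conv_lhs => rw [← Baer.of_of_symm hB T]
        rw [← ht, Baer.neg_def]
      rw [this, Baer.add_of_central hB (Subgroup.inv_mem _ htZ)]
    rw [hwval, Baer.of_symm_of]
    intro hcon
    apply hxZ
    have hxn : x ^ n ∈ Subgroup.center H := by
      have := Subgroup.mul_mem _ hcon htZ
      rwa [inv_mul_cancel_right] at this
    obtain ⟨m, -, hm⟩ := Nat.exists_mul_mod_eq_one_of_coprime hncop hp.one_lt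
    have hx1 : x ^ (n * m) = x := by
      rw [← Nat.div_add_mod (n * m) p, hm, pow_add, pow_mul, hexp, one_pow, one_mul, pow_one]
    rw [← hx1, pow_mul]
    exact Subgroup.pow_mem _ hxn m
  · intro u hu
    exact hwP u hu

lemma map_mem_center {H : Type*} [Group H] (φ : MulAut H) {z : H}
    (hz : z ∈ Subgroup.center H) : φ z ∈ Subgroup.center H := by
  rw [Subgroup.mem_center_iff]
  intro g
  obtain ⟨g', rfl⟩ := φ.surjective g
  rw [← map_mul, ← map_mul, Subgroup.mem_center_iff.mp hz g']

/-- A `p`-group of automorphisms of a finite non-abelian `p`-group `H` fixes a nontrivial coset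
of `Z(H)`. -/
theorem exists_fixed_mod_center {H : Type*} [Group H] [Finite H] {p : ℕ} [Fact p.Prime]
    (hH : IsPGroup p H) (hZ : Subgroup.center H ≠ ⊤) (P : Subgroup (MulAut H))
    (hP : IsPGroup p P) :
    ∃ x : H, x ∉ Subgroup.center H ∧ ∀ u ∈ P, u x * x⁻¹ ∈ Subgroup.center H := by
  have hp : p.Prime := Fact.out
  letI : MulAction.QuotientAction (MulAut H) (Subgroup.center H) := ⟨fun φ a a' h => by
    have h1 : (φ • a)⁻¹ * φ • a' = φ (a⁻¹ * a') := by
      rw [MulAut.smul_def, MulAut.smul_def, map_mul, map_inv]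
    rw [h1]
    exact map_mem_center φ h⟩
  have hmod := hP.card_modEq_card_fixedPoints (H ⧸ Subgroup.center H)
  obtain ⟨m, hm⟩ := hH.index (Subgroup.center H)
  have hm0 : m ≠ 0 := by
    rintro rfl
    rw [pow_zero, Subgroup.index_eq_one] at hm
    exact hZ hm
  have hcard : Nat.card (H ⧸ Subgroup.center H) = p ^ m := by
    rw [← hm]; rfl
  have hdvd : p ∣ Nat.card (MulAction.fixedPoints P (H ⧸ Subgroup.center H)) := by
    rw [← Nat.modEq_zero_iff_dvd]
    refine hmod.symm.trans ?_
    rw [Nat.modEq_zero_iff_dvd, hcard]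
    exact dvd_pow_self p hm0
  have h1mem : ((1 : H) : H ⧸ Subgroup.center H) ∈
      MulAction.fixedPoints P (H ⧸ Subgroup.center H) := by
    intro u
    show ((u : MulAut H) • ((1 : H) : H ⧸ Subgroup.center H)) = _
    rw [MulAction.Quotient.smul_coe, MulAut.smul_def, map_one]
  have hpos : 0 < Nat.card (MulAction.fixedPoints P (H ⧸ Subgroup.center H)) :=
    Nat.card_pos_iff.mpr ⟨⟨⟨_, h1mem⟩⟩, inferInstance⟩
  have hlt : 1 < Nat.card (MulAction.fixedPoints P (H ⧸ Subgroup.center H)) :=
    lt_of_lt_of_le hp.one_lt (Nat.le_of_dvd hpos hdvd)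
  haveI : Nontrivial (MulAction.fixedPoints P (H ⧸ Subgroup.center H)) :=
    Finite.one_lt_card_iff_nontrivial.mp hlt
  obtain ⟨⟨q, hq⟩, hne⟩ := exists_ne (⟨_, h1mem⟩ : MulAction.fixedPoints P (H ⧸ Subgroup.center H))
  obtain ⟨y, rfl⟩ := QuotientGroup.mk_surjective q
  refine ⟨y, ?_, ?_⟩
  · intro hy
    apply hne
    apply Subtype.ext
    show (y : H ⧸ Subgroup.center H) = ((1 : H) : H ⧸ Subgroup.center H)
    rw [QuotientGroup.mk_one, QuotientGroup.eq_one_iff]
    exact hy
  · intro u hu
    have h2 := hq ⟨u, hu⟩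
    have h3 : ((u y : H) : H ⧸ Subgroup.center H) = (y : H ⧸ Subgroup.center H) := h2
    rw [QuotientGroup.eq] at h3
    -- c = (u y)⁻¹ * y is central
    have h4 : u y * y⁻¹ = ((u y)⁻¹ * y)⁻¹ := by
      have hci := Subgroup.inv_mem _ h3
      have h5 : u y * y⁻¹ = u y * ((u y)⁻¹ * y)⁻¹ * (u y)⁻¹ := by group
      rw [h5, central_comm hci (u y), mul_inv_cancel_right]
    rw [h4]
    exact Subgroup.inv_mem _ h3

end Cfsg.Agent.Lib.Helper62
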