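import Mathlib

set_option autoImplicit false

/-!
# S0996 module [DECOMP96]: the arithmetic (helper62)
-/

namespace Cfsg.Agent.Lib.Helper62.Brauer96

/-- The arithmetic of the decomposition of `Φ` (all quantities in `ℤ`). -/
theorem decomp96_arith {p q t n c D θ1 m₀ mA mB sB mY r ε TY : ℤ}
    (hpqt : p = q * t + 1) (hq : 2 ≤ q) (ht : 1 ≤ t) (hn : 1 ≤ n) (hD : D = 1 + n * p)
    (hε : (ε = 1 ∧ θ1 = q ∧ TY = 0) ∨
      (ε = -1 ∧ 1 ≤ c ∧ n + 1 = t * c ∧ θ1 = c * p - q ∧ TY = c * p))
    (hmA : 0 ≤ mA) (hmB : 0 ≤ mB) (hBs : mB ≤ sB) (hmY : 0 ≤ mY) (hr : 0 ≤ r)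
    (h1 : D = m₀ + D * mA + sB + θ1 * mY + r)
    (h2 : D + (p - 1) = p * m₀ + (D + (p - 1)) * mA + (sB - (p - 1) * mB) + TY * mY + r) :
    (m₀ = 1 → mA = 0 ∧ mB = 0 ∧ mY = 0) ∧
    (m₀ = 0 → (mA = 1 ∧ sB = 0 ∧ mY = 0 ∧ r = 0) ∨
      (ε = -1 ∧ mA = 0 ∧ mB = 0 ∧ sB = 0 ∧ mY = t ∧ r = 0)) := by
  have hp : 3 ≤ p := by nlinarith
  have hDpos : 1 < D := by nlinarith
  have hsB : 0 ≤ sB := le_trans hmB hBs
  have hqpos : 0 < q := by linarith
  -- `t (m₀ + mA - mB - 1) = ε mY`
  have hkey : t * (m₀ + mA - mB - 1) = ε * mY := by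
    rcases hε with ⟨he, hθ, hT⟩ | ⟨he, hc, hnc, hθ, hT⟩
    · rw [he]
      rw [hθ] at h1
      rw [hT] at h2
      have h3 : q * (t * (m₀ + mA - mB - 1)) = q * (1 * mY) := by
        have h4 : (p - 1) * (m₀ + mA - mB - 1) = q * mY := by linarith
        rw [hpqt] at h4
        linarith
      exact mul_left_cancel₀ hqpos.ne' h3
    · rw [he]
      rw [hθ] at h1
      rw [hT] at h2
      have h3 : q * (t * (m₀ + mA - mB - 1)) = q * (-1 * mY) := by
        have h4 : (p - 1) * (m₀ + mA - mB - 1) = -(q * mY) := by linarith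
        rw [hpqt] at h4
        linarith
      exact mul_left_cancel₀ hqpos.ne' h3
  have hθpos : 0 < θ1 := by
    rcases hε with ⟨_, hθ, _⟩ | ⟨_, hc, _, hθ, _⟩
    · rw [hθ]; exact hqpos
    · rw [hθ]
      have : p ≤ c * p := by nlinarith
      nlinarith
  have hθY : 0 ≤ θ1 * mY := mul_nonneg hθpos.le hmY
  -- `θ1 t = D` when `ε = -1`
  have hθt : ε = -1 → θ1 * t = D := by
    intro he
    rcases hε with ⟨he', _, _⟩ | ⟨_, hc, hnc, hθ, _⟩
    · rw [he'] at he; norm_num at he
    · rw [hθ, hD]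
      have : c * p * t = (n + 1) * p := by rw [hnc]; ring
      nlinarith
  constructor
  · intro hm
    rw [hm] at h1 hkey
    have hA0 : mA = 0 := by
      by_contra hne
      have h1' : 1 ≤ mA := by omega
      have : D ≤ D * mA := by nlinarith
      nlinarith
    rw [hA0] at h1 hkey
    rcases hε with ⟨he, hθ, hT⟩ | ⟨he, hc, hnc, hθ, hT⟩
    · rw [he] at hkey
      have hB0 : mB = 0 := by
        by_contra hne
        have h1' : 1 ≤ mB := by omega
        nlinarith
      rw [hB0] at hkey
      exact ⟨hA0, hB0, by linarith⟩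
    · have hθt' := hθt he
      rw [he] at hkey
      have hY : mY = t * mB := by linarith
      have hB0 : mB = 0 := by
        by_contra hne
        have h1' : 1 ≤ mB := by omega
        have e : θ1 * mY = D * mB := by rw [hY, ← hθt']; ring
        have : D ≤ D * mB := by nlinarith
        nlinarith
      rw [hB0] at hY
      exact ⟨hA0, hB0, by linarith⟩
  · intro hm
    rw [hm] at h1 hkey
    by_cases hA : 1 ≤ mA
    · left
      have hA1 : mA = 1 := by
        by_contra hne
        have h2' : 2 ≤ mA := by omega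
        have : 2 * D ≤ D * mA := by nlinarith
        nlinarith
      rw [hA1] at h1
      have hs0 : sB = 0 := by linarith
      have hY0 : θ1 * mY = 0 := by linarith
      have hr0 : r = 0 := by linarith
      refine ⟨hA1, hs0, ?_, hr0⟩
      rcases mul_eq_zero.mp hY0 with h | h
      · exact absurd h hθpos.ne'
      · exact h
    · right
      have hA0 : mA = 0 := by omega
      rw [hA0] at h1 hkey
      have he : ε = -1 := by
        rcases hε with ⟨he, _, _⟩ | ⟨he, _⟩
        · exfalso
          rw [he] at hkey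
          nlinarith
        · exact he
      have hθt' := hθt he
      rw [he] at hkey
      have hY : mY = t * (mB + 1) := by linarith
      have e : θ1 * mY = D * (mB + 1) := by rw [hY, ← hθt']; ring
      have hB0 : mB = 0 := by
        by_contra hne
        have h1' : 1 ≤ mB := by omega
        nlinarith
      rw [hB0] at hY e
      refine ⟨he, hA0, hB0, by linarith, by linarith, by linarith⟩

end Cfsg.Agent.Lib.Helper62.Brauer96
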