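import Mathlib
import Cfsg.Agent.Lib.Helper79.BrauerN.Defs2
import Cfsg.Agent.Lib.Helper79.BrauerN.Partition
import Cfsg.Agent.Lib.Helper78.CharMore
import Cfsg.Agent.Lib.Helper78.BrauerNDecomp
import Cfsg.Agent.Lib.Helper64.BrauerNNV
import Cfsg.Agent.Lib.Helper62.Brauer96Arith

set_option autoImplicit false
set_option linter.unusedSectionVars false

/-!
# S0996 module [DECOMP96] `prerigid_decomp` (helper62)

Decomposition of a character `Φ` of degree `1 + n p` that is `1` on `P ∖ 1` in the pre-rigid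
configuration (generalizes `rigid_decomp` of helper78, which is the template of this file).
-/

namespace Cfsg.Agent.Lib.Helper62.Brauer96

open Cfsg Cfsg.Agent.Lib.Helper78 Cfsg.Agent.Lib.Helper79.BrauerN Cfsg.Agent.Lib.Helper78.BrauerN

variable {G : Type*} [Group G] [Fintype G] {p : ℕ} [Fact p.Prime] {P : Sylow p G} {q t n c : ℕ}
  {ε : ℤ} {a : IrrCharacter G → ℤ} {X Y : Finset (IrrCharacter G)}

/-- Splitting a sum over `X` (generic version). -/
theorem sum_X_split_gen (haX : ∀ χ ∈ X, a χ = 1 ∨ a χ = -1) {triv : IrrCharacter G}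
    (hX : triv ∈ X) (ha : a triv = 1) {M : Type*} [AddCommMonoid M] (f : IrrCharacter G → M) :
    ∑ χ ∈ X, f χ = f triv + (∑ χ ∈ setA a X triv, f χ + ∑ χ ∈ setB a X, f χ) := by
  classical
  have hXeq : X = insert triv (setA a X triv ∪ setB a X) := by
    ext χ
    rw [Finset.mem_insert, Finset.mem_union, mem_setA, mem_setB]
    constructor
    · intro hχ
      by_cases hχt : χ = triv
      · exact Or.inl hχt
      · rcases haX χ hχ with h | h
        · exact Or.inr (Or.inl ⟨hχ, h, hχt⟩)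
        · exact Or.inr (Or.inr ⟨hχ, h⟩)
    · rintro (h | h | h)
      · rw [h]; exact hX
      · exact h.1
      · exact h.1
  have hnot : triv ∉ setA a X triv ∪ setB a X := by
    rw [Finset.mem_union, mem_setA, mem_setB]
    rintro (h | h)
    · exact h.2.2 rfl
    · rw [ha] at h
      have := h.2
      norm_num at this
  have hdis : Disjoint (setA a X triv) (setB a X) := by
    rw [Finset.disjoint_left]
    intro χ h1 h2
    rw [mem_setA] at h1
    rw [mem_setB] at h2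
    rw [h1.2.1] at h2
    have := h2.2
    norm_num at this
  calc ∑ χ ∈ X, f χ = ∑ χ ∈ insert triv (setA a X triv ∪ setB a X), f χ := by rw [← hXeq]
    _ = f triv + (∑ χ ∈ setA a X triv, f χ + ∑ χ ∈ setB a X, f χ) := by
      rw [Finset.sum_insert hnot, Finset.sum_union hdis]

/-- Splitting a sum over all irreducible characters (generic version). -/
theorem sum_split_gen (haX : ∀ χ ∈ X, a χ = 1 ∨ a χ = -1) (hdisj : Disjoint X Y)
    {triv : IrrCharacter G} (hX : triv ∈ X) (ha : a triv = 1) {M : Type*} [AddCommMonoid M]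
    (f : IrrCharacter G → M) :
    ∑ ζ : IrrCharacter G, f ζ =
      f triv + (∑ χ ∈ setA a X triv, f χ + ∑ χ ∈ setB a X, f χ) + ∑ θ ∈ Y, f θ +
        ∑ ζ ∈ setR X Y, f ζ := by
  classical
  have hdis : Disjoint (X ∪ Y) (setR X Y) := by
    rw [Finset.disjoint_left]
    intro ζ h1 h2
    rw [mem_setR] at h2
    rcases Finset.mem_union.mp h1 with h | h
    · exact h2.1 h
    · exact h2.2 h
  have huniv : (Finset.univ : Finset (IrrCharacter G)) = (X ∪ Y) ∪ setR X Y := by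
    ext ζ
    simp only [Finset.mem_univ, Finset.mem_union, mem_setR, true_iff]
    tauto
  rw [huniv, Finset.sum_union hdis, Finset.sum_union hdisj, sum_X_split_gen haX hX ha f]

theorem prerigid_p_ge_three (D : PreRigidData p P q t n c ε a X Y) : 3 ≤ p := by
  have h1 := D.hpqt
  have h2 := D.hq
  have h3 := D.ht
  have : 2 * 1 ≤ q * t := Nat.mul_le_mul h2 h3
  omega

theorem prerigid_exists_elt (D : PreRigidData p P q t n c ε a X Y) :
    ∃ x : G, x ∈ (P : Subgroup G) ∧ x ≠ 1 := by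
  by_contra hcon
  push Not at hcon
  have : (P : Subgroup G) = ⊥ := by
    rw [Subgroup.eq_bot_iff_forall]; exact hcon
  have h := D.hPcard
  rw [this, Subgroup.card_bot] at h
  have := prerigid_p_ge_three D
  omega

/-- The trivial character, as a member of `X` of sign `+`. -/
theorem prerigid_exists_triv (D : PreRigidData p P q t n c ε a X Y) :
    ∃ triv : IrrCharacter G, (triv : G → ℂ) = (fun _ => 1) ∧ triv ∈ X ∧ a triv = 1 ∧
      triv ∉ Y := by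
  obtain ⟨triv, hX, htriv⟩ := D.htriv
  obtain ⟨x, hx, hx1⟩ := prerigid_exists_elt D
  refine ⟨triv, htriv, hX, ?_, ?_⟩
  · have h1 := D.hXval triv hX x hx hx1
    rw [htriv] at h1
    have : ((a triv : ℤ) : ℂ) = ((1 : ℤ) : ℂ) := by rw [← h1]; simp
    exact_mod_cast this
  · intro hY
    exact (Finset.disjoint_left.mp D.hdisj hX) hY

/-- **[DECOMP96]** -/
theorem prerigid_decomp (D : PreRigidData p P q t n c ε a X Y)
    (hvan : ∀ ζ : IrrCharacter G, ζ ∉ X → ζ ∉ Y → ∀ x : G, x ∈ (P : Subgroup G) → x ≠ 1 →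
      (ζ : G → ℂ) x = 0)
    (hsumP : ∀ θ ∈ Y, ∑ᶠ x ∈ ((P : Subgroup G) : Set G), (θ : G → ℂ) x =
      if ε = 1 then 0 else ((c * p : ℕ) : ℂ))
    {Φ : G → ℂ} (hΦ : IsCharacter G Φ) (hΦ1 : Φ 1 = ((1 + n * p : ℕ) : ℂ))
    (hΦP : ∀ x : G, x ∈ (P : Subgroup G) → x ≠ 1 → Φ x = 1)
    (triv : IrrCharacter G) (htriv : (triv : G → ℂ) = fun _ => 1) :
    (classInner Φ (triv : G → ℂ) = 1 →
      ∀ ζ : IrrCharacter G, ζ ∈ X ∨ ζ ∈ Y → ζ ≠ triv → classInner Φ (ζ : G → ℂ) = 0) ∧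
    (classInner Φ (triv : G → ℂ) = 0 →
      (∃ χ ∈ X, a χ = 1 ∧ χ ≠ triv ∧ Φ = (χ : G → ℂ)) ∨
      (ε = -1 ∧ (∀ χ ∈ X, classInner Φ (χ : G → ℂ) = 0) ∧
        ∑ θ ∈ Y, classInner Φ (θ : G → ℂ) = (t : ℂ) ∧
        ∀ ζ : IrrCharacter G, ζ ∉ X → ζ ∉ Y → classInner Φ (ζ : G → ℂ) = 0)) := by
  classical
  have : Fintype ↥(P : Subgroup G) := Fintype.ofFinite _
  obtain ⟨m, hm⟩ := (isCharacter_iff_exists_nat_combination Φ).mp hΦ
  have hci : ∀ ζ : IrrCharacter G, classInner Φ (ζ : G → ℂ) = (m ζ : ℂ) := by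
    intro ζ
    rw [hm]
    exact classInner_nat_combination (fun φ => (m φ : ℂ)) ζ
  obtain ⟨triv', htriv', hX', ha', hY'⟩ := prerigid_exists_triv D
  have htt : triv' = triv := Subtype.ext (htriv'.trans htriv.symm)
  rw [htt] at hX' ha' hY'
  have hpqt := D.hpqt
  have hq := D.hq
  have ht := D.ht
  have hn := D.hn
  have h3 := prerigid_p_ge_three D
  have hqp : q ≤ p := by nlinarith
  obtain ⟨Dg, hDg⟩ : ∃ Dg : ℕ, Dg = 1 + n * p := ⟨_, rfl⟩
  rw [← hDg] at hΦ1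
  -- the degree on `Y` and the sum over `P`
  obtain ⟨θ1, TY, hεcases, hdegY, hTY0⟩ : ∃ (θ1 TY : ℤ),
      ((ε = 1 ∧ θ1 = (q : ℤ) ∧ TY = 0) ∨
        (ε = -1 ∧ (1 : ℤ) ≤ (c : ℤ) ∧ (n : ℤ) + 1 = (t : ℤ) * c ∧ θ1 = (c : ℤ) * p - q ∧
          TY = (c : ℤ) * p)) ∧
      (∀ θ ∈ Y, (θ : G → ℂ) 1 = (θ1 : ℂ)) ∧
      (∀ θ ∈ Y, ∑ᶠ x ∈ ((P : Subgroup G) : Set G), (θ : G → ℂ) x = (TY : ℂ)) := by
    rcases D.hε with he | he
    · refine ⟨q, 0, Or.inl ⟨he, rfl, rfl⟩, ?_, ?_⟩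
      · intro θ hθ
        rw [D.hdegYp he θ hθ]; simp
      · intro θ hθ
        rw [hsumP θ hθ, if_pos he]; simp
    · obtain ⟨hc1, hnc, hdeg⟩ := D.hdegYm he
      have hne : ε ≠ 1 := by rw [he]; norm_num
      have hcp : q ≤ c * p := by nlinarith
      refine ⟨(c : ℤ) * p - q, (c : ℤ) * p, Or.inr ⟨he, by exact_mod_cast hc1,
        by exact_mod_cast hnc, rfl, rfl⟩, ?_, ?_⟩
      · intro θ hθ
        rw [hdeg θ hθ, Nat.cast_sub hcp]; push_cast; ring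
      · intro θ hθ
        rw [hsumP θ hθ, if_neg hne]; push_cast; ring
  -- degrees
  have hdegA : ∀ χ ∈ setA a X triv, (χ : G → ℂ) 1 = (Dg : ℂ) := by
    intro χ hχ
    obtain ⟨h1, h2, h3⟩ := mem_setA.mp hχ
    rw [hDg]
    exact D.hdegXp χ h1 h2 (fun h => h3 (Subtype.ext (h.trans htriv.symm)))
  have hdegAll : ∀ ζ : IrrCharacter G, (ζ : G → ℂ) 1 = (charDegree (ζ : G → ℂ) : ℂ) :=
    fun ζ => irr_apply_one ζ
  -- sums over `P`
  have hTtriv : ∑ x : ↥(P : Subgroup G), (triv : G → ℂ) x = (p : ℂ) := by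
    rw [htriv, Finset.sum_const, Finset.card_univ, ← Nat.card_eq_fintype_card, D.hPcard,
      nsmul_eq_mul, mul_one]
  have hp1 : ((p - 1 : ℕ) : ℂ) = (p : ℂ) - 1 := by
    rw [Nat.cast_sub (by omega)]
    simp
  have hTA : ∀ χ ∈ setA a X triv,
      ∑ x : ↥(P : Subgroup G), (χ : G → ℂ) x = (Dg : ℂ) + ((p : ℂ) - 1) := by
    intro χ hχ
    obtain ⟨h1, h2, h3⟩ := mem_setA.mp hχ
    rw [sum_subgroup_eq_h78 (P : Subgroup G) D.hPcard (χ : G → ℂ) (a χ : ℂ)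
      (D.hXval χ h1), hdegA χ hχ, h2, hp1]
    push_cast
    ring
  have hTB : ∀ χ ∈ setB a X, ∑ x : ↥(P : Subgroup G), (χ : G → ℂ) x =
      (charDegree (χ : G → ℂ) : ℂ) - ((p : ℂ) - 1) := by
    intro χ hχ
    obtain ⟨h1, h2⟩ := mem_setB.mp hχ
    rw [sum_subgroup_eq_h78 (P : Subgroup G) D.hPcard (χ : G → ℂ) (a χ : ℂ)
      (D.hXval χ h1), hdegAll χ, h2, hp1]
    push_cast
    ring
  have hTY : ∀ θ ∈ Y, ∑ x : ↥(P : Subgroup G), (θ : G → ℂ) x = (TY : ℂ) := by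
    intro θ hθ
    rw [← Cfsg.Agent.Lib.Helper64.BrauerN.finsum_mem_subgroup]
    exact hTY0 θ hθ
  have hTR : ∀ ζ ∈ setR X Y,
      ∑ x : ↥(P : Subgroup G), (ζ : G → ℂ) x = (charDegree (ζ : G → ℂ) : ℂ) := by
    intro ζ hζ
    obtain ⟨h1, h2⟩ := mem_setR.mp hζ
    rw [sum_subgroup_eq_h78 (P : Subgroup G) D.hPcard (ζ : G → ℂ) 0 (hvan ζ h1 h2),
      mul_zero, add_zero, irr_apply_one]
  have hTΦ : ∑ x : ↥(P : Subgroup G), Φ x = (Dg : ℂ) + ((p : ℂ) - 1) := by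
    rw [sum_subgroup_eq_h78 (P : Subgroup G) D.hPcard Φ 1 hΦP, hΦ1, hp1]
    ring
  -- the multiplicities
  obtain ⟨m₀, hm₀⟩ : ∃ m₀ : ℕ, m₀ = m triv := ⟨_, rfl⟩
  obtain ⟨mA, hmA⟩ : ∃ mA : ℕ, mA = ∑ χ ∈ setA a X triv, m χ := ⟨_, rfl⟩
  obtain ⟨mB, hmB⟩ : ∃ mB : ℕ, mB = ∑ χ ∈ setB a X, m χ := ⟨_, rfl⟩
  obtain ⟨sB, hsB⟩ : ∃ sB : ℕ, sB = ∑ χ ∈ setB a X, m χ * charDegree (χ : G → ℂ) := ⟨_, rfl⟩
  obtain ⟨mY, hmY⟩ : ∃ mY : ℕ, mY = ∑ θ ∈ Y, m θ := ⟨_, rfl⟩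
  obtain ⟨r, hr⟩ : ∃ r : ℕ, r = ∑ ζ ∈ setR X Y, m ζ * charDegree (ζ : G → ℂ) := ⟨_, rfl⟩
  have hBs : mB ≤ sB := by
    rw [hmB, hsB]
    apply Finset.sum_le_sum
    intro χ _
    have := IsIrrCharacter.charDegree_pos χ.2
    nlinarith
  have hR1 : ∑ ζ ∈ setR X Y, (m ζ : ℂ) * (charDegree (ζ : G → ℂ) : ℂ) = (r : ℂ) := by
    rw [hr]
    push_cast
    rfl
  have hR2 : ∑ ζ ∈ setR X Y, (m ζ : ℂ) * (ζ : G → ℂ) 1 = (r : ℂ) := by
    rw [← hR1]
    exact Finset.sum_congr rfl (fun ζ _ => by rw [hdegAll ζ])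
  have hR3 : ∑ ζ ∈ setR X Y, (m ζ : ℂ) * ∑ x : ↥(P : Subgroup G), (ζ : G → ℂ) x = (r : ℂ) := by
    rw [← hR1]
    exact Finset.sum_congr rfl (fun ζ hζ => by rw [hTR ζ hζ])
  have hB1 : ∑ χ ∈ setB a X, (m χ : ℂ) * (charDegree (χ : G → ℂ) : ℂ) = (sB : ℂ) := by
    rw [hsB]
    push_cast
    rfl
  have hB2 : ∑ χ ∈ setB a X, (m χ : ℂ) * (χ : G → ℂ) 1 = (sB : ℂ) := by
    rw [← hB1]
    exact Finset.sum_congr rfl (fun χ _ => by rw [hdegAll χ])
  have hB3 : ∑ χ ∈ setB a X, (m χ : ℂ) * ∑ x : ↥(P : Subgroup G), (χ : G → ℂ) x =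
      (sB : ℂ) - ((p : ℂ) - 1) * (mB : ℂ) := by
    rw [← hB1, hmB, Nat.cast_sum, Finset.mul_sum, ← Finset.sum_sub_distrib]
    apply Finset.sum_congr rfl
    intro χ hχ
    rw [hTB χ hχ]
    ring
  have hE1 : (Dg : ℤ) = (m₀ : ℤ) + Dg * mA + sB + θ1 * mY + r := by
    have h1 : Φ 1 = ∑ ζ : IrrCharacter G, (m ζ : ℂ) * (ζ : G → ℂ) 1 := by
      conv_lhs => rw [hm]
      simp only [Finset.sum_apply, Pi.smul_apply, smul_eq_mul]
    rw [sum_split_gen D.haX D.hdisj hX' ha', hΦ1, sum_mul_const_h78 _ m _ _ hdegA, hB2,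
      sum_mul_const_h78 _ m _ _ hdegY, hR2, htriv, ← hm₀, ← hmA, ← hmY] at h1
    have h2 : ((Dg : ℤ) : ℂ) = (((m₀ : ℤ) + Dg * mA + sB + θ1 * mY + r : ℤ) : ℂ) := by
      beta_reduce at h1
      push_cast
      linear_combination h1
    exact_mod_cast h2
  have hE2 : (Dg : ℤ) + ((p : ℤ) - 1) = (p : ℤ) * m₀ + ((Dg : ℤ) + ((p : ℤ) - 1)) * mA +
      ((sB : ℤ) - ((p : ℤ) - 1) * mB) + TY * mY + r := by
    have h1 : ∑ x : ↥(P : Subgroup G), Φ x =
        ∑ ζ : IrrCharacter G, (m ζ : ℂ) * ∑ x : ↥(P : Subgroup G), (ζ : G → ℂ) x := by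
      conv_lhs => rw [hm]
      simp only [Finset.sum_apply, Pi.smul_apply, smul_eq_mul]
      rw [Finset.sum_comm]
      apply Finset.sum_congr rfl
      intro ζ _
      rw [Finset.mul_sum]
    rw [sum_split_gen D.haX D.hdisj hX' ha', hTΦ, sum_mul_const_h78 _ m _ _ hTA, hB3,
      sum_mul_const_h78 _ m _ _ hTY, hR3, hTtriv, ← hm₀, ← hmA, ← hmY] at h1
    have h2 : (((Dg : ℤ) + ((p : ℤ) - 1) : ℤ) : ℂ) = (((p : ℤ) * m₀ +
        ((Dg : ℤ) + ((p : ℤ) - 1)) * mA + ((sB : ℤ) - ((p : ℤ) - 1) * mB) + TY * mY + r : ℤ) :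
          ℂ) := by
      beta_reduce at h1
      push_cast
      linear_combination h1
    exact_mod_cast h2
  have harith := decomp96_arith (p := (p : ℤ)) (q := (q : ℤ)) (t := (t : ℤ)) (n := (n : ℤ))
    (c := (c : ℤ)) (D := (Dg : ℤ)) (θ1 := θ1) (m₀ := (m₀ : ℤ)) (mA := (mA : ℤ))
    (mB := (mB : ℤ)) (sB := (sB : ℤ)) (mY := (mY : ℤ)) (r := (r : ℤ)) (ε := ε) (TY := TY)
    (by exact_mod_cast hpqt) (by exact_mod_cast hq) (by exact_mod_cast ht)
    (by exact_mod_cast hn) (by rw [hDg]; push_cast; ring) hεcases (by positivity)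
    (by positivity) (by exact_mod_cast hBs) (by positivity) (by positivity) hE1 hE2
  -- coverage of `Irr(G)`
  have hcover : ∀ ζ : IrrCharacter G, ζ = triv ∨ ζ ∈ setA a X triv ∨ ζ ∈ setB a X ∨ ζ ∈ Y ∨
      ζ ∈ setR X Y := by
    intro ζ
    by_cases hζX : ζ ∈ X
    · rcases D.haX ζ hζX with h | h
      · by_cases hζt : ζ = triv
        · exact Or.inl hζt
        · exact Or.inr (Or.inl (mem_setA.mpr ⟨hζX, h, hζt⟩))
      · exact Or.inr (Or.inr (Or.inl (mem_setB.mpr ⟨hζX, h⟩)))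
    · by_cases hζY : ζ ∈ Y
      · exact Or.inr (Or.inr (Or.inr (Or.inl hζY)))
      · exact Or.inr (Or.inr (Or.inr (Or.inr (mem_setR.mpr ⟨hζX, hζY⟩))))
  have hzero_of_sum : ∀ (S : Finset (IrrCharacter G)), ∑ χ ∈ S, m χ = 0 → ∀ χ ∈ S, m χ = 0 := by
    intro S hS χ hχ
    exact (Finset.sum_eq_zero_iff.mp hS) χ hχ
  have hRzero : r = 0 → ∀ ζ ∈ setR X Y, m ζ = 0 := by
    intro h0 ζ hζ
    rw [hr] at h0
    have h1 := (Finset.sum_eq_zero_iff.mp h0) ζ hζ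
    rcases Nat.mul_eq_zero.mp h1 with h2 | h2
    · exact h2
    · exact absurd h2 (IsIrrCharacter.charDegree_pos ζ.2).ne'
  have hBzero : sB = 0 → ∀ χ ∈ setB a X, m χ = 0 := by
    intro h0 χ hχ
    rw [hsB] at h0
    have h1 := (Finset.sum_eq_zero_iff.mp h0) χ hχ
    rcases Nat.mul_eq_zero.mp h1 with h2 | h2
    · exact h2
    · exact absurd h2 (IsIrrCharacter.charDegree_pos χ.2).ne'
  constructor
  · intro h1
    have hm1 : (m₀ : ℤ) = 1 := by
      rw [hci triv, ← hm₀] at h1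
      exact_mod_cast h1
    obtain ⟨hA0, hB0, hY0⟩ := harith.1 hm1
    have hA0' : mA = 0 := by exact_mod_cast hA0
    have hB0' : mB = 0 := by exact_mod_cast hB0
    have hY0' : mY = 0 := by exact_mod_cast hY0
    intro ζ hζ hζt
    rw [hci ζ]
    have : m ζ = 0 := by
      rcases hcover ζ with h | h | h | h | h
      · exact absurd h hζt
      · exact hzero_of_sum _ (hmA ▸ hA0') ζ h
      · exact hzero_of_sum _ (hmB ▸ hB0') ζ h
      · exact hzero_of_sum _ (hmY ▸ hY0') ζ h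
      · obtain ⟨h1, h2⟩ := mem_setR.mp h
        rcases hζ with h3 | h3
        · exact absurd h3 h1
        · exact absurd h3 h2
    rw [this, Nat.cast_zero]
  · intro h0
    have hm0 : m₀ = 0 := by
      rw [hci triv, ← hm₀] at h0
      exact_mod_cast h0
    have hm0Z : (m₀ : ℤ) = 0 := by exact_mod_cast hm0
    rcases harith.2 hm0Z with ⟨hA1, hs0, hY0, hr0⟩ | ⟨he, hA0, hB0, hs0, hYt, hr0⟩
    · left
      have hA1' : mA = 1 := by exact_mod_cast hA1
      have hs0' : sB = 0 := by exact_mod_cast hs0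
      have hY0' : mY = 0 := by exact_mod_cast hY0
      have hr0' : r = 0 := by exact_mod_cast hr0
      -- a unique constituent in `A`
      have hex : ∃ χ₁ ∈ setA a X triv, m χ₁ ≠ 0 := by
        by_contra hcon
        push Not at hcon
        have : ∑ χ ∈ setA a X triv, m χ = 0 := Finset.sum_eq_zero hcon
        omega
      obtain ⟨χ₁, hχ₁, hmχ₁⟩ := hex
      have hsplit := Finset.add_sum_erase (setA a X triv) m hχ₁
      have hχ₁1 : m χ₁ = 1 := by omega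
      have hrest : ∑ χ ∈ (setA a X triv).erase χ₁, m χ = 0 := by omega
      obtain ⟨h1, h2, h3⟩ := mem_setA.mp hχ₁
      refine ⟨χ₁, h1, h2, h3, ?_⟩
      rw [hm, Finset.sum_eq_single χ₁]
      · rw [hχ₁1, Nat.cast_one, one_smul]
      · intro ζ _ hζ
        have : m ζ = 0 := by
          rcases hcover ζ with h | h | h | h | h
          · rw [h, ← hm₀, hm0]
          · exact hzero_of_sum _ hrest ζ (Finset.mem_erase.mpr ⟨hζ, h⟩)
          · exact hBzero hs0' ζ h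
          · exact hzero_of_sum _ (hmY ▸ hY0') ζ h
          · exact hRzero hr0' ζ h
        rw [this, Nat.cast_zero, zero_smul]
      · intro h
        exact absurd (Finset.mem_univ _) h
    · right
      have hA0' : mA = 0 := by exact_mod_cast hA0
      have hs0' : sB = 0 := by exact_mod_cast hs0
      have hYt' : mY = t := by exact_mod_cast hYt
      have hr0' : r = 0 := by exact_mod_cast hr0
      refine ⟨he, ?_, ?_, ?_⟩
      · intro χ hχ
        rw [hci χ]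
        have : m χ = 0 := by
          rcases hcover χ with h | h | h | h | h
          · rw [h, ← hm₀, hm0]
          · exact hzero_of_sum _ (hmA ▸ hA0') χ h
          · exact hBzero hs0' χ h
          · exact absurd h (Finset.disjoint_left.mp D.hdisj hχ)
          · exact absurd hχ (mem_setR.mp h).1
        rw [this, Nat.cast_zero]
      · rw [Finset.sum_congr rfl (fun θ _ => hci θ), ← Nat.cast_sum, ← hmY, hYt']
      · intro ζ hζX hζY
        rw [hci ζ, hRzero hr0' ζ (mem_setR.mpr ⟨hζX, hζY⟩), Nat.cast_zero]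

end Cfsg.Agent.Lib.Helper62.Brauer96
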