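import Mathlib
import Cfsg.Agent.Lib.Helper78.DefectOneData
import Cfsg.Agent.Lib.Helper76.BrauerNDivis
import Cfsg.Agent.Lib.Helper74.PrincipalSMT

set_option autoImplicit false

/-!
# S0996 module [RECHOOSE] `defectOneData_exists_triv_mem` (helper62)

For `e = p - 1` the normalized description of the principal block can be chosen with the trivial
character among the non-exceptional characters `X`.
-/

namespace Cfsg.Agent.Lib.Helper62.Brauer96

open Cfsg Cfsg.Agent.Lib.Helper78

/-- **[RECHOOSE]** -/
theorem defectOneData_exists_triv_mem {G : Type*} [Group G] [Finite G] {p : ℕ} [Fact p.Prime]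
    {M : Ideal Cfsg.AlgInt} {P : Sylow p G} {e : ℕ} {ε : ℤ} {a : IrrCharacter G → ℤ}
    {X Y : Finset (IrrCharacter G)} (hM : Cfsg.IsPModular p M)
    (D : DefectOneData p M P e ε a X Y) (hP : Nat.card (P : Subgroup G) = p) (he : e = p - 1)
    (hp3 : 3 ≤ p) :
    ∃ (ε' : ℤ) (a' : IrrCharacter G → ℤ) (X' Y' : Finset (IrrCharacter G)),
      DefectOneData p M P e ε' a' X' Y' ∧ ∃ χ₁ ∈ X', (χ₁ : G → ℂ) = fun _ => 1 := by
  classical
  obtain ⟨triv, htrivdef⟩ : ∃ triv : IrrCharacter G,
      triv = ⟨fun _ => 1, Cfsg.Agent.Lib.Helper78.isIrrCharacter_one⟩ := ⟨_, rfl⟩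
  have htrivB : triv ∈ principalBlock M G := by
    rw [htrivdef]
    exact Cfsg.Agent.Lib.Helper74.one_mem_principalBlock hM G
  have htrivfun : (triv : G → ℂ) = fun _ => 1 := by rw [htrivdef]
  rcases (D.hmem triv).mp htrivB with hX | hY
  · exact ⟨ε, a, X, Y, D, triv, hX, htrivfun⟩
  · -- `Y = {triv}`
    have hYc : Y.card = 1 := by
      rw [D.hYcard, he]
      exact Nat.div_self (by omega)
    obtain ⟨η0, hη0⟩ := Finset.card_eq_one.mp hYc
    have hη0t : η0 = triv := by
      rw [hη0] at hY
      exact (Finset.mem_singleton.mp hY).symm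
    rw [hη0t] at hη0
    have htX : triv ∉ X := fun h => (Finset.disjoint_left.mp D.hdisj h) hY
    -- `ε = -1`
    have hex : ∃ x : G, x ∈ (P : Subgroup G) ∧ x ≠ 1 := by
      by_contra hcon
      push Not at hcon
      have hb : (P : Subgroup G) = ⊥ := by
        rw [Subgroup.eq_bot_iff_forall]; exact hcon
      rw [hb, Subgroup.card_bot] at hP
      omega
    obtain ⟨x, hx, hx1⟩ := hex
    have hε : ε = -1 := by
      have h1 := Cfsg.Agent.Lib.Helper76.BrauerNDivis.defectOne_sum_Y_apply hM D hP ⟨triv, hY⟩
        hx hx1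
      rw [hη0, Finset.sum_singleton, htrivfun] at h1
      beta_reduce at h1
      have h2 : ((ε : ℤ) : ℂ) = ((-1 : ℤ) : ℂ) := by
        push_cast
        linear_combination h1
      exact_mod_cast h2
    -- pick `θ ∈ X`
    have hXne : X.Nonempty := by
      rw [← Finset.card_pos, D.hXcard, he]; omega
    obtain ⟨θ, hθ⟩ := hXne
    have hθt : θ ≠ triv := fun h => htX (h ▸ hθ)
    have htE : triv ∉ X.erase θ := fun h => htX (Finset.mem_of_mem_erase h)
    refine ⟨-a θ, fun χ => if χ = triv then 1 else a χ, insert triv (X.erase θ), {θ},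
      ⟨?_, ?_, ?_, ?_, ?_, ?_, ?_, ?_, ?_⟩, triv, Finset.mem_insert_self _ _, htrivfun⟩
    · rcases D.haX θ hθ with h | h
      · right; rw [h]
      · left; rw [h]; norm_num
    · intro χ
      rw [D.hmem χ, hη0, Finset.mem_singleton, Finset.mem_insert, Finset.mem_erase,
        Finset.mem_singleton]
      constructor
      · rintro (h | h)
        · by_cases hχθ : χ = θ
          · exact Or.inr hχθ
          · exact Or.inl (Or.inr ⟨hχθ, h⟩)
        · exact Or.inl (Or.inl h)
      · rintro ((h | h) | h)
        · exact Or.inr h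
        · exact Or.inl h.2
        · rw [h]; exact Or.inl hθ
    · rw [Finset.disjoint_singleton_right, Finset.mem_insert, Finset.mem_erase]
      rintro (h | h)
      · exact hθt h
      · exact h.1 rfl
    · rw [Finset.card_insert_of_notMem htE, Finset.card_erase_of_mem hθ, D.hXcard, he]
      omega
    · rw [Finset.card_singleton, he]
      exact (Nat.div_self (by omega)).symm
    · intro χ hχ
      by_cases hχt : χ = triv
      · left; rw [if_pos hχt]
      · rw [if_neg hχt]
        rcases Finset.mem_insert.mp hχ with h | h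
        · exact absurd h hχt
        · exact D.haX χ (Finset.mem_of_mem_erase h)
    · intro χ hχ y hy hy1
      by_cases hχt : χ = triv
      · rw [if_pos hχt, hχt, htrivfun]; simp
      · rw [if_neg hχt]
        rcases Finset.mem_insert.mp hχ with h | h
        · exact absurd h hχt
        · exact D.hX χ (Finset.mem_of_mem_erase h) y hy hy1
    · intro g _ η hη η' hη'
      rw [Finset.mem_singleton.mp hη, Finset.mem_singleton.mp hη']
    · intro g hg η hη
      rw [Finset.mem_singleton.mp hη]
      have h1 := D.hrel g hg triv hY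
      rw [hε, htrivfun, ← Finset.add_sum_erase X _ hθ] at h1
      rw [Finset.sum_insert htE, if_pos rfl, htrivfun]
      have h2 : ∑ χ ∈ X.erase θ, (((if χ = triv then (1 : ℤ) else a χ : ℤ)) : ℂ) *
          (χ : G → ℂ) g = ∑ χ ∈ X.erase θ, (a χ : ℂ) * (χ : G → ℂ) g := by
        apply Finset.sum_congr rfl
        intro χ hχ
        have : χ ≠ triv := fun h => htE (h ▸ hχ)
        rw [if_neg this]
      rw [h2]
      beta_reduce at h1 ⊢
      push_cast at h1 ⊢
      linear_combination h1

end Cfsg.Agent.Lib.Helper62.Brauer96
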