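import Mathlib
import Cfsg.Agent.Lib.Helper8.CoTwoCentKerDefs
import Cfsg.Agent.Lib.Helper1.Sp6Gen
import Cfsg.Agent.Lib.Helper89.M24NoTransp
import Cfsg.Agent.S0397

/-!
# S2136 module [KER-CONV] (helper62, for helper8 #3310)

The monomial elements fixing the octad pointwise, with sign set disjoint from it, lie in `CSub`
and act trivially on `vbar^⊥ / vbar`.
-/

set_option autoImplicit false

namespace Cfsg.Agent.Lib.Helper62.CoTwoKerConv

open Cfsg Cfsg.Spor Cfsg.Agent.Lib.Helper7 Cfsg.Agent.Lib.Helper8 Cfsg.Agent.Lib.Helper8.CoTwoCent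

theorem symm_mem_oct_iff {σ : Equiv.Perm GolayPt} (hσ : ∀ p ∈ setOf octO, σ p = p) (i : GolayPt) :
    σ.symm i ∈ oct ↔ i ∈ oct := by
  constructor
  · intro h
    have h1 := hσ _ h
    rw [Equiv.apply_symm_apply] at h1
    rw [h1]
    exact h
  · intro h
    have h1 : σ.symm i = i := by
      rw [Equiv.symm_apply_eq]
      exact (hσ i h).symm
    rw [h1]
    exact h

theorem signedPerm_of_suppO {σ : Equiv.Perm GolayPt} {c : Finset GolayPt}
    (hσ : ∀ p ∈ setOf octO, σ p = p) (hc : Disjoint c (setOf octO)) {x : GolayPt → ℤ}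
    (hx : SuppO x) : signedPerm σ c x = x := by
  funext i
  unfold signedPerm
  by_cases hi : i ∈ oct
  · have h1 : σ.symm i = i := by
      rw [Equiv.symm_apply_eq]
      exact (hσ i hi).symm
    have h2 : i ∉ c := fun h => (Finset.disjoint_left.mp hc h) hi
    rw [if_neg h2, h1]
  · have h1 : σ.symm i ∉ oct := fun h => hi ((symm_mem_oct_iff hσ i).1 h)
    rw [hx i hi, hx _ h1]
    simp

/-- **[KER-CONV]** -/
theorem mem_CSub_of_mem_PMono (g : Co0) (hg : g ∈ PMono) : g ∈ CSub ∧ phiMat g = 1 := by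
  obtain ⟨σ, hσ, c, hc, hfix, hdisj, rfl⟩ := hg
  have key : ∀ v : leechLattice, SuppO (v : GolayPt → ℤ) → monoCo0 σ hσ c hc • v = v := by
    intro v hv
    apply Subtype.ext
    rw [monoCo0_apply]
    exact signedPerm_of_suppO hfix hdisj hv
  refine ⟨mem_CSub.2 ⟨key leechU suppO_vecU, ?_⟩, ?_⟩
  · have h : ∀ v : leechLattice,
        (monoCo0 σ hσ c hc * tCo0) • v = (tCo0 * monoCo0 σ hσ c hc) • v := by
      intro v
      rw [mul_smul, mul_smul, tCo0_smul, tCo0_smul]
      apply Subtype.ext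
      rw [monoCo0_apply]
      show signedPerm σ c (signFun octC v.1) =
        signFun octC ((monoCo0 σ hσ c hc • v : leechLattice) : GolayPt → ℤ)
      rw [monoCo0_apply]
      funext i
      unfold signedPerm signFun
      have hiff : σ.symm i ∈ octC ↔ i ∈ octC := by
        rw [mem_octC_iff, mem_octC_iff, symm_mem_oct_iff hfix i]
      by_cases h1 : i ∈ octC <;> by_cases h2 : i ∈ c <;> simp [h1, h2, hiff]
    apply Subtype.ext
    apply Equiv.ext
    intro v
    exact h v
  · ext i j
    unfold phiMat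
    rw [key (W j) (suppO_Wv j)]
    show cf i (Wv j) = _
    rw [cf_Wv, Matrix.one_apply]

end Cfsg.Agent.Lib.Helper62.CoTwoKerConv
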