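import Cfsg.Agent.Lib.Helper29.M22B.Defs

/-!
# Project M22B, module [C3]: `|C(x3) ∩ M22| ≤ 36`

Sift through the stabilizer chain of `Helper7`: an element `k` of `M22 = Gst 2` commuting with `x3`
permutes the fixed points `1, 2, 3, 4` of `x3`, which leaves `4 * 3 * 2 * 1 * 3 = 72` candidate
products of chain elements; `36` of them commute with `x3`.
-/

set_option autoImplicit false

namespace Cfsg.Agent.Lib.Helper62.M22BC3
open Cfsg Cfsg.Agent.Lib.Helper7 Cfsg.Agent.Lib.Helper29.M22B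

/-- One sift step, remembering the image of the base point. -/
theorem sift_track {i : ℕ} (hi : i < 7) {h : Equiv.Perm GolayPt} (hh : h ∈ Gst i) :
    ∃ q < 24, orbitOK i q = true ∧ uP i q * h ∈ Gst (i + 1) ∧ h (bp i) = pt q := by
  obtain ⟨q, hq, hok, hmem⟩ := sift_step hi hh
  refine ⟨q, hq, hok, hmem, ?_⟩
  have h1 := (mem_Gst.mp hmem).2 i (Nat.lt_succ_self i)
  rw [Equiv.Perm.mul_apply] at h1
  have h2 := (uP_spec5 hi hq hok).2
  exact (uP i q).injective (h1.trans h2.symm)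

/-- The ambient group. -/
abbrev C3 : Subgroup (Equiv.Perm GolayPt) :=
  Subgroup.centralizer ({x3} : Set (Equiv.Perm GolayPt)) ⊓ Spor.M22

theorem x3T_fixed : ∀ m < 24, x3T.getD m 0 = m →
    m = 23 ∨ m = 0 ∨ (1 ≤ m ∧ m ≤ 4) := by decide

theorem x3T_fixes : ∀ j, 1 ≤ j → j ≤ 4 → x3T.getD j 0 = j := by decide

/-- An element of `C(x3) ∩ M22` permutes the points `1, 2, 3, 4`. -/
theorem perm_fix {k : Equiv.Perm GolayPt} (hk : k ∈ C3) :
    ∀ j, 1 ≤ j → j ≤ 4 → ∃ j', 1 ≤ j' ∧ j' ≤ 4 ∧ k (pt j) = pt j' := by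
  intro j hj1 hj4
  have hc : k * x3 = x3 * k := Subgroup.mem_centralizer_singleton_iff.mp hk.1
  have hM := Cfsg.Agent.Lib.Helper92.SylM22.mem_M22.mp hk.2
  have hj24 : j < 24 := by omega
  have hx : x3 (pt j) = pt j := fixes_of_matches matches_x3 hj24 (x3T_fixes j hj1 hj4)
  have hfix : x3 (k (pt j)) = k (pt j) := by
    have := congrArg (fun σ : Equiv.Perm GolayPt => σ (pt j)) hc
    simp only [Equiv.Perm.mul_apply] at this
    rw [← this, hx]
  have hm : x3T.getD (idx (k (pt j))) 0 = idx (k (pt j)) := by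
    have := matches_x3 (k (pt j))
    rw [hfix] at this
    exact this.symm
  refine ⟨idx (k (pt j)), ?_⟩
  rcases x3T_fixed _ (idx_lt _) hm with h | h | h
  · exfalso
    have : k (pt j) = k (pt 23) := by
      rw [hM.2.1, ← pt_idx (k (pt j)), h]
    have := congrArg idx (k.injective this)
    rw [idx_pt hj24, idx_pt (by norm_num)] at this
    omega
  · exfalso
    have : k (pt j) = k (pt 0) := by
      rw [hM.2.2, ← pt_idx (k (pt j)), h]
    have := congrArg idx (k.injective this)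
    rw [idx_pt hj24, idx_pt (by norm_num)] at this
    omega
  · exact ⟨h.1, h.2, (pt_idx _).symm⟩

/-- The table `T` maps one of `1, 2, 3, 4` to `q`. -/
def hitB (T : List ℕ) (q : ℕ) : Bool := [1, 2, 3, 4].any fun j => T.getD j 0 == q

theorem hit_of {P k : Equiv.Perm GolayPt} {T : List ℕ} (hm : Matches P T) {j q : ℕ}
    (hj1 : 1 ≤ j) (hj4 : j ≤ 4)
    (hk : ∀ j, 1 ≤ j → j ≤ 4 → ∃ j', 1 ≤ j' ∧ j' ≤ 4 ∧ k (pt j) = pt j') (hq : q < 24)
    (h : (P * k) (pt j) = pt q) : hitB T q = true := by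
  obtain ⟨j', h1, h4, hj'⟩ := hk j hj1 hj4
  rw [Equiv.Perm.mul_apply, hj'] at h
  have h2 := matches_pt hm (i := j') (by omega)
  rw [h, idx_pt hq] at h2
  unfold hitB
  rw [List.any_eq_true]
  refine ⟨j', ?_, by rw [beq_iff_eq]; exact h2.symm⟩
  have : j' = 1 ∨ j' = 2 ∨ j' = 3 ∨ j' = 4 := by omega
  rcases this with rfl | rfl | rfl | rfl <;> simp

/-! ### Tables of the partial products -/

def P3T (q2 q3 : ℕ) : List ℕ := compT (uT 3 q3) (uT 2 q2)
def P4T (q2 q3 q4 : ℕ) : List ℕ := compT (uT 4 q4) (P3T q2 q3)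
def P5T (q2 q3 q4 q5 : ℕ) : List ℕ := compT (uT 5 q5) (P4T q2 q3 q4)
def P6T (q2 q3 q4 q5 q6 : ℕ) : List ℕ := compT (uT 6 q6) (P5T q2 q3 q4 q5)

theorem matches_P3 (q2 q3 : ℕ) : Matches (uP 3 q3 * uP 2 q2) (P3T q2 q3) :=
  matches_mul (matches_uP 3 q3) (matches_uP 2 q2)

theorem matches_P4 (q2 q3 q4 : ℕ) : Matches (uP 4 q4 * (uP 3 q3 * uP 2 q2)) (P4T q2 q3 q4) :=
  matches_mul (matches_uP 4 q4) (matches_P3 q2 q3)

theorem matches_P5 (q2 q3 q4 q5 : ℕ) :
    Matches (uP 5 q5 * (uP 4 q4 * (uP 3 q3 * uP 2 q2))) (P5T q2 q3 q4 q5) :=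
  matches_mul (matches_uP 5 q5) (matches_P4 q2 q3 q4)

theorem matches_P6 (q2 q3 q4 q5 q6 : ℕ) :
    Matches (uP 6 q6 * (uP 5 q5 * (uP 4 q4 * (uP 3 q3 * uP 2 q2)))) (P6T q2 q3 q4 q5 q6) :=
  matches_mul (matches_uP 6 q6) (matches_P5 q2 q3 q4 q5)

/-- The table `W` commutes with `x3T`. -/
def testC (W : List ℕ) : Bool :=
  (List.range 24).all fun i => (compT W x3T).getD i 0 == (compT x3T W).getD i 0

/-- The tuples passing all tests. -/
def passC : List (ℕ × ℕ × ℕ × ℕ × ℕ) :=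
  (List.range 24).flatMap fun q2 =>
    if orbitOK 2 q2 = true ∧ hitB idT q2 = true then
    (List.range 24).flatMap fun q3 =>
      if orbitOK 3 q3 = true ∧ hitB (uT 2 q2) q3 = true then
      (List.range 24).flatMap fun q4 =>
        if orbitOK 4 q4 = true ∧ hitB (P3T q2 q3) q4 = true then
        (List.range 24).flatMap fun q5 =>
          if orbitOK 5 q5 = true ∧ hitB (P4T q2 q3 q4) q5 = true then
          (List.range 24).filterMap fun q6 =>
            if orbitOK 6 q6 = true ∧ testC (P6T q2 q3 q4 q5 q6) = true then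
              some (q2, q3, q4, q5, q6) else none
          else []
        else []
      else []
    else []

theorem passC_length : passC.length = 36 := by decide +kernel

theorem mem_passC {q2 q3 q4 q5 q6 : ℕ} (h2 : q2 < 24) (h3 : q3 < 24) (h4 : q4 < 24) (h5 : q5 < 24)
    (h6 : q6 < 24)
    (c2 : orbitOK 2 q2 = true ∧ hitB idT q2 = true)
    (c3 : orbitOK 3 q3 = true ∧ hitB (uT 2 q2) q3 = true)
    (c4 : orbitOK 4 q4 = true ∧ hitB (P3T q2 q3) q4 = true)
    (c5 : orbitOK 5 q5 = true ∧ hitB (P4T q2 q3 q4) q5 = true)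
    (c6 : orbitOK 6 q6 = true ∧ testC (P6T q2 q3 q4 q5 q6) = true) :
    (q2, q3, q4, q5, q6) ∈ passC := by
  unfold passC
  rw [List.mem_flatMap]
  refine ⟨q2, List.mem_range.mpr h2, ?_⟩
  rw [if_pos c2, List.mem_flatMap]
  refine ⟨q3, List.mem_range.mpr h3, ?_⟩
  rw [if_pos c3, List.mem_flatMap]
  refine ⟨q4, List.mem_range.mpr h4, ?_⟩
  rw [if_pos c4, List.mem_flatMap]
  refine ⟨q5, List.mem_range.mpr h5, ?_⟩
  rw [if_pos c5, List.mem_filterMap]
  refine ⟨q6, List.mem_range.mpr h6, ?_⟩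
  rw [if_pos c6]

theorem testC_of_comm {g : Equiv.Perm GolayPt} {W : List ℕ} (hm : Matches g W)
    (h : g * x3 = x3 * g) : testC W = true := by
  unfold testC
  rw [List.all_eq_true]
  intro i hi
  rw [List.mem_range] at hi
  rw [beq_iff_eq]
  have h1 := matches_pt (matches_mul hm matches_x3) hi
  have h2 := matches_pt (matches_mul matches_x3 hm) hi
  rw [← h1, ← h2, h]

/-- The product of chain elements attached to a tuple. -/
noncomputable def prodP (q : ℕ × ℕ × ℕ × ℕ × ℕ) : Equiv.Perm GolayPt :=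
  uP 6 q.2.2.2.2 * (uP 5 q.2.2.2.1 * (uP 4 q.2.2.1 * (uP 3 q.2.1 * uP 2 q.1)))

theorem exists_passC (g : C3) : ∃ q ∈ passC, (g : Equiv.Perm GolayPt) = prodP q := by
  have hk : (g : Equiv.Perm GolayPt)⁻¹ ∈ C3 := C3.inv_mem g.2
  have hkG : (g : Equiv.Perm GolayPt)⁻¹ ∈ Gst 2 := by
    rw [Gst_two_eq]; exact hk.2
  have hperm := perm_fix hk
  obtain ⟨q2, hq2, ok2, m3, e2⟩ := sift_track (by decide) hkG
  have c2 : hitB idT q2 = true :=
    hit_of (P := 1) (k := (g : Equiv.Perm GolayPt)⁻¹) matches_one (j := 1) le_rfl (by norm_num)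
      hperm hq2 (by rw [one_mul]; exact e2)
  obtain ⟨q3, hq3, ok3, m4, e3⟩ := sift_track (by decide) m3
  have c3 : hitB (uT 2 q2) q3 = true :=
    hit_of (matches_uP 2 q2) (j := 2) (by norm_num) (by norm_num) hperm hq3 e3
  rw [← mul_assoc] at m4
  obtain ⟨q4, hq4, ok4, m5, e4⟩ := sift_track (by decide) m4
  have c4 : hitB (P3T q2 q3) q4 = true :=
    hit_of (matches_P3 q2 q3) (j := 3) (by norm_num) (by norm_num) hperm hq4 e4
  rw [← mul_assoc] at m5
  obtain ⟨q5, hq5, ok5, m6, e5⟩ := sift_track (by decide) m5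
  have c5 : hitB (P4T q2 q3 q4) q5 = true :=
    hit_of (matches_P4 q2 q3 q4) (j := 4) (by norm_num) (by norm_num) hperm hq5 e5
  rw [← mul_assoc] at m6
  obtain ⟨q6, hq6, ok6, m7, _⟩ := sift_track (by decide) m6
  rw [← mul_assoc, Gst_seven, Subgroup.mem_bot] at m7
  have heq : (g : Equiv.Perm GolayPt) =
      uP 6 q6 * (uP 5 q5 * (uP 4 q4 * (uP 3 q3 * uP 2 q2))) := by
    rw [mul_inv_eq_one] at m7
    exact m7.symm
  have hc : (g : Equiv.Perm GolayPt) * x3 = x3 * g :=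
    Subgroup.mem_centralizer_singleton_iff.mp g.2.1
  refine ⟨(q2, q3, q4, q5, q6), mem_passC hq2 hq3 hq4 hq5 hq6 ⟨ok2, c2⟩ ⟨ok3, c3⟩ ⟨ok4, c4⟩
    ⟨ok5, c5⟩ ⟨ok6, ?_⟩, heq⟩
  refine testC_of_comm (g := (g : Equiv.Perm GolayPt)) ?_ hc
  rw [heq]
  exact matches_P6 q2 q3 q4 q5 q6

end Cfsg.Agent.Lib.Helper62.M22BC3

namespace Cfsg.Agent.Lib.Helper29.M22B
open Cfsg Cfsg.Agent.Lib.Helper7 Cfsg.Agent.Lib.Helper92 Cfsg.Agent.Lib.Helper92.SylM22
open Cfsg.Agent.Lib.Helper62.M22BC3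

/-- [C3] NEW SIFT: `|C(x3) ∩ M22| ≤ 36`. -/
theorem card_centralizer_x3_le :
    Nat.card ↥(Subgroup.centralizer ({x3} : Set (Equiv.Perm GolayPt)) ⊓ Spor.M22) ≤ 36 := by
  choose φ hφ hφ' using exists_passC
  let ψ : C3 → {x // x ∈ passC.toFinset} := fun g => ⟨φ g, List.mem_toFinset.mpr (hφ g)⟩
  have hinj : Function.Injective ψ := by
    intro g g' hgg
    have h1 : φ g = φ g' := congrArg Subtype.val hgg
    apply Subtype.ext
    rw [hφ' g, hφ' g', h1]
  calc Nat.card C3 ≤ Nat.card {x // x ∈ passC.toFinset} := Nat.card_le_card_of_injective ψ hinj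
    _ = passC.toFinset.card := by rw [Nat.card_eq_fintype_card, Fintype.card_coe]
    _ ≤ passC.length := List.toFinset_card_le _
    _ = 36 := passC_length

end Cfsg.Agent.Lib.Helper29.M22B
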