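import Cfsg.Agent.Lib.Helper29.M22B.Defs

/-!
# Project M22B: the family `chiFam` of the eight rational class functions

Only the definition from the skeleton (`M22B_SKEL.lean.txt`), so that the modules [VAL], [IRR8],
[DEG] can all import the same declaration.
-/

set_option autoImplicit false

namespace Cfsg.Agent.Lib.Helper29.M22B
open Cfsg

/-- The eight rational class functions as a family. -/
noncomputable def chiFam : ℕ → G → ℂ
  | 0 => fun _ => 1
  | 1 => chi21
  | 2 => chi55
  | 3 => chi99
  | 4 => chi154
  | 5 => chi210
  | 6 => chi231
  | _ => chi385

end Cfsg.Agent.Lib.Helper29.M22B
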