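import Cfsg.Agent.Lib.Helper29.M22B.Defs

/-!
# Project M22B, module [ORD]: the orders of the twelve class representatives
-/

set_option autoImplicit false

namespace Cfsg.Agent.Lib.Helper62.M22BOrd
open Cfsg Cfsg.Agent.Lib.Helper7 Cfsg.Agent.Lib.Helper29.M22B

/-- A power of a matched permutation is the identity if the power table is the identity table. -/
theorem pow_eq_one_of_tbl {σ : Equiv.Perm GolayPt} {t : List ℕ} (h : Matches σ t) (k : ℕ)
    (hk : ∀ i < 24, (Cfsg.Agent.Lib.Helper7.powTb t k).getD i 0 = idT.getD i 0) : σ ^ k = 1 :=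
  Cfsg.Agent.Lib.Helper7.eq_of_matches (Cfsg.Agent.Lib.Helper7.matches_powTb h k) matches_one hk

/-- A power of a matched permutation is not the identity if the power table moves `i`. -/
theorem pow_ne_one_of_tbl {σ : Equiv.Perm GolayPt} {t : List ℕ} (h : Matches σ t) (k i : ℕ)
    (hi : i < 24) (hk : (Cfsg.Agent.Lib.Helper7.powTb t k).getD i 0 ≠ idT.getD i 0) : σ ^ k ≠ 1 :=
  Cfsg.Agent.Lib.Helper7.ne_of_matches (Cfsg.Agent.Lib.Helper7.matches_powTb h k) matches_one hi hk

theorem t2_sq : t2 ^ 2 = 1 := pow_eq_one_of_tbl matches_t2 2 (by decide +kernel)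
theorem t2_ne_one : t2 ≠ 1 := by
  have := pow_ne_one_of_tbl matches_t2 1 3 (by decide) (by decide +kernel)
  simpa using this

theorem orderOf_t2 : orderOf t2 = 2 := by
  have : Fact (Nat.Prime 2) := ⟨by norm_num⟩
  exact orderOf_eq_prime t2_sq t2_ne_one

theorem u4a_pow : u4a ^ 4 = 1 := pow_eq_one_of_tbl matches_u4a 4 (by decide +kernel)
theorem u4a_sq_ne : u4a ^ 2 ≠ 1 :=
  pow_ne_one_of_tbl matches_u4a 2 3 (by decide) (by decide +kernel)

theorem orderOf_u4a : orderOf u4a = 4 := by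
  have : Fact (Nat.Prime 2) := ⟨by norm_num⟩
  exact orderOf_eq_prime_pow (p := 2) (n := 1) (by simpa using u4a_sq_ne) (by simpa using u4a_pow)

theorem u4b_pow : u4b ^ 4 = 1 := pow_eq_one_of_tbl matches_u4b 4 (by decide +kernel)
theorem u4b_sq_ne : u4b ^ 2 ≠ 1 :=
  pow_ne_one_of_tbl matches_u4b 2 3 (by decide) (by decide +kernel)

theorem orderOf_u4b : orderOf u4b = 4 := by
  have : Fact (Nat.Prime 2) := ⟨by norm_num⟩
  exact orderOf_eq_prime_pow (p := 2) (n := 1) (by simpa using u4b_sq_ne) (by simpa using u4b_pow)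

theorem u8_pow : u8 ^ 8 = 1 := pow_eq_one_of_tbl matches_u8 8 (by decide +kernel)
theorem u8_four_ne : u8 ^ 4 ≠ 1 :=
  pow_ne_one_of_tbl matches_u8 4 3 (by decide) (by decide +kernel)

theorem orderOf_u8 : orderOf u8 = 8 := by
  have : Fact (Nat.Prime 2) := ⟨by norm_num⟩
  exact orderOf_eq_prime_pow (p := 2) (n := 2) (by simpa using u8_four_ne) (by simpa using u8_pow)

theorem x3_pow : x3 ^ 3 = 1 := pow_eq_one_of_tbl matches_x3 3 (by decide +kernel)
theorem x3_ne_one : x3 ≠ 1 := by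
  have := pow_ne_one_of_tbl matches_x3 1 5 (by decide) (by decide +kernel)
  simpa using this

theorem orderOf_x3 : orderOf x3 = 3 := by
  have : Fact (Nat.Prime 3) := ⟨by norm_num⟩
  exact orderOf_eq_prime x3_pow x3_ne_one

theorem z3_pow : z3 ^ 3 = 1 := pow_eq_one_of_tbl matches_z3 3 (by decide +kernel)
theorem z3_ne_one : z3 ≠ 1 := by
  have := pow_ne_one_of_tbl matches_z3 1 1 (by decide) (by decide +kernel)
  simpa using this

theorem orderOf_z3 : orderOf z3 = 3 := by
  have : Fact (Nat.Prime 3) := ⟨by norm_num⟩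
  exact orderOf_eq_prime z3_pow z3_ne_one

theorem v1_sq : v1 ^ 2 = 1 := pow_eq_one_of_tbl matches_v1 2 (by decide +kernel)
theorem v1_ne_one : v1 ≠ 1 := by
  have := pow_ne_one_of_tbl matches_v1 1 1 (by decide) (by decide +kernel)
  simpa using this

theorem orderOf_v1 : orderOf v1 = 2 := by
  have : Fact (Nat.Prime 2) := ⟨by norm_num⟩
  exact orderOf_eq_prime v1_sq v1_ne_one

theorem g6_pow : g6 ^ 6 = 1 := pow_eq_one_of_tbl matches_g6 6 (by decide +kernel)
theorem g6_sq_ne : g6 ^ 2 ≠ 1 :=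
  pow_ne_one_of_tbl matches_g6 2 5 (by decide) (by decide +kernel)
theorem g6_cube_ne : g6 ^ 3 ≠ 1 :=
  pow_ne_one_of_tbl matches_g6 3 1 (by decide) (by decide +kernel)

theorem orderOf_g6 : orderOf g6 = 6 := by
  refine orderOf_eq_of_pow_and_pow_div_prime (by norm_num) g6_pow ?_
  intro p hp hd
  have hp6 : p ≤ 6 := Nat.le_of_dvd (by norm_num) hd
  interval_cases p
  · exact absurd hp (by norm_num)
  · exact absurd hp (by norm_num)
  · simpa using g6_cube_ne
  · simpa using g6_sq_ne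
  · exact absurd hd (by norm_num)
  · exact absurd hd (by norm_num)
  · exact absurd hp (by norm_num)

theorem orderOf_g7 : orderOf g7 = 7 := orderOf_ms

end Cfsg.Agent.Lib.Helper62.M22BOrd

namespace Cfsg.Agent.Lib.Helper29.M22B
open Cfsg Cfsg.Agent.Lib.Helper7 Cfsg.Agent.Lib.Helper92 Cfsg.Agent.Lib.Helper92.SylM22
open Cfsg.Agent.Lib.Helper62.M22BOrd

/-- [ORD] orders of the representatives. -/
theorem orderOf_rep (i : ℕ) (hi : i < 12) :
    orderOf (rep i) = [1, 2, 4, 4, 8, 3, 5, 6, 7, 7, 11, 11].getD i 0 := by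
  interval_cases i
  · exact orderOf_one
  · exact orderOf_t2
  · exact orderOf_u4a
  · exact orderOf_u4b
  · exact orderOf_u8
  · exact orderOf_x3
  · exact orderOf_n5
  · exact orderOf_g6
  · exact orderOf_g7
  · exact (orderOf_inv g7).trans orderOf_g7
  · exact orderOf_s11
  · exact (orderOf_inv s11P).trans orderOf_s11

end Cfsg.Agent.Lib.Helper29.M22B
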