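import Cfsg.Agent.Lib.Helper29.M22B.Defs

/-!
# Project M22B, module [V4]: a four-group in `C(x3) ∩ M22` with all involutions conjugate to `v1`
-/

set_option autoImplicit false

namespace Cfsg.Agent.Lib.Helper62.M22BV4
open Cfsg Cfsg.Agent.Lib.Helper7 Cfsg.Agent.Lib.Helper29.M22B

/-- The four-group generated by two commuting involutions. -/
def klein {G : Type*} [Group G] (a b : G) (ha : a * a = 1) (hb : b * b = 1)
    (hab : a * b = b * a) : Subgroup G where
  carrier := {1, a, b, a * b}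
  one_mem' := by simp
  mul_mem' := by
    have h1 : ∀ x : G, a * (a * x) = x := fun x => by rw [← mul_assoc, ha, one_mul]
    have h2 : ∀ x : G, b * (b * x) = x := fun x => by rw [← mul_assoc, hb, one_mul]
    have h3 : b * a = a * b := hab.symm
    have h4 : ∀ x : G, b * (a * x) = a * (b * x) := fun x => by
      rw [← mul_assoc, h3, mul_assoc]
    intro x y hx hy
    simp only [Set.mem_insert_iff, Set.mem_singleton_iff] at hx hy ⊢
    rcases hx with rfl | rfl | rfl | rfl <;> rcases hy with rfl | rfl | rfl | rfl <;>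
      simp only [mul_assoc, one_mul, mul_one, h1, h2, h3, h4, ha, hb, true_or, or_true]
  inv_mem' := by
    have ia : a⁻¹ = a := inv_eq_of_mul_eq_one_left ha
    have ib : b⁻¹ = b := inv_eq_of_mul_eq_one_left hb
    intro x hx
    simp only [Set.mem_insert_iff, Set.mem_singleton_iff] at hx ⊢
    rcases hx with rfl | rfl | rfl | rfl
    · simp
    · rw [ia]; simp
    · rw [ib]; simp
    · rw [_root_.mul_inv_rev, ia, ib, ← hab]; simp

theorem mem_klein {G : Type*} [Group G] {a b : G} {ha : a * a = 1} {hb : b * b = 1}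
    {hab : a * b = b * a} {x : G} :
    x ∈ klein a b ha hb hab ↔ x = 1 ∨ x = a ∨ x = b ∨ x = a * b := by
  change x ∈ ({1, a, b, a * b} : Set G) ↔ _
  simp only [Set.mem_insert_iff, Set.mem_singleton_iff]

theorem card_klein {G : Type*} [Group G] {a b : G} (ha : a * a = 1) (hb : b * b = 1)
    (hab : a * b = b * a) (ha1 : a ≠ 1) (hb1 : b ≠ 1) (hne : a ≠ b) :
    Nat.card (klein a b ha hb hab) = 4 := by
  have h : Nat.card (klein a b ha hb hab) = ({1, a, b, a * b} : Set G).ncard :=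
    Nat.card_coe_set_eq _
  have hab1 : a * b ≠ 1 := fun h1 => hne (by
    have : a = b⁻¹ := eq_inv_of_mul_eq_one_left h1
    rw [this, inv_eq_of_mul_eq_one_left hb])
  rw [h, Set.ncard_insert_of_notMem, Set.ncard_insert_of_notMem, Set.ncard_pair]
  · intro hb'
    exact ha1 (by simpa using hb'.symm)
  · simp only [Set.mem_insert_iff, Set.mem_singleton_iff, not_or]
    exact ⟨hne, fun h' => hb1 (by simpa using h'.symm)⟩
  · simp only [Set.mem_insert_iff, Set.mem_singleton_iff, not_or]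
    exact ⟨fun h' => ha1 h'.symm, fun h' => hb1 h'.symm, fun h' => hab1 h'.symm⟩

/-- The second involution `z3 * v1 * z3^2`. -/
noncomputable def bP : Equiv.Perm GolayPt := z3 * v1 * z3 ^ 2

/-- Its table. -/
def bT : List ℕ := compT (compT z3T v1T) (Cfsg.Agent.Lib.Helper7.powTb z3T 2)

theorem matches_bP : Matches bP bT :=
  matches_mul (matches_mul matches_z3 matches_v1) (Cfsg.Agent.Lib.Helper7.matches_powTb matches_z3 2)

theorem matches_z3sq : Matches (z3 ^ 2) (Cfsg.Agent.Lib.Helper7.powTb z3T 2) :=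
  Cfsg.Agent.Lib.Helper7.matches_powTb matches_z3 2

theorem eqm {σ τ : Equiv.Perm GolayPt} {t u : List ℕ} (hσ : Matches σ t) (hτ : Matches τ u)
    (h : ∀ i < 24, t.getD i 0 = u.getD i 0) : σ = τ :=
  Cfsg.Agent.Lib.Helper7.eq_of_matches hσ hτ h

theorem v1_mul_self : v1 * v1 = 1 :=
  eqm (matches_mul matches_v1 matches_v1) matches_one (by decide +kernel)

theorem bP_mul_self : bP * bP = 1 :=
  eqm (matches_mul matches_bP matches_bP) matches_one (by decide +kernel)

theorem v1_bP_comm : v1 * bP = bP * v1 :=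
  eqm (matches_mul matches_v1 matches_bP) (matches_mul matches_bP matches_v1) (by decide +kernel)

theorem v1_ne_one : v1 ≠ 1 :=
  Cfsg.Agent.Lib.Helper7.ne_of_matches matches_v1 matches_one (i := 1) (by decide)
    (by decide +kernel)

theorem bP_ne_one : bP ≠ 1 :=
  Cfsg.Agent.Lib.Helper7.ne_of_matches matches_bP matches_one (i := 1) (by decide)
    (by decide +kernel)

theorem v1_ne_bP : v1 ≠ bP :=
  Cfsg.Agent.Lib.Helper7.ne_of_matches matches_v1 matches_bP (i := 1) (by decide)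
    (by decide +kernel)

theorem v1_x3 : v1 * x3 = x3 * v1 :=
  eqm (matches_mul matches_v1 matches_x3) (matches_mul matches_x3 matches_v1) (by decide +kernel)

theorem bP_x3 : bP * x3 = x3 * bP :=
  eqm (matches_mul matches_bP matches_x3) (matches_mul matches_x3 matches_bP) (by decide +kernel)

theorem z3_x3 : z3 * x3 = x3 * z3 :=
  eqm (matches_mul matches_z3 matches_x3) (matches_mul matches_x3 matches_z3) (by decide +kernel)

/-- `z3^2 * bP = v1 * z3^2`. -/
theorem conj_bP : z3 ^ 2 * bP = v1 * z3 ^ 2 :=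
  eqm (matches_mul matches_z3sq matches_bP) (matches_mul matches_v1 matches_z3sq)
    (by decide +kernel)

/-- `z3 * (v1 * bP) = v1 * z3`. -/
theorem conj_ab : z3 * (v1 * bP) = v1 * z3 :=
  eqm (matches_mul matches_z3 (matches_mul matches_v1 matches_bP))
    (matches_mul matches_v1 matches_z3) (by decide +kernel)

theorem bP_mem : bP ∈ Spor.M22 :=
  Spor.M22.mul_mem (Spor.M22.mul_mem z3_mem v1_mem) (Spor.M22.pow_mem z3_mem 2)

/-- The ambient group `C(x3) ∩ M22`. -/
theorem mem_C {g : Equiv.Perm GolayPt} (h1 : g * x3 = x3 * g) (h2 : g ∈ Spor.M22) :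
    g ∈ Subgroup.centralizer ({x3} : Set (Equiv.Perm GolayPt)) ⊓ Spor.M22 :=
  ⟨Subgroup.mem_centralizer_singleton_iff.mpr h1, h2⟩

theorem v1_mem_C : v1 ∈ Subgroup.centralizer ({x3} : Set (Equiv.Perm GolayPt)) ⊓ Spor.M22 :=
  mem_C v1_x3 v1_mem

theorem bP_mem_C : bP ∈ Subgroup.centralizer ({x3} : Set (Equiv.Perm GolayPt)) ⊓ Spor.M22 :=
  mem_C bP_x3 bP_mem

theorem z3_mem_C : z3 ∈ Subgroup.centralizer ({x3} : Set (Equiv.Perm GolayPt)) ⊓ Spor.M22 :=
  mem_C z3_x3 z3_mem

end Cfsg.Agent.Lib.Helper62.M22BV4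

namespace Cfsg.Agent.Lib.Helper29.M22B
open Cfsg Cfsg.Agent.Lib.Helper7 Cfsg.Agent.Lib.Helper92 Cfsg.Agent.Lib.Helper92.SylM22
open Cfsg.Agent.Lib.Helper62.M22BV4

/-- [V4] a four-group in `C(x3) ∩ M22` all of whose involutions are conjugate to `v1` there
(`V = {1, v1, z3 v1 z3⁻¹, z3² v1 z3⁻²}`). -/
theorem four_group_x3 : ∃ V : Subgroup (Equiv.Perm GolayPt),
    V ≤ Subgroup.centralizer ({x3} : Set (Equiv.Perm GolayPt)) ⊓ Spor.M22 ∧ Nat.card V = 4 ∧
    ∀ v ∈ V, v ≠ 1 → ∃ c ∈ Subgroup.centralizer ({x3} : Set (Equiv.Perm GolayPt)) ⊓ Spor.M22,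
      c * v * c⁻¹ = v1 := by
  refine ⟨klein v1 bP v1_mul_self bP_mul_self v1_bP_comm, ?_, ?_, ?_⟩
  · intro v hv
    rcases mem_klein.mp hv with rfl | rfl | rfl | rfl
    · exact Subgroup.one_mem _
    · exact v1_mem_C
    · exact bP_mem_C
    · exact Subgroup.mul_mem _ v1_mem_C bP_mem_C
  · exact card_klein v1_mul_self bP_mul_self v1_bP_comm v1_ne_one bP_ne_one v1_ne_bP
  · intro v hv hv1
    rcases mem_klein.mp hv with rfl | rfl | rfl | rfl
    · exact absurd rfl hv1
    · exact ⟨1, Subgroup.one_mem _, by simp⟩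
    · exact ⟨z3 ^ 2, Subgroup.pow_mem _ z3_mem_C 2, by rw [conj_bP, mul_inv_cancel_right]⟩
    · exact ⟨z3, z3_mem_C, by rw [conj_ab, mul_inv_cancel_right]⟩

end Cfsg.Agent.Lib.Helper29.M22B
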