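import Cfsg.Agent.Lib.Helper62.M22BChiFam

/-!
# Project M22B, module [VAL]: values of the eight rational class functions at the representatives

`chiFam_repG_of` takes the three fixed point tables ([FIX24], [FIXOCT], [FIX616]) as hypotheses.
-/

set_option autoImplicit false

namespace Cfsg.Agent.Lib.Helper62.M22BVal
open Cfsg Cfsg.Agent.Lib.Helper7 Cfsg.Agent.Lib.Helper29.M22B

/-- The value of the `r`-th class function computed from the fixed point table. -/
def chiCalc (r i : ℕ) : ℤ :=
  let p24 : ℤ := fixTab 0 i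
  let p77 : ℤ := fixTab 1 i
  let p176 : ℤ := fixTab 2 i
  let p330 : ℤ := fixTab 3 i
  let p616 : ℤ := fixTab 4 i
  let c21 := p24 - 3
  let c55 := p77 - p24 + 2
  let c154 := p176 - p24 + 2
  let q231 := p77 + p176 - p24 + 2
  let c99 := p330 - q231
  let c210 := c21 * c21 - q231
  let c385 := p616 - q231
  let c231 := c21 * c55 - (c21 + c55 + c99 + c154 + c210) - c385
  match r with
  | 0 => 1
  | 1 => c21
  | 2 => c55
  | 3 => c99
  | 4 => c154
  | 5 => c210
  | 6 => c231
  | _ => c385

theorem chiCalc_eq : ∀ r < 8, ∀ i < 12, chiCalc r i = chiTab r i := by decide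

theorem chiFam_eq_calc (i : ℕ)
    (h24 : fixPts (rep i) = fixTab 0 i)
    (h77 : fixFam octads true true (rep i) = fixTab 1 i)
    (h176 : fixFam octads true false (rep i) = fixTab 2 i)
    (h330 : fixFam octads false false (rep i) = fixTab 3 i)
    (h616 : fixFam dodecads false false (rep i) = fixTab 4 i)
    (r : ℕ) (hr : r < 8) : chiFam r (repG i) = ((chiCalc r i : ℤ) : ℂ) := by
  have e24 : pi24 (repG i) = ((fixTab 0 i : ℕ) : ℂ) := by
    change ((fixPts (rep i) : ℕ) : ℂ) = _
    rw [h24]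
  have e77 : pi77 (repG i) = ((fixTab 1 i : ℕ) : ℂ) := by
    change ((fixFam octads true true (rep i) : ℕ) : ℂ) = _
    rw [h77]
  have e176 : pi176 (repG i) = ((fixTab 2 i : ℕ) : ℂ) := by
    change ((fixFam octads true false (rep i) : ℕ) : ℂ) = _
    rw [h176]
  have e330 : pi330 (repG i) = ((fixTab 3 i : ℕ) : ℂ) := by
    change ((fixFam octads false false (rep i) : ℕ) : ℂ) = _
    rw [h330]
  have e616 : pi616 (repG i) = ((fixTab 4 i : ℕ) : ℂ) := by
    change ((fixFam dodecads false false (rep i) : ℕ) : ℂ) = _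
    rw [h616]
  interval_cases r <;>
    simp only [chiFam, chiCalc, chi21, chi55, chi99, chi154, chi210, chi231, chi385, p231,
      e24, e77, e176, e330, e616] <;> push_cast <;> ring

end Cfsg.Agent.Lib.Helper62.M22BVal

namespace Cfsg.Agent.Lib.Helper29.M22B
open Cfsg Cfsg.Agent.Lib.Helper7 Cfsg.Agent.Lib.Helper92 Cfsg.Agent.Lib.Helper92.SylM22
open Cfsg.Agent.Lib.Helper62.M22BVal

/-- [VAL] values at the representatives, from the statements of [FIX24], [FIXOCT], [FIX616]. -/
theorem chiFam_repG_of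
    (H24 : ∀ i : ℕ, i < 12 → fixPts (rep i) = fixTab 0 i)
    (HOCT : ∀ (a b : Bool) (r : ℕ),
      ((a, b, r) = (true, true, 1) ∨ (a, b, r) = (true, false, 2) ∨ (a, b, r) = (false, false, 3)) →
      ∀ i : ℕ, i < 12 → fixFam octads a b (rep i) = fixTab r i)
    (H616 : ∀ i : ℕ, i < 12 → fixFam dodecads false false (rep i) = fixTab 4 i)
    (r : ℕ) (hr : r < 8) (i : ℕ) (hi : i < 12) :
    chiFam r (repG i) = ((chiTab r i : ℤ) : ℂ) := by
  rw [← chiCalc_eq r hr i hi]
  exact chiFam_eq_calc i (H24 i hi) (HOCT true true 1 (Or.inl rfl) i hi)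
    (HOCT true false 2 (Or.inr (Or.inl rfl)) i hi) (HOCT false false 3 (Or.inr (Or.inr rfl)) i hi)
    (H616 i hi) r hr

end Cfsg.Agent.Lib.Helper29.M22B
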