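import Mathlib
import Cfsg.Prelude.Def_Characters
import Cfsg.Agent.Lib.Helper58.PFNineCnt
import Cfsg.Agent.Lib.Helper80.CharBasic

/-!
# Counting characters over two "moved" chief sections (helper62)

Two-axis companion of `Helper58.PF9Cnt` (abstract form of the count in Peterfalvi (9.8)(d) for the
characters of degree `a²`).  `N ≤ B₁, B₂ ≤ A` are normal subgroups of the finite group `G`, `A/N`
is abelian, `B₁/N` and `B₂/N` are "minimal" (every subgroup between `N` and `Bᵢ` containing an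
element of `Bᵢ \ N` is `Bᵢ`), and every `g ∉ A` moves some element of `B₁` or of `B₂` modulo `N`.
Then every irreducible character of `G` with `N` in its kernel but neither `B₁` nor `B₂` has degree
`|G : A|`, and their number `t` satisfies
`|G : A|² t + |G : B₁| + |G : B₂| = |G : N| + |G : B₁ B₂|`.
-/

set_option autoImplicit false

namespace Cfsg.Agent.Lib.Helper62.PF9Cnt2

open Cfsg
open Cfsg.Agent.Lib.Helper75 Cfsg.Agent.Lib.Helper77 Cfsg.Agent.Lib.Helper78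
open Cfsg.Agent.Lib.Helper58.PF9Cnt

universe u

variable {G : Type u} [Group G] [Fintype G]

variable (N B₁ B₂ A : Subgroup G) [hN : N.Normal] [hB₁ : B₁.Normal] [hB₂ : B₂.Normal]
  [hA : A.Normal]

omit [Fintype G] hN hB₂ in
/-- if `g` fixes the linear character `ν` of `A` (trivial on `N`, nontrivial on `B₁`) then `g`
moves no element of `B₁` modulo `N` -/
theorem not_moved_of_conjFun_eq [Fintype A] (hNB₁ : N ≤ B₁) (hB₁A : B₁ ≤ A)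
    (hgen₁ : ∀ M : Subgroup G, N ≤ M → (∃ c ∈ B₁, c ∈ M ∧ c ∉ N) → B₁ ≤ M)
    (ν : A →* ℂˣ) (hνN : ∀ n : A, (n : G) ∈ N → ν n = 1) (hνB : ∃ b : A, (b : G) ∈ B₁ ∧ ν b ≠ 1)
    {g : G} (hg : Cfsg.Agent.Lib.Helper75.conjFun A g (fun a : A => ((ν a : ℂˣ) : ℂ)) =
      fun a : A => ((ν a : ℂˣ) : ℂ)) :
    ∀ b ∈ B₁, g * b * g⁻¹ * b⁻¹ ∈ N := by
  intro b hbB
  by_contra hc
  have hbA : b ∈ A := hB₁A hbB
  have hgbA : g * b * g⁻¹ ∈ A := hA.conj_mem b hbA g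
  have h1 := congrFun hg ⟨b, hbA⟩
  rw [conjFun_apply] at h1
  have h2 : ν ⟨g * b * g⁻¹, hgbA⟩ = ν ⟨b, hbA⟩ := Units.ext h1
  have h3 : ν (⟨g * b * g⁻¹, hgbA⟩ * ⟨b, hbA⟩⁻¹) = 1 := by
    rw [map_mul, map_inv, h2, mul_inv_cancel]
  let M : Subgroup G := (ν.ker.map A.subtype) ⊓ B₁
  have hNM : N ≤ M := by
    intro n hn
    exact Subgroup.mem_inf.mpr ⟨Subgroup.mem_map.mpr
      ⟨⟨n, hB₁A (hNB₁ hn)⟩, (MonoidHom.mem_ker).mpr (hνN _ hn), rfl⟩, hNB₁ hn⟩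
  have hcM : g * b * g⁻¹ * b⁻¹ ∈ M := by
    exact Subgroup.mem_inf.mpr ⟨Subgroup.mem_map.mpr
      ⟨⟨g * b * g⁻¹, hgbA⟩ * ⟨b, hbA⟩⁻¹, (MonoidHom.mem_ker).mpr h3, rfl⟩,
      B₁.mul_mem (hB₁.conj_mem b hbB g) (B₁.inv_mem hbB)⟩
  have hBM : B₁ ≤ M := hgen₁ M hNM
    ⟨_, B₁.mul_mem (hB₁.conj_mem b hbB g) (B₁.inv_mem hbB), hcM, hc⟩
  obtain ⟨b', hb'B, hb'⟩ := hνB
  apply hb'
  have h4 := (Subgroup.mem_inf.mp (hBM hb'B)).1
  obtain ⟨x, hx, hxb⟩ := Subgroup.mem_map.mp h4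
  have : x = b' := Subtype.ext hxb
  rw [← this]
  exact (MonoidHom.mem_ker).mp hx

/-- every irreducible character of `G` with `N` in its kernel but neither `B₁` nor `B₂` has degree
`|G : A|` -/
theorem degree_eq_index_two (hNB₁ : N ≤ B₁) (hNB₂ : N ≤ B₂) (hB₁A : B₁ ≤ A) (hB₂A : B₂ ≤ A)
    (hab : ∀ a ∈ A, ∀ b ∈ A, a * b * a⁻¹ * b⁻¹ ∈ N)
    (hgen₁ : ∀ M : Subgroup G, N ≤ M → (∃ c ∈ B₁, c ∈ M ∧ c ∉ N) → B₁ ≤ M)
    (hgen₂ : ∀ M : Subgroup G, N ≤ M → (∃ c ∈ B₂, c ∈ M ∧ c ∉ N) → B₂ ≤ M)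
    (hmove : ∀ g : G, g ∉ A →
      (∃ b ∈ B₁, g * b * g⁻¹ * b⁻¹ ∉ N) ∨ (∃ b ∈ B₂, g * b * g⁻¹ * b⁻¹ ∉ N))
    {θ : G → ℂ} (hθ : IsIrrCharacter G θ) (hθN : ∀ n ∈ N, θ n = θ 1)
    (hθB₁ : ∃ b ∈ B₁, θ b ≠ θ 1) (hθB₂ : ∃ b ∈ B₂, θ b ≠ θ 1) : θ 1 = (A.index : ℂ) := by
  classical
  have : Fintype A := Fintype.ofFinite A
  have hθc : IsCharacter G θ := IsIrrCharacter.isCharacter hθ
  have hθcl : IsClassFunction G θ := IsCharacter.isClassFunction hθc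
  obtain ⟨lam, hlam⟩ := exists_constituent_res A hθ
  have hres : IsCharacter A (fun a : A => θ a) := isCharacter_res A hθc
  have hlamN : ∀ n : A, (n : G) ∈ N → (lam : A → ℂ) n = (lam : A → ℂ) 1 := by
    intro n hn
    exact constituent_ker hres lam hlam n (hθN _ hn)
  obtain ⟨ν, hν⟩ := exists_hom_of_abelian_mod A N hab lam.2 hlamN
  have hlamν : (lam : A → ℂ) = fun a : A => ((ν a : ℂˣ) : ℂ) := funext hν
  have hνN : ∀ n : A, (n : G) ∈ N → ν n = 1 := by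
    intro n hn
    have h1 := hlamN n hn
    rw [hν, hν, map_one] at h1
    exact Units.ext h1
  have hind : IsCharacter G (indFun A (lam : A → ℂ)) :=
    Cfsg.Agent.S0148.result A _ (IsIrrCharacter.isCharacter lam.2)
  have hindθ : classInner (indFun A (lam : A → ℂ)) θ ≠ 0 := by
    rw [frobenius_reciprocity A _ hθcl]
    intro h0
    apply hlam
    have h1 := classInner_conj_symm (fun a : A => θ a) (lam : A → ℂ)
    rw [h0] at h1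
    exact (map_eq_zero _).mp h1
  have hνB : ∀ (B : Subgroup G) [B.Normal], B ≤ A → (∃ b ∈ B, θ b ≠ θ 1) →
      ∃ b : A, (b : G) ∈ B ∧ ν b ≠ 1 := by
    intro B _ hBA hθB
    by_contra hcon
    push Not at hcon
    obtain ⟨b, hbB, hb⟩ := hθB
    apply hb
    have h1 : ∀ a : A, (a : G) ∈ B → (lam : A → ℂ) a = (lam : A → ℂ) 1 := by
      intro a ha
      rw [hν, hν, hcon a ha, map_one]
    have h2 := indFun_eq_of_forall_eq A B hBA (lam : A → ℂ) h1 b hbB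
    exact constituent_ker hind ⟨θ, hθ⟩ hindθ b h2
  have hνB₁ := hνB B₁ hB₁A hθB₁
  have hνB₂ := hνB B₂ hB₂A hθB₂
  have hT : ∀ g : G, g ∈ A ↔
      Cfsg.Agent.Lib.Helper75.conjFun A g (lam : A → ℂ) = (lam : A → ℂ) := by
    intro g
    constructor
    · intro hg
      exact conjFun_of_mem A (IsCharacter.isClassFunction (IsIrrCharacter.isCharacter lam.2))
        ⟨g, hg⟩
    · intro hg
      rw [hlamν] at hg
      by_contra hgA
      rcases hmove g hgA with ⟨b, hb, hbN⟩ | ⟨b, hb, hbN⟩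
      · exact hbN (not_moved_of_conjFun_eq N B₁ A hNB₁ hB₁A hgen₁ ν hνN hνB₁ hg b hb)
      · exact hbN (not_moved_of_conjFun_eq N B₂ A hNB₂ hB₂A hgen₂ ν hνN hνB₂ hg b hb)
  obtain ⟨ψ, hψ, hψind, hψlam⟩ := exists_indFun_eq_of_over A A le_rfl lam.2 hT hθ hlam
  have hψeq : ψ = (lam : A → ℂ) := by
    by_contra hne
    apply hlam
    rw [← hψlam]
    have : resNT A A le_rfl ψ = ψ := by
      funext a
      rfl
    rw [this]
    exact classInner_irr_ne hψ lam.2 hne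
  rw [← hψind, indFun_one, hψeq, hν, map_one, Units.val_one, mul_one]

open Classical in
/-- the number of irreducible characters of `G` with `N` in the kernel but neither `B₁` nor
`B₂` -/
theorem index_sq_mul_card_two (hNB₁ : N ≤ B₁) (hNB₂ : N ≤ B₂) (hB₁A : B₁ ≤ A) (hB₂A : B₂ ≤ A)
    (hab : ∀ a ∈ A, ∀ b ∈ A, a * b * a⁻¹ * b⁻¹ ∈ N)
    (hgen₁ : ∀ M : Subgroup G, N ≤ M → (∃ c ∈ B₁, c ∈ M ∧ c ∉ N) → B₁ ≤ M)
    (hgen₂ : ∀ M : Subgroup G, N ≤ M → (∃ c ∈ B₂, c ∈ M ∧ c ∉ N) → B₂ ≤ M)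
    (hmove : ∀ g : G, g ∉ A →
      (∃ b ∈ B₁, g * b * g⁻¹ * b⁻¹ ∉ N) ∨ (∃ b ∈ B₂, g * b * g⁻¹ * b⁻¹ ∉ N)) :
    A.index ^ 2 * (Finset.univ.filter (fun θ : IrrCharacter G =>
        (∀ n ∈ N, (θ : G → ℂ) n = (θ : G → ℂ) 1) ∧
          (∃ b ∈ B₁, (θ : G → ℂ) b ≠ (θ : G → ℂ) 1) ∧
          (∃ b ∈ B₂, (θ : G → ℂ) b ≠ (θ : G → ℂ) 1))).card + B₁.index + B₂.index =
      N.index + (B₁ ⊔ B₂).index := by
  have hB₁₂ : (B₁ ⊔ B₂).Normal := inferInstance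
  have h0 := Cfsg.Agent.Lib.Helper74.sum_charDegree_sq_trivial_on N
  have h1 := Cfsg.Agent.Lib.Helper74.sum_charDegree_sq_trivial_on B₁
  have h2 := Cfsg.Agent.Lib.Helper74.sum_charDegree_sq_trivial_on B₂
  have h12 := Cfsg.Agent.Lib.Helper74.sum_charDegree_sq_trivial_on (B₁ ⊔ B₂)
  rw [← h0, ← h1, ← h2, ← h12]
  set P₀ : IrrCharacter G → Prop := fun χ => ∀ n ∈ N, (χ : G → ℂ) n = (χ : G → ℂ) 1 with hP₀
  set P₁ : IrrCharacter G → Prop := fun χ => ∀ n ∈ B₁, (χ : G → ℂ) n = (χ : G → ℂ) 1 with hP₁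
  set P₂ : IrrCharacter G → Prop := fun χ => ∀ n ∈ B₂, (χ : G → ℂ) n = (χ : G → ℂ) 1 with hP₂
  set f : IrrCharacter G → ℕ := fun χ => charDegree (χ : G → ℂ) ^ 2 with hf
  -- trivial on `B₁ ⊔ B₂` iff trivial on both
  have h12eq : (Finset.univ.filter (fun χ : IrrCharacter G =>
      ∀ n ∈ B₁ ⊔ B₂, (χ : G → ℂ) n = (χ : G → ℂ) 1)) =
      Finset.univ.filter (fun χ => P₁ χ ∧ P₂ χ) := by
    ext χ
    simp only [Finset.mem_filter, Finset.mem_univ, true_and]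
    constructor
    · intro h
      exact ⟨fun n hn => h n (Subgroup.mem_sup_left hn), fun n hn => h n (Subgroup.mem_sup_right hn)⟩
    · rintro ⟨ha, hb⟩ n hn
      have hχc : IsCharacter G (χ : G → ℂ) := IsIrrCharacter.isCharacter χ.2
      have hle : B₁ ⊔ B₂ ≤ Cfsg.Agent.Lib.Helper80.charKer (χ : G → ℂ) hχc := sup_le (fun x hx => ha x hx) (fun x hx => hb x hx)
      exact hle hn
  have hP₁₀ : ∀ χ, P₁ χ → P₀ χ := fun χ h n hn => h n (hNB₁ hn)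
  have hP₂₀ : ∀ χ, P₂ χ → P₀ χ := fun χ h n hn => h n (hNB₂ hn)
  -- split the sum over `P₀` by `P₁` and `P₂`
  have hs0 : ∑ χ ∈ Finset.univ.filter P₀, f χ =
      ∑ χ ∈ Finset.univ.filter (fun χ => P₀ χ ∧ ¬ P₁ χ ∧ ¬ P₂ χ), f χ +
      ∑ χ ∈ Finset.univ.filter (fun χ => P₁ χ ∧ ¬ P₂ χ), f χ +
      ∑ χ ∈ Finset.univ.filter P₂, f χ := by
    rw [← Finset.sum_filter_add_sum_filter_not (Finset.univ.filter P₀) P₂]
    rw [← Finset.sum_filter_add_sum_filter_not ((Finset.univ.filter P₀).filter (fun χ => ¬ P₂ χ)) P₁]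
    simp only [Finset.filter_filter]
    have e1 : Finset.univ.filter (fun χ => P₀ χ ∧ P₂ χ) = Finset.univ.filter P₂ := by
      ext χ
      simp only [Finset.mem_filter, Finset.mem_univ, true_and]
      exact ⟨fun h => h.2, fun h => ⟨hP₂₀ χ h, h⟩⟩
    have e2 : Finset.univ.filter (fun χ => (P₀ χ ∧ ¬ P₂ χ) ∧ P₁ χ) =
        Finset.univ.filter (fun χ => P₁ χ ∧ ¬ P₂ χ) := by
      ext χ
      simp only [Finset.mem_filter, Finset.mem_univ, true_and]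
      exact ⟨fun h => ⟨h.2, h.1.2⟩, fun h => ⟨⟨hP₁₀ χ h.1, h.2⟩, h.1⟩⟩
    have e3 : Finset.univ.filter (fun χ => (P₀ χ ∧ ¬ P₂ χ) ∧ ¬ P₁ χ) =
        Finset.univ.filter (fun χ => P₀ χ ∧ ¬ P₁ χ ∧ ¬ P₂ χ) := by
      ext χ
      simp only [Finset.mem_filter, Finset.mem_univ, true_and]
      exact ⟨fun h => ⟨h.1.1, h.2, h.1.2⟩, fun h => ⟨⟨h.1, h.2.2⟩, h.2.1⟩⟩
    rw [e1, e2, e3]
    ring
  have hs1 : ∑ χ ∈ Finset.univ.filter P₁, f χ =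
      ∑ χ ∈ Finset.univ.filter (fun χ => P₁ χ ∧ P₂ χ), f χ +
      ∑ χ ∈ Finset.univ.filter (fun χ => P₁ χ ∧ ¬ P₂ χ), f χ := by
    rw [← Finset.sum_filter_add_sum_filter_not (Finset.univ.filter P₁) P₂]
    simp only [Finset.filter_filter]
  have hgood : ∑ χ ∈ Finset.univ.filter (fun χ => P₀ χ ∧ ¬ P₁ χ ∧ ¬ P₂ χ), f χ =
      A.index ^ 2 * (Finset.univ.filter (fun θ : IrrCharacter G =>
        (∀ n ∈ N, (θ : G → ℂ) n = (θ : G → ℂ) 1) ∧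
          (∃ b ∈ B₁, (θ : G → ℂ) b ≠ (θ : G → ℂ) 1) ∧
          (∃ b ∈ B₂, (θ : G → ℂ) b ≠ (θ : G → ℂ) 1))).card := by
    have hfil : Finset.univ.filter (fun χ => P₀ χ ∧ ¬ P₁ χ ∧ ¬ P₂ χ) =
        (Finset.univ.filter (fun θ : IrrCharacter G =>
        (∀ n ∈ N, (θ : G → ℂ) n = (θ : G → ℂ) 1) ∧
          (∃ b ∈ B₁, (θ : G → ℂ) b ≠ (θ : G → ℂ) 1) ∧
          (∃ b ∈ B₂, (θ : G → ℂ) b ≠ (θ : G → ℂ) 1))) := by
      ext χ
      simp only [Finset.mem_filter, Finset.mem_univ, true_and, hP₀, hP₁, hP₂]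
      constructor
      · rintro ⟨h1, h2, h3⟩
        push Not at h2 h3
        exact ⟨h1, h2, h3⟩
      · rintro ⟨h1, h2, h3⟩
        refine ⟨h1, ?_, ?_⟩
        · push Not
          exact h2
        · push Not
          exact h3
    rw [hfil, Finset.sum_congr rfl (g := fun _ => A.index ^ 2), Finset.sum_const, smul_eq_mul,
      mul_comm]
    intro χ hχ
    rw [Finset.mem_filter] at hχ
    have h3 := degree_eq_index_two N B₁ B₂ A hNB₁ hNB₂ hB₁A hB₂A hab hgen₁ hgen₂ hmove χ.2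
      hχ.2.1 hχ.2.2.1 hχ.2.2.2
    rw [IsCharacter.apply_one_eq_charDegree (IsIrrCharacter.isCharacter χ.2)] at h3
    have h4 : charDegree (χ : G → ℂ) = A.index := by exact_mod_cast h3
    simp only [hf]
    rw [h4]
  rw [h12eq]
  change _ + ∑ χ ∈ Finset.univ.filter P₁, f χ + ∑ χ ∈ Finset.univ.filter P₂, f χ =
    ∑ χ ∈ Finset.univ.filter P₀, f χ + ∑ χ ∈ Finset.univ.filter (fun χ => P₁ χ ∧ P₂ χ), f χ
  rw [hs0, hs1, hgood]
  ring

end Cfsg.Agent.Lib.Helper62.PF9Cnt2
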