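import Mathlib
import Cfsg.Agent.Lib.Helper70.YoshidaGen
import Cfsg.Agent.Lib.Helper96.ElemAb

/-!
# S5239 module [WR9] (helper62, for helper87): `C₃ ≀ C₃`

A group of order 81 with an elementary abelian subgroup `P₀` of order 27 and elements `x`, `s ∈ P₀`
with `[x, [x, s]] ≠ 1` is isomorphic to a Sylow 3-subgroup of the symmetric group of degree 9.
-/

set_option autoImplicit false

namespace Cfsg.Agent.Lib.Helper62.PearlWR9

open scoped commutatorElement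

theorem iso_sylow_perm9 {G : Type*} [Group G] [Finite G] (hG : Nat.card G = 81)
    (P₀ : Subgroup G) (hP₀ : Nat.card P₀ = 27) (hab : ∀ a ∈ P₀, ∀ b ∈ P₀, a * b = b * a)
    (hexp : ∀ a ∈ P₀, a ^ 3 = 1) (x s : G) (hs : s ∈ P₀) (hne : ⁅x, ⁅x, s⁆⁆ ≠ 1) :
    ∃ W : Sylow 3 (Equiv.Perm (Fin 9)), Nonempty (G ≃* ↥(W : Subgroup (Equiv.Perm (Fin 9)))) := by
  classical
  haveI : Fact (Nat.Prime 3) := ⟨by norm_num⟩
  have hGp : IsPGroup 3 G := IsPGroup.of_card (n := 4) (by rw [hG]; norm_num)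
  -- index 3
  have hidx : P₀.index = 3 := by
    have h1 := P₀.card_mul_index
    rw [hP₀, hG] at h1
    omega
  have hco : IsCoatom P₀ :=
    Cfsg.Agent.Lib.Helper70.Yoshida.isCoatom_of_index_prime (by norm_num) P₀ hidx
  have hnorm : P₀.Normal := by
    apply Subgroup.normal_of_index_eq_minFac_card
    rw [hidx, hG]
    norm_num
  -- the Frattini subgroup of `P₀` is trivial
  have hfr : frattini ↥P₀ = ⊥ := by
    apply Cfsg.Agent.Lib.Helper96.frattini_eq_bot_of_elemAb 3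
    · intro a b
      apply Subtype.ext
      exact hab a a.2 b b.2
    · intro a
      apply Subtype.ext
      simpa using hexp a a.2
  -- the Engel map on `P₀`
  have hE : ∀ y ∈ P₀, y⁻¹ * (x⁻¹)⁻¹ * y * x⁻¹ = ⁅x, y⁆ := by
    intro y hy
    have h1 : x * y * x⁻¹ ∈ P₀ := hnorm.conj_mem y hy x
    have h2 := hab y⁻¹ (P₀.inv_mem hy) (x * y * x⁻¹) h1
    rw [commutatorElement_def, inv_inv]
    calc y⁻¹ * x * y * x⁻¹ = y⁻¹ * (x * y * x⁻¹) := by group
      _ = x * y * x⁻¹ * y⁻¹ := h2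
  have hcs : ⁅x, s⁆ ∈ P₀ := by
    rw [commutatorElement_def]
    exact P₀.mul_mem (hnorm.conj_mem s hs x) (P₀.inv_mem hs)
  have hcc : ⁅x, ⁅x, s⁆⁆ ∈ P₀ := by
    rw [commutatorElement_def]
    exact P₀.mul_mem (hnorm.conj_mem _ hcs x) (P₀.inv_mem hcs)
  have hiter : (fun y : G => y⁻¹ * (x⁻¹)⁻¹ * y * x⁻¹)^[3 - 1] s = ⁅x, ⁅x, s⁆⁆ := by
    show (fun y : G => y⁻¹ * (x⁻¹)⁻¹ * y * x⁻¹)^[2] s = ⁅x, ⁅x, s⁆⁆
    rw [Function.iterate_succ, Function.iterate_one, Function.comp_apply]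
    show (fun y : G => y⁻¹ * (x⁻¹)⁻¹ * y * x⁻¹) ((fun y : G => y⁻¹ * (x⁻¹)⁻¹ * y * x⁻¹) s) = _
    beta_reduce
    rw [hE s hs, hE _ hcs]
  obtain ⟨W, f, hf⟩ := Cfsg.Agent.Lib.Helper70.YoshidaGen.exists_surjective_of_engel
    (p := 3) hGp s x⁻¹ P₀ hco (by rw [hiter]; exact hcc) (by
      rw [hiter, hfr, Subgroup.map_bot, Subgroup.mem_bot]
      exact hne)
  -- cardinalities
  have hW81 : 81 ∣ Nat.card ↥(W : Subgroup (Equiv.Perm (Fin (3 ^ 2)))) := by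
    have h1 : (3 : ℕ) ^ 4 ∣ Nat.card (Equiv.Perm (Fin (3 ^ 2))) := by
      rw [Nat.card_eq_fintype_card, Fintype.card_perm, Fintype.card_fin]
      decide
    have := W.pow_dvd_card_of_pow_dvd_card h1
    simpa using this
  have hWle : Nat.card G ≤ Nat.card ↥(W : Subgroup (Equiv.Perm (Fin (3 ^ 2)))) := by
    rw [hG]
    exact Nat.le_of_dvd Nat.card_pos hW81
  have hbij : Function.Bijective f := hf.bijective_of_nat_card_le hWle
  exact ⟨W, ⟨MulEquiv.ofBijective f hbij⟩⟩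

end Cfsg.Agent.Lib.Helper62.PearlWR9
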