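import Mathlib
import Cfsg.Prelude.Def_Solvable
import Cfsg.Agent.Lib.Helper47.Subnormal
import Cfsg.Agent.Lib.Helper9.Subnormal2

/-!
# Primitive pairs, part A (helper62): the push-down lemma

`mem_pCore_of_mk_mem_pCore`: if `C ⊴ H`, `R` is a `p`-subgroup of `H` normalized by `C`, and `a ∈ R` maps
into `O_p(H / C)`, then `a ∈ O_p(H)`.  (Chain: `R ∩ L ⊴ (R ∩ L) C ⊴⊴ L ⊴ H` with `L / C = O_p(H / C)`.)
-/

set_option autoImplicit false

namespace Cfsg.Agent.Lib.Helper62.PrimPair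

open Cfsg

variable {H : Type*} [Group H]

theorem mem_pCore_of_mk_mem_pCore [Finite H] {p : ℕ} [Fact p.Prime] (C : Subgroup H) [C.Normal]
    (R : Subgroup H) (hR : IsPGroup p R) (hCR : C ≤ Subgroup.normalizer (R : Set H))
    {a : H} (haR : a ∈ R)
    (ha : (QuotientGroup.mk a : H ⧸ C) ∈ pCore p (H ⧸ C)) : a ∈ pCore p H := by
  set L : Subgroup H := (pCore p (H ⧸ C)).comap (QuotientGroup.mk' C) with hL
  have hPn : (pCore p (H ⧸ C)).Normal := inferInstance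
  have hLn : L.Normal := hPn.comap _
  have haR₀ : a ∈ R ⊓ L := ⟨haR, ha⟩
  have hR₀p : IsPGroup p ↥(R ⊓ L) := hR.to_le inf_le_left
  have hCR₀ : C ≤ Subgroup.normalizer ((R ⊓ L : Subgroup H) : Set H) :=
    (le_inf hCR Subgroup.le_normalizer_of_normal).trans Subgroup.inf_normalizer_le_normalizer_inf
  have hXle : (R ⊓ L).map (QuotientGroup.mk' C) ≤ pCore p (H ⧸ C) := by
    rintro _ ⟨x, hx, rfl⟩
    exact hx.2
  have h1 : ((R ⊓ L).map (QuotientGroup.mk' C)).IsSubnormal := by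
    refine Subgroup.IsSubnormal.trans hXle ?_ hPn.isSubnormal
    exact Cfsg.Agent.Lib.Helper9.isSubnormal_of_isPGroup
      (Cfsg.Agent.Lib.Helper47.pCore_isPGroup p (H ⧸ C)) _
  have h2 := h1.comap (QuotientGroup.mk' C)
  rw [QuotientGroup.comap_map_mk'] at h2
  have h3 : (R ⊓ L).IsSubnormal :=
    Subgroup.IsSubnormal.step (R ⊓ L) (C ⊔ (R ⊓ L)) le_sup_right h2
      (Subgroup.normal_subgroupOf_of_le_normalizer (sup_le hCR₀ Subgroup.le_normalizer))
  exact Cfsg.Agent.Lib.Helper47.le_pCore_of_isSubnormal_of_isPGroup h3 hR₀p haR₀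

end Cfsg.Agent.Lib.Helper62.PrimPair
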