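import Mathlib
import Cfsg.Agent.S0622
import Cfsg.Agent.S0624
import Cfsg.Agent.S0626
import Cfsg.Agent.Lib.Helper47.Subnormal
import Cfsg.Agent.Lib.Helper33.Conj
import Cfsg.Agent.Lib.Helper62.PrimPairA

/-!
# Primitive pairs, part B (helper62): ambient-group interface for one subgroup `M ≤ G`

For a subgroup `M` of a finite group `G` which is `p`-stable (action sense) of characteristic `p`:
* `le_pCoreOf_of_abelian`: an abelian subgroup of `M` normalized by `O_p(M)` lies in `O_p(M)`;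
* `WOf p M`: the image in `G` of `W(S)`, `S` a Sylow `p`-subgroup of `M`; it is elementary abelian, normalized by
  `M`, nontrivial if `O_p(M) ≠ 1`, and a `p`-element of `M` acting quadratically on it centralizes it;
* `mem_pCoreOf_of_quadratic`: the push-down lemma in ambient form.
-/

set_option autoImplicit false

namespace Cfsg.Agent.Lib.Helper62.PrimPair

open Cfsg Cfsg.Agent.Lib.Helper97

universe u

variable {G : Type u} [Group G]

/-- The standing hypotheses on one subgroup. -/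
structure Good (p : ℕ) (M : Subgroup G) : Prop where
  hc : Subgroup.centralizer (pCore p ↥M : Set ↥M) ≤ pCore p ↥M
  hst : IsActionPStable p ↥M

theorem mem_pCoreOf_iff {p : ℕ} {M : Subgroup G} {a : G} (ha : a ∈ M) :
    a ∈ pCoreOf p M ↔ (⟨a, ha⟩ : ↥M) ∈ pCore p ↥M := by
  constructor
  · rintro ⟨x, hx, rfl⟩
    exact hx
  · intro h
    exact ⟨⟨a, ha⟩, h, rfl⟩

theorem le_normalizer_map_subtype {M : Subgroup G} (N : Subgroup ↥M) [hN : N.Normal] :
    M ≤ Subgroup.normalizer ((N.map M.subtype : Subgroup G) : Set G) := by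
  intro m hm
  rw [Subgroup.mem_normalizer_iff]
  intro x
  constructor
  · rintro ⟨n, hn, rfl⟩
    exact ⟨⟨m, hm⟩ * n * ⟨m, hm⟩⁻¹, hN.conj_mem n hn _, rfl⟩
  · rintro ⟨n, hn, hx⟩
    refine ⟨⟨m, hm⟩⁻¹ * n * ⟨m, hm⟩, ?_, ?_⟩
    · have := hN.conj_mem n hn ⟨m, hm⟩⁻¹
      simpa using this
    · have : (M.subtype n : G) = m * x * m⁻¹ := hx
      simp only [map_mul, map_inv, Subgroup.coe_subtype] at this ⊢
      rw [this]
      group

theorem le_normalizer_subgroupOf {M A : Subgroup G} {x : G} (hx : x ∈ M)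
    (hxA : x ∈ Subgroup.normalizer (A : Set G)) :
    (⟨x, hx⟩ : ↥M) ∈ Subgroup.normalizer ((A.subgroupOf M : Subgroup ↥M) : Set ↥M) := by
  rw [Subgroup.mem_normalizer_iff]
  intro y
  rw [Subgroup.mem_subgroupOf, Subgroup.mem_subgroupOf]
  exact (Subgroup.mem_normalizer_iff.mp hxA) y

/-- An abelian subgroup of `M` normalized by `O_p(M)` lies in `O_p(M)`. -/
theorem le_pCoreOf_of_abelian [Finite G] {p : ℕ} [Fact p.Prime] {M : Subgroup G} (hM : Good p M)
    {A : Subgroup G} (hAM : A ≤ M) (hA : ∀ a ∈ A, ∀ b ∈ A, a * b = b * a)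
    (hQA : pCoreOf p M ≤ Subgroup.normalizer (A : Set G)) : A ≤ pCoreOf p M := by
  have h1 : A.subgroupOf M ≤ pCore p ↥M := by
    apply Cfsg.Agent.S0624.le_pCore_of_abelian hM.hst hM.hc
    · intro a ha b hb
      apply Subtype.ext
      exact hA a ha b hb
    · intro q hq
      exact le_normalizer_subgroupOf q.2 (hQA ⟨q, hq, rfl⟩)
  intro a ha
  rw [mem_pCoreOf_iff (hAM ha)]
  exact h1 (by rw [Subgroup.mem_subgroupOf]; exact ha)

/-- The image in `G` of `W(S)` for a Sylow `p`-subgroup `S` of `M`. -/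
noncomputable def WOf (p : ℕ) [Fact p.Prime] (M : Subgroup G) [Finite M] : Subgroup G :=
  ((stableNormalClosure p
      ↥((Classical.choice (inferInstance : Nonempty (Sylow p ↥M)) : Sylow p ↥M) : Subgroup ↥M)).map
    ((Classical.choice (inferInstance : Nonempty (Sylow p ↥M)) : Sylow p ↥M) : Subgroup ↥M).subtype).map
    M.subtype

variable [Finite G] {p : ℕ} [Fact p.Prime] {M : Subgroup G}

theorem WOf_le (M : Subgroup G) : WOf p M ≤ M := by
  rintro _ ⟨x, -, rfl⟩
  exact x.2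

theorem WOf_normalizer (hM : Good p M) : M ≤ Subgroup.normalizer ((WOf p M : Subgroup G) : Set G) := by
  haveI := Cfsg.Agent.S0624.result hM.hst hM.hc
    (Classical.choice (inferInstance : Nonempty (Sylow p ↥M)) : Sylow p ↥M)
  exact le_normalizer_map_subtype _

theorem WOf_elemAb (M : Subgroup G) : IsElementaryAbelian p (WOf p M) :=
  isElementaryAbelian_map _ (Cfsg.Agent.S0624.isElementaryAbelian_W _)

theorem WOf_comm (M : Subgroup G) : ∀ a ∈ WOf p M, ∀ b ∈ WOf p M, a * b = b * a :=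
  fun _ ha _ hb => IsElementaryAbelian_comm (WOf_elemAb M) ha hb

theorem WOf_isPGroup (M : Subgroup G) : IsPGroup p ↥(WOf p M) := by
  have h1 : IsPGroup p ↥(((Classical.choice (inferInstance : Nonempty (Sylow p ↥M)) : Sylow p ↥M) :
      Subgroup ↥M)) := Sylow.isPGroup' _
  have h2 : IsPGroup p ↥((stableNormalClosure p
      ↥((Classical.choice (inferInstance : Nonempty (Sylow p ↥M)) : Sylow p ↥M) : Subgroup ↥M))) :=
    h1.to_subgroup _
  exact (h2.map _).map _

theorem WOf_le_pCoreOf (hM : Good p M) : WOf p M ≤ pCoreOf p M :=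
  Cfsg.Agent.Lib.Helper47.le_pCoreOf (WOf_le M) (WOf_normalizer hM) (WOf_isPGroup M)

theorem WOf_ne_bot (hQ : pCoreOf p M ≠ ⊥) : WOf p M ≠ ⊥ := by
  set S : Sylow p ↥M := Classical.choice (inferInstance : Nonempty (Sylow p ↥M)) with hS
  have hnt : Nontrivial ↥(S : Subgroup ↥M) := by
    by_contra hcon
    rw [not_nontrivial_iff_subsingleton] at hcon
    apply hQ
    rw [eq_bot_iff]
    rintro _ ⟨x, hx, rfl⟩
    have hxS : x ∈ (S : Subgroup ↥M) := pCore_le_sylow' S hx
    have : (⟨x, hxS⟩ : ↥(S : Subgroup ↥M)) = 1 := Subsingleton.elim _ _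
    have hx1 : x = 1 := congrArg Subtype.val this
    rw [hx1]
    exact Subgroup.mem_bot.mpr rfl
  have h1 := (Cfsg.Agent.S0622.result (p := p) (S := ↥(S : Subgroup ↥M)) (Sylow.isPGroup' S)).2.2.2.1 hnt
  intro hcon
  apply h1
  have h2 : Function.Injective (M.subtype.comp (S : Subgroup ↥M).subtype) :=
    M.subtype_injective.comp (S : Subgroup ↥M).subtype_injective
  unfold WOf at hcon
  rw [Subgroup.map_map] at hcon
  exact (Subgroup.map_eq_bot_iff_of_injective _ h2).mp hcon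

/-- A `p`-element of `M` acting quadratically on `W` centralizes it. -/
theorem WOf_quad (hM : Good p M) {x : G} (hxM : x ∈ M) (hxp : ∃ k : ℕ, x ^ (p ^ k) = 1)
    (hq : ⁅⁅WOf p M, Subgroup.zpowers x⁆, Subgroup.zpowers x⁆ = ⊥) :
    x ∈ Subgroup.centralizer ((WOf p M : Subgroup G) : Set G) := by
  set S : Sylow p ↥M := Classical.choice (inferInstance : Nonempty (Sylow p ↥M)) with hS
  set W' : Subgroup ↥M := (stableNormalClosure p ↥(S : Subgroup ↥M)).map (S : Subgroup ↥M).subtype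
    with hW'
  have hWW' : WOf p M = W'.map M.subtype := rfl
  haveI hW'n : W'.Normal := Cfsg.Agent.S0624.result hM.hst hM.hc S
  -- quadratic in `M`
  have hq' : ⁅⁅W', Subgroup.zpowers (⟨x, hxM⟩ : ↥M)⁆, Subgroup.zpowers (⟨x, hxM⟩ : ↥M)⁆ = ⊥ := by
    rw [← quad_map_iff M.subtype M.subtype_injective]
    exact hq
  -- conjugate into `S`
  have hzp : IsPGroup p ↥(Subgroup.zpowers (⟨x, hxM⟩ : ↥M)) := by
    obtain ⟨k, hk⟩ := hxp
    rintro ⟨y, hy⟩
    obtain ⟨i, rfl⟩ := Subgroup.mem_zpowers_iff.mp hy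
    refine ⟨k, ?_⟩
    apply Subtype.ext
    have hx1 : (⟨x, hxM⟩ : ↥M) ^ (p ^ k) = 1 := by
      apply Subtype.ext
      simpa using hk
    simp only [Subgroup.coe_pow, Subgroup.coe_one]
    rw [← zpow_natCast, ← zpow_mul, mul_comm, zpow_mul, zpow_natCast, hx1, one_zpow]
  obtain ⟨P, hP⟩ := hzp.exists_le_sylow
  obtain ⟨g, hg⟩ := MulAction.exists_smul_eq (↥M) P S
  have htS : g * ⟨x, hxM⟩ * g⁻¹ ∈ (S : Subgroup ↥M) := by
    rw [← hg, Sylow.coe_subgroup_smul, Subgroup.mem_pointwise_smul_iff_inv_smul_mem]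
    have : (MulAut.conj g)⁻¹ • (g * ⟨x, hxM⟩ * g⁻¹) = (⟨x, hxM⟩ : ↥M) := by
      simp [MulAut.smul_def, MulAut.conj_apply, mul_assoc]
    rw [this]
    exact hP (Subgroup.mem_zpowers _)
  have hqt := quad_conj hq' g
  have hc := Cfsg.Agent.S0624.mem_centralizer_W_of_quadratic S htS hqt
  have hCn : (Subgroup.centralizer (W' : Set ↥M)).Normal := Subgroup.normal_centralizer
  have hx' : (⟨x, hxM⟩ : ↥M) ∈ Subgroup.centralizer (W' : Set ↥M) := by
    have := hCn.conj_mem _ hc g⁻¹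
    simpa [mul_assoc] using this
  rw [hWW', Subgroup.mem_centralizer_iff]
  rintro _ ⟨w, hw, rfl⟩
  have := Subgroup.mem_centralizer_iff.mp hx' w hw
  exact congrArg Subtype.val this

/-- The push-down lemma, ambient form. -/
theorem mem_pCoreOf_of_quadratic (hM : Good p M) {V R : Subgroup G} (hVM : V ≤ M)
    (hVn : M ≤ Subgroup.normalizer (V : Set G)) (hVe : IsElementaryAbelian p V)
    (hRM : R ≤ M) (hRp : IsPGroup p ↥R)
    (hCR : M ⊓ Subgroup.centralizer (V : Set G) ≤ Subgroup.normalizer (R : Set G))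
    {a : G} (haR : a ∈ R)
    (hq : ⁅⁅V, Subgroup.zpowers a⁆, Subgroup.zpowers a⁆ = ⊥) : a ∈ pCoreOf p M := by
  have haM : a ∈ M := hRM haR
  haveI hV'n : (V.subgroupOf M).Normal := Subgroup.normal_subgroupOf_of_le_normalizer hVn
  have hmap : (V.subgroupOf M).map M.subtype = V := Subgroup.map_subgroupOf_eq_of_le hVM
  have hV'e : IsElementaryAbelian p (V.subgroupOf M) := by
    refine ⟨⟨⟨?_⟩⟩, ?_⟩
    · rintro ⟨a, ha⟩ ⟨b, hb⟩
      apply Subtype.ext
      apply Subtype.ext
      rw [Subgroup.mem_subgroupOf] at ha hb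
      exact IsElementaryAbelian_comm hVe ha hb
    · intro a ha
      apply Subtype.ext
      rw [Subgroup.mem_subgroupOf] at ha
      simpa using hVe.2 _ ha
  have hst : IsPStableOn p (V.subgroupOf M) := hM.hst.1 _ hV'e
  have hq' : ⁅⁅V.subgroupOf M, Subgroup.zpowers (⟨a, haM⟩ : ↥M)⁆,
      Subgroup.zpowers (⟨a, haM⟩ : ↥M)⁆ = ⊥ := by
    rw [← quad_map_iff M.subtype M.subtype_injective, hmap]
    exact hq
  have h1 := hst _ hq'
  rw [mem_pCoreOf_iff haM]
  refine mem_pCore_of_mk_mem_pCore (Subgroup.centralizer ((V.subgroupOf M : Subgroup ↥M) : Set ↥M))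
    (R.subgroupOf M) ?_ ?_ (a := ⟨a, haM⟩) ?_ h1
  · exact hRp.comap_subtype
  · intro c hc
    apply le_normalizer_subgroupOf c.2
    apply hCR
    refine ⟨c.2, ?_⟩
    show (c : G) ∈ Subgroup.centralizer (V : Set G)
    rw [Subgroup.mem_centralizer_iff]
    intro v hv
    have := Subgroup.mem_centralizer_iff.mp hc ⟨v, hVM hv⟩
      (by rw [SetLike.mem_coe, Subgroup.mem_subgroupOf]; exact hv)
    exact congrArg Subtype.val this
  · rw [Subgroup.mem_subgroupOf]
    exact haR

end Cfsg.Agent.Lib.Helper62.PrimPair
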