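import Mathlib
import Cfsg.Agent.Lib.Helper62.PrimPairB
import Cfsg.Agent.Lib.Helper97.Thompson2
import Cfsg.Agent.Lib.Helper97.Replacement3

/-!
# Primitive pairs, part C (helper62): an ordered primitive pair `(M, M')` of characteristic `p`

`PC p M M'` bundles the hypotheses.  `VOf p M M'` is the normal closure in `M` of `W(M) W(M')`; it is elementary
abelian, lies in `O_p(M) ∩ O_p(M')`, and `C_M(V) ≤ M ∩ M'`.  The local move `le_cj_pCoreOf`:
an abelian `A ≤ O_p(M)^g` normalized by `V(M', M)^g` lies in `O_p(M')^g`.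
-/

set_option autoImplicit false

namespace Cfsg.Agent.Lib.Helper62.PrimPair

open Cfsg Cfsg.Agent.Lib.Helper97 Cfsg.Agent.Lib.Helper33

universe u

variable {G : Type u} [Group G]

theorem quad_of_normalizes {W B : Subgroup G} (hB : ∀ a ∈ B, ∀ b ∈ B, a * b = b * a)
    (hWB : W ≤ Subgroup.normalizer (B : Set G)) {t : G} (ht : t ∈ B) :
    ⁅⁅W, Subgroup.zpowers t⁆, Subgroup.zpowers t⁆ = ⊥ := by
  have hz : Subgroup.zpowers t ≤ B := by rw [Subgroup.zpowers_le]; exact ht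
  have h1 : ⁅W, Subgroup.zpowers t⁆ ≤ B := by
    refine (Subgroup.commutator_mono le_rfl hz).trans ?_
    rw [Subgroup.commutator_comm]
    exact commutator_le_of_le_normalizer hWB
  have h3 : ⁅⁅W, Subgroup.zpowers t⁆, Subgroup.zpowers t⁆ ≤ ⁅B, B⁆ :=
    Subgroup.commutator_mono h1 hz
  have h4 : ⁅B, B⁆ = ⊥ := by
    rw [Subgroup.commutator_eq_bot_iff_le_centralizer]
    intro x hx
    rw [Subgroup.mem_centralizer_iff]
    intro y hy
    exact hB y hy x hx
  rw [h4] at h3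
  exact le_bot_iff.mp h3

/-- An ordered primitive pair of characteristic `p`, `p`-stable on both sides. -/
structure PC (p : ℕ) (M M' : Subgroup G) : Prop where
  prim : ∀ A : Subgroup G, A ≠ ⊥ → A ≤ M ⊓ M' → M ≤ Subgroup.normalizer (A : Set G) →
    M' ⊓ Subgroup.normalizer (A : Set G) = M ⊓ M'
  prim' : ∀ A : Subgroup G, A ≠ ⊥ → A ≤ M ⊓ M' → M' ≤ Subgroup.normalizer (A : Set G) →
    M ⊓ Subgroup.normalizer (A : Set G) = M ⊓ M'
  good : Good p M
  good' : Good p M'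
  hO : pCoreOf p M ≤ M'
  hO' : pCoreOf p M' ≤ M
  hQ : pCoreOf p M ≠ ⊥
  hQ' : pCoreOf p M' ≠ ⊥

theorem PC.symm {p : ℕ} {M M' : Subgroup G} (h : PC p M M') : PC p M' M where
  prim := fun A hA hle hn => by
    rw [inf_comm M' M]
    exact h.prim' A hA (by rw [inf_comm]; exact hle) hn
  prim' := fun A hA hle hn => by
    rw [inf_comm M' M]
    exact h.prim A hA (by rw [inf_comm]; exact hle) hn
  good := h.good'
  good' := h.good
  hO := h.hO'
  hO' := h.hO
  hQ := h.hQ'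
  hQ' := h.hQ

variable [Finite G] {p : ℕ} [Fact p.Prime] {M M' : Subgroup G}

theorem pCoreOf_normalizer (M : Subgroup G) :
    M ≤ Subgroup.normalizer ((pCoreOf p M : Subgroup G) : Set G) :=
  Subgroup.le_normalizer.trans (Cfsg.Agent.Lib.Helper47.normalizer_le_normalizer_pCoreOf p M)

theorem pCoreOf_le' (M : Subgroup G) : pCoreOf p M ≤ M := Cfsg.Agent.Lib.Helper47.pCoreOf_le p M

/-- `W(M') ≤ O_p(M)`. -/
theorem PC.W'_le (h : PC p M M') : WOf p M' ≤ pCoreOf p M :=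
  le_pCoreOf_of_abelian h.good ((WOf_le_pCoreOf h.good').trans h.hO') (WOf_comm M')
    (h.hO.trans (WOf_normalizer h.good'))

/-- `W(M)` and `W(M')` commute. -/
theorem PC.comm12 (h : PC p M M') : ∀ a ∈ WOf p M, ∀ b ∈ WOf p M', a * b = b * a := by
  intro a ha b hb
  have hbM : b ∈ M := pCoreOf_le' M (h.W'_le hb)
  have hbp : ∃ k : ℕ, b ^ (p ^ k) = 1 := ⟨1, by rw [pow_one]; exact (WOf_elemAb M').2 b hb⟩
  have hq : ⁅⁅WOf p M, Subgroup.zpowers b⁆, Subgroup.zpowers b⁆ = ⊥ :=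
    quad_of_normalizes (WOf_comm M')
      (((h.symm.W'_le).trans (pCoreOf_le' M')).trans (WOf_normalizer h.good')) hb
  have := WOf_quad h.good hbM hbp hq
  exact (Subgroup.mem_centralizer_iff.mp this a ha)

/-- `W(M')` commutes with its `M`-conjugates. -/
theorem PC.comm_conj (h : PC p M M') {m : G} (hm : m ∈ M) :
    ∀ a ∈ WOf p M', ∀ b ∈ WOf p M', a * (m * b * m⁻¹) = (m * b * m⁻¹) * a := by
  intro a ha b hb
  have hQn : cj m (pCoreOf p M) = pCoreOf p M :=
    cj_eq_self_of_mem_normalizer (pCoreOf_normalizer M hm)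
  have hcW : cj m (WOf p M') ≤ pCoreOf p M := by
    rw [← hQn]; exact cj_mono h.W'_le
  have ht : m * b * m⁻¹ ∈ cj m (WOf p M') := conj_mem_cj hb
  have htM' : m * b * m⁻¹ ∈ M' := h.hO (hcW ht)
  have htp : ∃ k : ℕ, (m * b * m⁻¹) ^ (p ^ k) = 1 :=
    ⟨1, by rw [pow_one, conj_pow, (WOf_elemAb M').2 b hb]; group⟩
  -- `W(M')` normalizes `cj m W(M')`
  have hn : WOf p M' ≤ Subgroup.normalizer ((cj m (WOf p M') : Subgroup G) : Set G) := by
    rw [← cj_normalizer]
    have h1 : WOf p M' ≤ cj m (pCoreOf p M) := by rw [hQn]; exact h.W'_le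
    refine h1.trans (cj_mono ?_)
    exact h.hO.trans (WOf_normalizer h.good')
  have hcomm : ∀ x ∈ cj m (WOf p M'), ∀ y ∈ cj m (WOf p M'), x * y = y * x := by
    intro x hx y hy
    rw [mem_cj] at hx hy
    have := WOf_comm M' _ hx _ hy
    calc x * y = m * ((m⁻¹ * x * m) * (m⁻¹ * y * m)) * m⁻¹ := by group
      _ = m * ((m⁻¹ * y * m) * (m⁻¹ * x * m)) * m⁻¹ := by rw [this]
      _ = y * x := by group
  have hq := quad_of_normalizes hcomm hn ht
  have := WOf_quad h.good' htM' htp hq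
  exact (Subgroup.mem_centralizer_iff.mp this a ha)

/-- Generators of `V(M, M')`. -/
def VGen (p : ℕ) [Fact p.Prime] (M M' : Subgroup G) : Set G :=
  {x | ∃ m ∈ M, ∃ w : G, (w ∈ WOf p M ∨ w ∈ WOf p M') ∧ x = m * w * m⁻¹}

/-- `V(M, M')`: the normal closure in `M` of `W(M) W(M')`. -/
noncomputable def VOf (p : ℕ) [Fact p.Prime] (M M' : Subgroup G) : Subgroup G :=
  Subgroup.closure (VGen p M M')

theorem PC.VGen_comm (h : PC p M M') : ∀ a ∈ VGen p M M', ∀ b ∈ VGen p M M', a * b = b * a := by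
  -- reduce to `w` against `n w' n⁻¹`
  have key : ∀ n ∈ M, ∀ w w' : G, (w ∈ WOf p M ∨ w ∈ WOf p M') → (w' ∈ WOf p M ∨ w' ∈ WOf p M') →
      w * (n * w' * n⁻¹) = (n * w' * n⁻¹) * w := by
    intro n hn w w' hw hw'
    have hWn : ∀ x ∈ WOf p M, n * x * n⁻¹ ∈ WOf p M := by
      intro x hx
      have := cj_eq_self_of_mem_normalizer (WOf_normalizer h.good hn)
      rw [← this]; exact conj_mem_cj hx
    have hWn' : ∀ x ∈ WOf p M, n⁻¹ * x * n ∈ WOf p M := by
      intro x hx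
      have := cj_eq_self_of_mem_normalizer (WOf_normalizer h.good (inv_mem hn))
      rw [← this]
      have := conj_mem_cj (g := n⁻¹) hx
      simpa using this
    rcases hw with hw | hw <;> rcases hw' with hw' | hw'
    · exact WOf_comm M w hw _ (hWn w' hw')
    · -- conjugate back
      have := h.comm12 _ (hWn' w hw) w' hw'
      calc w * (n * w' * n⁻¹) = n * ((n⁻¹ * w * n) * w') * n⁻¹ := by group
        _ = n * (w' * (n⁻¹ * w * n)) * n⁻¹ := by rw [this]
        _ = n * w' * n⁻¹ * w := by group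
    · exact (h.comm12 _ (hWn w' hw') w hw).symm
    · exact h.comm_conj hn w hw w' hw'
  rintro a ⟨m, hm, w, hw, rfl⟩ b ⟨m', hm', w', hw', rfl⟩
  have := key (m⁻¹ * m') (M.mul_mem (M.inv_mem hm) hm') w w' hw hw'
  calc m * w * m⁻¹ * (m' * w' * m'⁻¹) = m * (w * ((m⁻¹ * m') * w' * (m⁻¹ * m')⁻¹)) * m⁻¹ := by group
    _ = m * (((m⁻¹ * m') * w' * (m⁻¹ * m')⁻¹) * w) * m⁻¹ := by rw [this]
    _ = m' * w' * m'⁻¹ * (m * w * m⁻¹) := by group

theorem VGen_pow {a : G} (ha : a ∈ VGen p M M') : a ^ p = 1 := by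
  obtain ⟨m, -, w, hw, rfl⟩ := ha
  rw [conj_pow]
  rcases hw with hw | hw
  · rw [(WOf_elemAb M).2 w hw]; group
  · rw [(WOf_elemAb M').2 w hw]; group

theorem PC.VOf_elemAb (h : PC p M M') : IsElementaryAbelian p (VOf p M M') :=
  isElementaryAbelian_closure h.VGen_comm (fun _ ha => VGen_pow ha)

theorem PC.VOf_comm (h : PC p M M') : ∀ a ∈ VOf p M M', ∀ b ∈ VOf p M M', a * b = b * a :=
  fun _ ha _ hb => IsElementaryAbelian_comm h.VOf_elemAb ha hb

theorem PC.VOf_isPGroup (h : PC p M M') : IsPGroup p ↥(VOf p M M') := by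
  rintro ⟨x, hx⟩
  refine ⟨1, ?_⟩
  apply Subtype.ext
  simpa using h.VOf_elemAb.2 x hx

theorem VOf_normalizer (M M' : Subgroup G) :
    M ≤ Subgroup.normalizer ((VOf p M M' : Subgroup G) : Set G) := by
  intro n hn
  rw [mem_normalizer_iff_cj_eq]
  have hsub : ∀ k ∈ M, cj k (VOf p M M') ≤ VOf p M M' := by
    intro k hk
    unfold VOf
    rw [cj_closure, Subgroup.closure_le]
    rintro _ ⟨x, ⟨m, hm, w, hw, rfl⟩, rfl⟩
    apply Subgroup.subset_closure
    refine ⟨k * m, M.mul_mem hk hm, w, hw, ?_⟩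
    simp [MulAut.conj_apply, mul_assoc]
  apply le_antisymm (hsub n hn)
  have := hsub n⁻¹ (M.inv_mem hn)
  rw [cj_le_iff, inv_inv] at this
  exact this

theorem W_le_VOf (M M' : Subgroup G) : WOf p M ≤ VOf p M M' := by
  intro w hw
  apply Subgroup.subset_closure
  exact ⟨1, M.one_mem, w, Or.inl hw, by simp⟩

theorem W'_le_VOf (M M' : Subgroup G) : WOf p M' ≤ VOf p M M' := by
  intro w hw
  apply Subgroup.subset_closure
  exact ⟨1, M.one_mem, w, Or.inr hw, by simp⟩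

theorem PC.VOf_le (h : PC p M M') : VOf p M M' ≤ M := by
  unfold VOf
  rw [Subgroup.closure_le]
  rintro _ ⟨m, hm, w, hw, rfl⟩
  have hwM : w ∈ M := by
    rcases hw with hw | hw
    · exact WOf_le M hw
    · exact pCoreOf_le' M (h.W'_le hw)
  exact M.mul_mem (M.mul_mem hm hwM) (M.inv_mem hm)

theorem PC.VOf_le_pCoreOf (h : PC p M M') : VOf p M M' ≤ pCoreOf p M :=
  Cfsg.Agent.Lib.Helper47.le_pCoreOf h.VOf_le (VOf_normalizer M M') h.VOf_isPGroup

theorem PC.VOf_le_pCoreOf' (h : PC p M M') : VOf p M M' ≤ pCoreOf p M' :=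
  le_pCoreOf_of_abelian h.good' (h.VOf_le_pCoreOf.trans h.hO) h.VOf_comm
    (h.hO'.trans (VOf_normalizer M M'))

theorem PC.centralizer_VOf_le (h : PC p M M') :
    M ⊓ Subgroup.centralizer ((VOf p M M' : Subgroup G) : Set G) ≤ M ⊓ M' := by
  have hW' : WOf p M' ≤ M ⊓ M' := le_inf ((h.W'_le).trans (pCoreOf_le' M)) (WOf_le M')
  rw [← h.prim' (WOf p M') (WOf_ne_bot h.hQ') hW' (WOf_normalizer h.good')]
  refine inf_le_inf le_rfl ?_
  refine (Subgroup.centralizer_le ?_).trans (Subgroup.centralizer_le_normalizer _)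
  exact_mod_cast W'_le_VOf M M'

/-- The local move: an abelian `A ≤ O_p(M)` normalized by `V(M', M)` lies in `O_p(M')`. -/
theorem PC.le_pCoreOf_move (h : PC p M M') {A : Subgroup G} (hA : A ≤ pCoreOf p M)
    (hAc : ∀ a ∈ A, ∀ b ∈ A, a * b = b * a)
    (hVA : VOf p M' M ≤ Subgroup.normalizer (A : Set G)) : A ≤ pCoreOf p M' := by
  intro a ha
  refine mem_pCoreOf_of_quadratic h.good' (V := VOf p M' M) (R := pCoreOf p M) h.symm.VOf_le
    (VOf_normalizer M' M) h.symm.VOf_elemAb h.hO (Cfsg.Agent.Lib.Helper47.pCoreOf_isPGroup p M) ?_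
    (hA ha) (quad_of_normalizes hAc hVA ha)
  refine (h.symm.centralizer_VOf_le).trans ?_
  exact inf_le_right.trans (pCoreOf_normalizer M)

/-- The local move at the chamber `g`. -/
theorem PC.le_cj_pCoreOf (h : PC p M M') (g : G) {A : Subgroup G} (hA : A ≤ cj g (pCoreOf p M))
    (hAc : ∀ a ∈ A, ∀ b ∈ A, a * b = b * a)
    (hVA : cj g (VOf p M' M) ≤ Subgroup.normalizer (A : Set G)) : A ≤ cj g (pCoreOf p M') := by
  have h1 : cj g⁻¹ A ≤ pCoreOf p M := by
    rw [cj_le_iff, inv_inv]; exact hA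
  have h2 : ∀ a ∈ cj g⁻¹ A, ∀ b ∈ cj g⁻¹ A, a * b = b * a := by
    intro x hx y hy
    rw [mem_cj] at hx hy
    have := hAc _ hx _ hy
    simp only [inv_inv] at this
    calc x * y = g⁻¹ * ((g * x * g⁻¹) * (g * y * g⁻¹)) * g := by group
      _ = g⁻¹ * ((g * y * g⁻¹) * (g * x * g⁻¹)) * g := by rw [this]
      _ = y * x := by group
  have h3 : VOf p M' M ≤ Subgroup.normalizer ((cj g⁻¹ A : Subgroup G) : Set G) := by
    rw [← cj_normalizer, ← cj_le_iff]
    exact hVA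
  have := h.le_pCoreOf_move h1 h2 h3
  rw [cj_le_iff, inv_inv] at this
  exact this

end Cfsg.Agent.Lib.Helper62.PrimPair
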