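import Mathlib
import Cfsg.Agent.Lib.Helper62.PrimPairC

/-!
# Primitive pairs, part D (helper62): the path induction

`Conn Mb k s t g`: the vertex `(t, g)` of the coset graph is joined to the vertex `(s, 1)` by a path of length `k`.
`PC.V_le_cj`: along every path, `V(s) ≤ O_p(M_t)^g`.  `PC.eq`: a primitive pair of characteristic `p`, `p`-stable
on both sides, does not exist (`M₁ = M₂`).
-/

set_option autoImplicit false

namespace Cfsg.Agent.Lib.Helper62.PrimPair

open Cfsg Cfsg.Agent.Lib.Helper97 Cfsg.Agent.Lib.Helper33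

universe u

variable {G : Type u} [Group G]

/-- paths in the coset graph, starting at the vertex `(s, 1)` -/
inductive Conn (Mb : Bool → Subgroup G) : ℕ → Bool → Bool → G → Prop
  | refl {s : Bool} {g : G} : g ∈ Mb s → Conn Mb 0 s s g
  | step {k : ℕ} {s t : Bool} {g m : G} : Conn Mb k s t g → m ∈ Mb (!t) → Conn Mb (k + 1) s (!t) (g * m)

variable {Mb : Bool → Subgroup G}

theorem Conn.mul_left {k : ℕ} {s t : Bool} {g : G} (h : Conn Mb k s t g) {n : G} (hn : n ∈ Mb s) :
    Conn Mb k s t (n * g) := by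
  induction h with
  | refl hg => exact Conn.refl ((Mb _).mul_mem hn hg)
  | step _ hm ih =>
    rw [← mul_assoc]
    exact Conn.step (ih hn) hm

theorem Conn.mul_right {k : ℕ} {s t : Bool} {g : G} (h : Conn Mb k s t g) {m : G} (hm : m ∈ Mb t) :
    Conn Mb k s t (g * m) := by
  cases h with
  | refl hg => exact Conn.refl ((Mb _).mul_mem hg hm)
  | step hc hm' =>
    rw [mul_assoc]
    exact Conn.step hc ((Mb _).mul_mem hm' hm)

theorem Conn.base {k : ℕ} {s t : Bool} {g : G} (h : Conn Mb k s t g) : Conn Mb (k + 1) (!s) t g := by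
  induction h with
  | @refl s g hg =>
    have h0 : Conn Mb 0 (!s) (!s) 1 := Conn.refl (Mb _).one_mem
    have h1 : Conn Mb 1 (!s) (!(!s)) (1 * g) := Conn.step h0 (by rw [Bool.not_not]; exact hg)
    rw [one_mul, Bool.not_not] at h1
    exact h1
  | step _ hm ih => exact Conn.step ih hm

theorem Conn.symm {k : ℕ} {s t : Bool} {g : G} (h : Conn Mb k s t g) : Conn Mb k t s g⁻¹ := by
  induction h with
  | refl hg => exact Conn.refl ((Mb _).inv_mem hg)
  | step _ hm ih =>
    rw [mul_inv_rev]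
    exact (Conn.base ih).mul_left ((Mb _).inv_mem hm)

theorem Conn.first_step : ∀ {k' : ℕ} {s u : Bool} {x : G}, Conn Mb k' s u x → ∀ k : ℕ, k' = k + 1 →
    ∃ n ∈ Mb s, Conn Mb k (!s) u (n⁻¹ * x) := by
  intro k' s u x h
  induction h with
  | refl _ => intro k hk; omega
  | @step k₀ s t g m hc hm ih =>
    intro k hk
    have hk0 : k₀ = k := by omega
    subst hk0
    cases k₀ with
    | zero =>
      cases hc with
      | refl hg =>
        refine ⟨g, hg, ?_⟩
        rw [← mul_assoc, inv_mul_cancel, one_mul]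
        exact Conn.refl hm
    | succ j =>
      obtain ⟨n, hn, hc'⟩ := ih j rfl
      refine ⟨n, hn, ?_⟩
      rw [← mul_assoc]
      exact Conn.step hc' hm

variable [Finite G] {p : ℕ} [Fact p.Prime] {M₁ M₂ : Subgroup G}

/-- the two subgroups as a `Bool`-indexed family -/
def MbOf (M₁ M₂ : Subgroup G) : Bool → Subgroup G := fun b => cond b M₂ M₁

theorem PC.both (h : PC p M₁ M₂) : ∀ s : Bool, PC p (MbOf M₁ M₂ s) (MbOf M₁ M₂ (!s)) := by
  intro s
  cases s
  · exact h
  · exact h.symm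

/-- Along every path, `V(s) ≤ O_p(M_t)^g`. -/
theorem PC.V_le_cj (h : PC p M₁ M₂) : ∀ (k : ℕ) (s t : Bool) (g : G), Conn (MbOf M₁ M₂) k s t g →
    VOf p (MbOf M₁ M₂ s) (MbOf M₁ M₂ (!s)) ≤ cj g (pCoreOf p (MbOf M₁ M₂ t)) := by
  intro k
  induction k with
  | zero =>
    intro s t g hc
    cases hc with
    | refl hg =>
      rw [cj_eq_self_of_mem_normalizer (pCoreOf_normalizer _ hg)]
      exact (h.both s).VOf_le_pCoreOf
  | succ k ih =>
    intro s u x hc
    have hc0 := hc
    cases hc with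
    | @step _ _ t g m hc' hm =>
      -- `m` normalizes `O_p(M_{!t})` and `V(!t)`
      have e1 : cj (g * m) (pCoreOf p (MbOf M₁ M₂ (!t))) = cj g (pCoreOf p (MbOf M₁ M₂ (!t))) := by
        rw [cj_mul, cj_eq_self_of_mem_normalizer (pCoreOf_normalizer _ hm)]
      rw [e1]
      have hVt : VOf p (MbOf M₁ M₂ (!t)) (MbOf M₁ M₂ t) =
          VOf p (MbOf M₁ M₂ (!t)) (MbOf M₁ M₂ (!(!t))) := by rw [Bool.not_not]
      refine (h.both t).le_cj_pCoreOf g (ih s t g hc') (h.both s).VOf_comm ?_
      -- `cj g V(!t) ≤ M_s`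
      refine le_trans ?_ (VOf_normalizer (MbOf M₁ M₂ s) (MbOf M₁ M₂ (!s)))
      rw [hVt]
      have e2 : cj g (VOf p (MbOf M₁ M₂ (!t)) (MbOf M₁ M₂ (!(!t)))) =
          cj (g * m) (VOf p (MbOf M₁ M₂ (!t)) (MbOf M₁ M₂ (!(!t)))) := by
        rw [cj_mul, cj_eq_self_of_mem_normalizer (VOf_normalizer _ _ hm)]
      rw [e2]
      obtain ⟨n, hn, hc1⟩ := Conn.first_step hc0 k rfl
      have hc2 := hc1.symm
      have h3 := ih (!t) (!s) _ hc2
      have h4 : cj (g * m) (VOf p (MbOf M₁ M₂ (!t)) (MbOf M₁ M₂ (!(!t)))) ≤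
          cj n (pCoreOf p (MbOf M₁ M₂ (!s))) := by
        have := cj_mono (g := g * m) h3
        rw [← cj_mul] at this
        have e3 : g * m * (n⁻¹ * (g * m))⁻¹ = n := by group
        rw [e3] at this
        exact this
      exact h4.trans (cj_le_of_mem (h.both s).hO' hn)

/-- A primitive pair of characteristic `p`, `p`-stable on both sides, is degenerate. -/
theorem PC.eq (h : PC p M₁ M₂) : M₁ = M₂ := by
  set Mb := MbOf M₁ M₂ with hMb
  set V := VOf p M₁ M₂ with hV
  -- the common normal subgroup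
  set U : Subgroup G := ⨆ g : {g : G // ∃ k, Conn Mb k false false g}, cj (g : G)⁻¹ V with hU
  have hUQ : U ≤ pCoreOf p M₁ := by
    apply iSup_le
    rintro ⟨g, k, hk⟩
    have := h.V_le_cj k false false g hk
    rw [cj_le_iff, inv_inv]
    exact this
  have hVU : V ≤ U := by
    have h1 : ∃ k, Conn Mb k false false (1 : G) := ⟨0, Conn.refl (Mb false).one_mem⟩
    have := le_iSup (fun g : {g : G // ∃ k, Conn Mb k false false g} => cj (g : G)⁻¹ V) ⟨1, h1⟩
    simpa [cj_one] using this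
  have hUne : U ≠ ⊥ := by
    intro hcon
    have h1 : WOf p M₁ ≤ ⊥ := by
      rw [← hcon]
      exact (W_le_VOf M₁ M₂).trans hVU
    exact WOf_ne_bot h.hQ (le_bot_iff.mp h1)
  -- invariance
  have hinv : ∀ (b : Bool) (n : G), n ∈ Mb b → cj n U ≤ U := by
    intro b n hn
    rw [hU]
    unfold cj
    rw [Subgroup.map_iSup]
    apply iSup_le
    rintro ⟨g, k, hk⟩
    have hk' : ∃ k', Conn Mb k' false false (g * n⁻¹) := by
      cases b
      · exact ⟨k, hk.mul_right ((Mb false).inv_mem hn)⟩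
      · have h1 : Conn Mb (k + 1) false true (g * n⁻¹) := Conn.step hk ((Mb true).inv_mem hn)
        have h2 : Conn Mb (k + 1 + 1) false false (g * n⁻¹ * 1) := Conn.step h1 (Mb false).one_mem
        rw [mul_one] at h2
        exact ⟨_, h2⟩
    have := le_iSup (fun g : {g : G // ∃ k, Conn Mb k false false g} => cj (g : G)⁻¹ V)
      ⟨g * n⁻¹, hk'⟩
    refine le_trans (le_of_eq ?_) this
    show cj n (cj g⁻¹ V) = cj (g * n⁻¹)⁻¹ V
    rw [← cj_mul]
    congr 1
    group
  have hnorm : ∀ b : Bool, Mb b ≤ Subgroup.normalizer (U : Set G) := by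
    intro b n hn
    rw [mem_normalizer_iff_cj_eq]
    apply le_antisymm (hinv b n hn)
    have := hinv b n⁻¹ ((Mb b).inv_mem hn)
    rw [cj_le_iff, inv_inv] at this
    exact this
  have hUle : U ≤ M₁ ⊓ M₂ := le_inf (hUQ.trans (pCoreOf_le' M₁)) (hUQ.trans h.hO)
  have h1 := h.prim U hUne hUle (hnorm false)
  have h2 := h.prim' U hUne hUle (hnorm true)
  have h3 : M₂ ≤ M₁ := by
    have : M₂ ⊓ Subgroup.normalizer (U : Set G) = M₂ := inf_eq_left.mpr (hnorm true)
    rw [this] at h1
    rw [h1]; exact inf_le_left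
  have h4 : M₁ ≤ M₂ := by
    have : M₁ ⊓ Subgroup.normalizer (U : Set G) = M₁ := inf_eq_left.mpr (hnorm false)
    rw [this] at h2
    rw [h2]; exact inf_le_right
  exact le_antisymm h4 h3

end Cfsg.Agent.Lib.Helper62.PrimPair
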