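import Mathlib
import Cfsg.Agent.Lib.Helper82.ChainDefs
import Cfsg.Agent.Lib.Helper78.BrauerCount
import Cfsg.Agent.Lib.Helper78.WBORank

set_option autoImplicit false
set_option linter.unusedSectionVars false
set_option linter.style.haveILetI false

/-!
# S4651 module [BLK-ADD] `blockRank_sUnion_blocks` (helper62)

The `p`-regular rank of a union of blocks is the sum of the ranks of the blocks.  This redoes
`Helper78/WBORank.lean` for a `SameBlock`-closed set of irreducible characters.
-/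

namespace Cfsg.Agent.Lib.Helper62.S4651

open Cfsg Cfsg.Agent.Lib.Helper82 Cfsg.Agent.Lib.Helper78 Cfsg.Agent.Lib.Helper16
open scoped ComplexConjugate

section Rank

variable {G : Type*} [Group G] [Fintype G]

open scoped Classical in
/-- The reproducing property on `p`-regular elements, for a `SameBlock`-closed set. -/
theorem sum_pRegular_blockKernel_mul_irr_closed {p : ℕ} [Fact p.Prime] {M : Ideal AlgInt}
    (hM : IsPModular p M) (S : Set (IrrCharacter G))
    (hS : ∀ ξ ξ' : IrrCharacter G, ξ ∈ S → SameBlock M (ξ : G → ℂ) (ξ' : G → ℂ) → ξ' ∈ S)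
    (ψ : IrrCharacter G) {x : G} (hx : ¬ p ∣ orderOf x) :
    ∑ y ∈ Finset.univ.filter (fun y : G => ¬ p ∣ orderOf y), blockKernel S x y * (ψ : G → ℂ) y =
      if ψ ∈ S then (Fintype.card G : ℂ) * (ψ : G → ℂ) x else 0 := by
  haveI hMp : M.IsPrime := isPModular_isPrime hM
  rw [← sum_blockKernel_mul_irr S ψ x]
  rw [← Finset.sum_filter_add_sum_filter_not Finset.univ (fun y : G => ¬ p ∣ orderOf y)
    (fun y => blockKernel S x y * (ψ : G → ℂ) y)]
  rw [left_eq_add]
  apply Finset.sum_eq_zero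
  intro y hy
  simp only [Finset.mem_filter, Finset.mem_univ, true_and, not_not] at hy
  rw [blockKernel_union_eq_zero hM S hS hx hy, zero_mul]

open scoped Classical in
theorem blockRegProj_pRegularPart_closed {p : ℕ} [Fact p.Prime] {M : Ideal AlgInt}
    (hM : IsPModular p M) (S : Set (IrrCharacter G))
    (hS : ∀ ξ ξ' : IrrCharacter G, ξ ∈ S → SameBlock M (ξ : G → ℂ) (ξ' : G → ℂ) → ξ' ∈ S)
    {ψ : IrrCharacter G} (hψ : ψ ∈ S) :
    blockRegProj p S (pRegularPart p (ψ : G → ℂ)) = pRegularPart p (ψ : G → ℂ) := by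
  funext x
  rw [blockRegProj_apply]
  have hcard : (Fintype.card G : ℂ) ≠ 0 := by exact_mod_cast Fintype.card_ne_zero
  by_cases hx : p ∣ orderOf x
  · rw [pRegularPart_apply_of_singular p _ hx]
    rw [Finset.sum_eq_zero, mul_zero]
    intro φ _
    rw [pRegularPart_apply_of_singular p _ hx, mul_zero]
  · rw [pRegularPart_apply_of_regular p _ hx]
    have h1 := sum_pRegular_blockKernel_mul_irr_closed hM S hS ψ hx
    rw [if_pos hψ] at h1
    have h2 : ∑ φ ∈ Finset.univ.filter (fun φ : IrrCharacter G => φ ∈ S),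
        (∑ y : G, pRegularPart p (ψ : G → ℂ) y * conj (pRegularPart p (φ : G → ℂ) y)) *
          pRegularPart p (φ : G → ℂ) x =
        ∑ y ∈ Finset.univ.filter (fun y : G => ¬ p ∣ orderOf y),
          blockKernel S x y * (ψ : G → ℂ) y := by
      unfold blockKernel
      simp_rw [Finset.sum_mul]
      rw [Finset.sum_comm]
      rw [Finset.sum_filter]
      apply Finset.sum_congr rfl
      intro y _
      split_ifs with hy
      · apply Finset.sum_eq_zero
        intro φ _
        rw [pRegularPart_apply_of_singular p _ hy, zero_mul, zero_mul]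
      · apply Finset.sum_congr rfl
        intro φ _
        rw [pRegularPart_apply_of_regular p _ hy, pRegularPart_apply_of_regular p _ hy,
          pRegularPart_apply_of_regular p _ hx]
        ring
    rw [h2, h1]
    field_simp

open scoped Classical in
theorem blockRegProj_isProj_closed {p : ℕ} [Fact p.Prime] {M : Ideal AlgInt}
    (hM : IsPModular p M) (S : Set (IrrCharacter G))
    (hS : ∀ ξ ξ' : IrrCharacter G, ξ ∈ S → SameBlock M (ξ : G → ℂ) (ξ' : G → ℂ) → ξ' ∈ S) :
    LinearMap.IsProj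
      (Submodule.span ℂ ((fun χ : IrrCharacter G => pRegularPart p (χ : G → ℂ)) '' S))
      (blockRegProj p S) := by
  constructor
  · intro f
    unfold blockRegProj
    rw [LinearMap.smul_apply, LinearMap.sum_apply]
    apply Submodule.smul_mem
    apply Submodule.sum_mem
    intro φ hφ
    simp only [Finset.mem_filter, Finset.mem_univ, true_and] at hφ
    rw [LinearMap.smulRight_apply]
    apply Submodule.smul_mem
    exact Submodule.subset_span ⟨φ, hφ, rfl⟩
  · intro f hf
    induction hf using Submodule.span_induction with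
    | mem f hf =>
      obtain ⟨ψ, hψ, rfl⟩ := hf
      exact blockRegProj_pRegularPart_closed hM S hS hψ
    | zero => exact map_zero _
    | add f g _ _ hf hg => rw [map_add, hf, hg]
    | smul c f _ hf => rw [map_smul, hf]

/-- `|G| l(S) = ∑_{x p-regular} K_S(x, x)` for a `SameBlock`-closed set `S`. -/
theorem card_mul_blockRank_closed {p : ℕ} [Fact p.Prime] {M : Ideal AlgInt}
    (hM : IsPModular p M) (S : Set (IrrCharacter G))
    (hS : ∀ ξ ξ' : IrrCharacter G, ξ ∈ S → SameBlock M (ξ : G → ℂ) (ξ' : G → ℂ) → ξ' ∈ S) :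
    (Nat.card G : ℂ) * (blockRank p S : ℂ) =
      ∑ s : G, (if p ∣ orderOf s then 0 else blockKernel S s s) := by
  classical
  have hcard : (Fintype.card G : ℂ) ≠ 0 := by exact_mod_cast Fintype.card_ne_zero
  have h1 := (blockRegProj_isProj_closed hM S hS).trace
  rw [trace_blockRegProj] at h1
  unfold blockRank
  rw [← h1, Nat.card_eq_fintype_card, ← mul_assoc, mul_inv_cancel₀ hcard, one_mul,
    Finset.sum_comm]
  apply Finset.sum_congr rfl
  intro x _
  by_cases hx : p ∣ orderOf x
  · rw [if_pos hx]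
    apply Finset.sum_eq_zero
    intro χ _
    rw [pRegularPart_apply_of_singular p _ hx, zero_mul]
  · rw [if_neg hx]
    unfold blockKernel
    apply Finset.sum_congr rfl
    intro χ _
    rw [pRegularPart_apply_of_regular p _ hx]

end Rank

/-- **[BLK-ADD]** -/
theorem blockRank_sUnion_blocks {H : Type*} [Group H] [Finite H] {p : ℕ} [Fact p.Prime]
    {M : Ideal AlgInt} (hM : IsPModular p M)
    (𝓑 : Set (Set (IrrCharacter H))) (h𝓑 : ∀ β ∈ 𝓑, IsPBlock M β) :
    blockRank p {ψ : IrrCharacter H | ∃ β ∈ 𝓑, ψ ∈ β} = ∑ᶠ β ∈ 𝓑, blockRank p β := by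
  classical
  haveI : Fintype H := Fintype.ofFinite H
  haveI hMp : M.IsPrime := isPModular_isPrime hM
  have hSeq : {ψ : IrrCharacter H | ∃ β ∈ 𝓑, ψ ∈ β} =
      {ξ : IrrCharacter H | blockOf M (ξ : H → ℂ) ∈ 𝓑} := by
    ext ξ
    simp only [Set.mem_setOf_eq]
    constructor
    · rintro ⟨β, hβ, hξ⟩
      rw [← IsPBlock_eq_blockOf (h𝓑 β hβ) hξ]
      exact hβ
    · intro h
      exact ⟨_, h, self_mem_blockOf hMp.ne_top ξ⟩
  have hS : ∀ ξ ξ' : IrrCharacter H, ξ ∈ {ψ : IrrCharacter H | ∃ β ∈ 𝓑, ψ ∈ β} →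
      SameBlock M (ξ : H → ℂ) (ξ' : H → ℂ) → ξ' ∈ {ψ : IrrCharacter H | ∃ β ∈ 𝓑, ψ ∈ β} := by
    rintro ξ ξ' ⟨β, hβ, hξ⟩ hsb
    refine ⟨β, hβ, ?_⟩
    rw [IsPBlock_eq_blockOf (h𝓑 β hβ) hξ]
    exact mem_blockOf_iff.mpr hsb
  have h1 := card_mul_blockRank_closed hM _ hS
  have h2 := sum_pRegular_blockKernel_family hM 𝓑 h𝓑
  rw [← hSeq] at h2
  rw [h2] at h1
  have hcard : (Nat.card H : ℂ) ≠ 0 := by
    exact_mod_cast (Nat.card_pos (α := H)).ne'
  have h3 := mul_left_cancel₀ hcard h1
  have hfin : 𝓑.Finite := Set.toFinite 𝓑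
  rw [finsum_mem_eq_finite_toFinset_sum _ hfin] at h3 ⊢
  rw [← Nat.cast_sum] at h3
  exact_mod_cast h3

end Cfsg.Agent.Lib.Helper62.S4651
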