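import Mathlib
import Cfsg.Agent.Lib.Helper82.ChainDefs
import Cfsg.Agent.Lib.Helper78.BrauerCount
import Cfsg.Agent.Lib.Helper78.SMTOrtho

set_option autoImplicit false
set_option linter.unusedSectionVars false
set_option linter.style.haveILetI false

/-!
# S4651 module [BLK-CORE] `family_card_sub_rank` (helper62)

Pointwise (no class representatives) Brauer count for a family of blocks.
-/

namespace Cfsg.Agent.Lib.Helper62.S4651

open Cfsg Cfsg.Agent.Lib.Helper82 Cfsg.Agent.Lib.Helper78 Cfsg.Agent.Lib.Helper16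
open scoped ComplexConjugate

/-- casting a finite `finsum` of naturals (written in `ℤ`) to `ℂ`. -/
theorem cast_finsum_mem_nat {α : Type*} (A : Set α) (hA : A.Finite) (f : α → ℕ) :
    (((∑ᶠ a ∈ A, (f a : ℤ)) : ℤ) : ℂ) = ∑ᶠ a ∈ A, (f a : ℂ) := by
  rw [finsum_mem_eq_finite_toFinset_sum _ hA, finsum_mem_eq_finite_toFinset_sum _ hA]
  push_cast
  rfl

section Core

variable {H : Type*} [Group H] [Fintype H] {M : Ideal AlgInt} [hMp : M.IsPrime]

open scoped Classical in
/-- the sum over a union of blocks, grouped by blocks. -/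
theorem sum_filter_family_eq (𝓑 : Set (Set (IrrCharacter H))) (h𝓑 : ∀ β ∈ 𝓑, IsPBlock M β)
    (hfin : 𝓑.Finite) (f : IrrCharacter H → ℂ) :
    ∑ χ ∈ Finset.univ.filter (fun χ : IrrCharacter H => ∃ β ∈ 𝓑, χ ∈ β), f χ =
      ∑ β ∈ hfin.toFinset, ∑ χ ∈ Finset.univ.filter (fun χ : IrrCharacter H => χ ∈ β), f χ := by
  have hU : Finset.univ.filter (fun χ : IrrCharacter H => ∃ β ∈ 𝓑, χ ∈ β) =
      hfin.toFinset.biUnion
        (fun β => Finset.univ.filter (fun χ : IrrCharacter H => χ ∈ β)) := by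
    ext χ
    simp only [Finset.mem_filter, Finset.mem_univ, true_and, Finset.mem_biUnion,
      Set.Finite.mem_toFinset]
  rw [hU, Finset.sum_biUnion]
  intro β hβ β' hβ' hne
  rw [Finset.mem_coe, Set.Finite.mem_toFinset] at hβ hβ'
  rw [Function.onFun, Finset.disjoint_left]
  intro χ h1 h2
  simp only [Finset.mem_filter, Finset.mem_univ, true_and] at h1 h2
  apply hne
  rw [IsPBlock_eq_blockOf (h𝓑 β hβ) h1, IsPBlock_eq_blockOf (h𝓑 β' hβ') h2]

end Core

section Count

variable {G : Type*} [Group G] [Fintype G] {M : Ideal AlgInt} [hMp : M.IsPrime]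

open scoped Classical in
/-- the section sum at a `p`-element `u` of the norm function of a union of blocks. -/
theorem sectionSum_family {p : ℕ} [Fact p.Prime] (hM : IsPModular p M)
    (𝓑 : Set (Set (IrrCharacter G))) (h𝓑 : ∀ β ∈ 𝓑, IsPBlock M β) (u : G)
    (hu : ∃ k : ℕ, orderOf u = p ^ k) :
    sectionSum p (fun g => ∑ χ ∈ Finset.univ.filter
        (fun χ : IrrCharacter G => ∃ β ∈ 𝓑, χ ∈ β), (χ : G → ℂ) g * conj ((χ : G → ℂ) g)) u =
      (Nat.card (Subgroup.centralizer ({u} : Set G)) : ℂ) *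
        ∑ᶠ γ ∈ {γ : Set (IrrCharacter (Subgroup.centralizer ({u} : Set G))) |
            ∃ β ∈ 𝓑, IsInducedBlock M (Subgroup.centralizer ({u} : Set G)) γ β},
          (blockRank p γ : ℂ) := by
  haveI : Fintype (Subgroup.centralizer ({u} : Set G)) := Fintype.ofFinite _
  have hfin : 𝓑.Finite := Set.toFinite 𝓑
  rw [sectionSum_eq_sum_centralizer _ hu]
  have h4 : ∀ s : Subgroup.centralizer ({u} : Set G),
      (if p ∣ orderOf s then (0 : ℂ) else
        ∑ χ ∈ Finset.univ.filter (fun χ : IrrCharacter G => ∃ β ∈ 𝓑, χ ∈ β),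
          (χ : G → ℂ) (u * (s : G)) * conj ((χ : G → ℂ) (u * (s : G)))) =
      if p ∣ orderOf s then 0 else
        blockKernel {ξ : IrrCharacter (Subgroup.centralizer ({u} : Set G)) |
          blockOf M (ξ : Subgroup.centralizer ({u} : Set G) → ℂ) ∈
            {γ : Set (IrrCharacter (Subgroup.centralizer ({u} : Set G))) |
              ∃ β ∈ 𝓑, IsInducedBlock M (Subgroup.centralizer ({u} : Set G)) γ β}} s s := by
    intro s
    split_ifs with hs
    · rfl
    · rw [sum_filter_family_eq 𝓑 h𝓑 hfin]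
      have h5 : ∀ β ∈ hfin.toFinset,
          ∑ χ ∈ Finset.univ.filter (fun χ : IrrCharacter G => χ ∈ β),
            (χ : G → ℂ) (u * (s : G)) * conj ((χ : G → ℂ) (u * (s : G))) =
          ∑ ξ ∈ Finset.univ.filter (fun ξ : IrrCharacter (Subgroup.centralizer ({u} : Set G)) =>
              ξ ∈ inducingSet M (Subgroup.centralizer ({u} : Set G)) β),
            (ξ : Subgroup.centralizer ({u} : Set G) → ℂ) s *
              conj ((ξ : Subgroup.centralizer ({u} : Set G) → ℂ) s) := by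
        intro β hβ
        rw [Set.Finite.mem_toFinset] at hβ
        exact sum_block_norm_section hM u hu (h𝓑 β hβ) s hs
      rw [Finset.sum_congr rfl h5]
      unfold blockKernel
      have hd : ((hfin.toFinset : Finset (Set (IrrCharacter G))) : Set (Set (IrrCharacter G))).PairwiseDisjoint
          (fun β => Finset.univ.filter
            (fun ξ : IrrCharacter (Subgroup.centralizer ({u} : Set G)) =>
              ξ ∈ inducingSet M (Subgroup.centralizer ({u} : Set G)) β)) := by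
        intro β hβ β' hβ' hne
        rw [Finset.mem_coe, Set.Finite.mem_toFinset] at hβ hβ'
        rw [Function.onFun, Finset.disjoint_left]
        intro ξ h1 h2
        simp only [Finset.mem_filter, Finset.mem_univ, true_and, inducingSet,
          Set.mem_setOf_eq] at h1 h2
        exact hne (isInducedBlock_unique h1 h2)
      rw [← Finset.sum_biUnion hd]
      apply Finset.sum_congr _ (fun _ _ => rfl)
      ext ξ
      simp only [Finset.mem_filter, Finset.mem_univ, true_and, Finset.mem_biUnion,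
        Set.Finite.mem_toFinset, Set.mem_setOf_eq, inducingSet]
  rw [Finset.sum_congr rfl (fun s _ => h4 s),
    sum_pRegular_blockKernel_family hM _ (fun γ hγ => by
      obtain ⟨β, _, h⟩ := hγ
      exact h.1)]

open scoped Classical in
/-- **[BLK-CORE]**, complex form. -/
theorem family_card_sub_rank_complex {p : ℕ} [Fact p.Prime] (hM : IsPModular p M)
    (𝓑 : Set (Set (IrrCharacter G))) (h𝓑 : ∀ β ∈ 𝓑, IsPBlock M β) :
    (Nat.card G : ℂ) * ((Nat.card {ψ : IrrCharacter G | ∃ β ∈ 𝓑, ψ ∈ β} : ℂ) -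
        ∑ᶠ β ∈ 𝓑, (blockRank p β : ℂ)) =
      ∑ u ∈ Finset.univ.filter (fun u : G => u ≠ 1 ∧ ∃ k : ℕ, orderOf u = p ^ k),
        (Nat.card (Subgroup.centralizer ({u} : Set G)) : ℂ) *
          ∑ᶠ γ ∈ {γ : Set (IrrCharacter (Subgroup.centralizer ({u} : Set G))) |
              ∃ β ∈ 𝓑, IsInducedBlock M (Subgroup.centralizer ({u} : Set G)) γ β},
            (blockRank p γ : ℂ) := by
  obtain ⟨F, hFdef⟩ : ∃ F : G → ℂ, F = fun g =>
      ∑ χ ∈ Finset.univ.filter (fun χ : IrrCharacter G => ∃ β ∈ 𝓑, χ ∈ β),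
        (χ : G → ℂ) g * conj ((χ : G → ℂ) g) := ⟨_, rfl⟩
  -- (1)
  have h1 : ∑ g : G, F g = (Nat.card G : ℂ) *
      (Nat.card {ψ : IrrCharacter G | ∃ β ∈ 𝓑, ψ ∈ β} : ℂ) := by
    rw [hFdef, Finset.sum_comm]
    have : ∀ χ ∈ Finset.univ.filter (fun χ : IrrCharacter G => ∃ β ∈ 𝓑, χ ∈ β),
        ∑ g : G, (χ : G → ℂ) g * conj ((χ : G → ℂ) g) = (Nat.card G : ℂ) := by
      intro χ _
      rw [Cfsg.Agent.S4969.irr_orthogonality χ χ, if_pos rfl, Nat.card_eq_fintype_card]
    rw [Finset.sum_congr rfl this, Finset.sum_const, nsmul_eq_mul, mul_comm]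
    congr 2
    rw [Nat.card_eq_fintype_card, Fintype.card_subtype]
    rfl
  -- (2)
  have h2 := sum_eq_sum_sectionSum (p := p) F
  -- the term `u = 1`
  have h3 : sectionSum p F 1 = (Nat.card G : ℂ) * ∑ᶠ β ∈ 𝓑, (blockRank p β : ℂ) := by
    have hSeq : {ξ : IrrCharacter G | blockOf M (ξ : G → ℂ) ∈ 𝓑} =
        {ψ : IrrCharacter G | ∃ β ∈ 𝓑, ψ ∈ β} := by
      ext ξ
      simp only [Set.mem_setOf_eq]
      constructor
      · intro h
        exact ⟨_, h, self_mem_blockOf hMp.ne_top ξ⟩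
      · rintro ⟨β, hβ, hξ⟩
        rw [← IsPBlock_eq_blockOf (h𝓑 β hβ) hξ]
        exact hβ
    rw [← sum_pRegular_blockKernel_family hM 𝓑 h𝓑, hSeq]
    unfold sectionSum
    apply Finset.sum_congr rfl
    intro g _
    have hiff : IsPPart p g 1 ↔ ¬ p ∣ orderOf g := by
      constructor
      · rintro ⟨y, hy, _, _, hyp⟩
        rw [one_mul] at hy
        rwa [hy] at hyp
      · intro h
        exact ⟨g, one_mul g, Commute.one_left g, ⟨0, by rw [orderOf_one, pow_zero]⟩, h⟩
    by_cases hg : p ∣ orderOf g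
    · rw [if_pos hg, if_neg (fun h => hiff.mp h hg)]
    · rw [if_neg hg, if_pos (hiff.mpr hg), hFdef]
      unfold blockKernel
      apply Finset.sum_congr _ (fun _ _ => rfl)
      ext χ
      simp only [Finset.mem_filter, Finset.mem_univ, true_and, Set.mem_setOf_eq]
  -- the other terms
  have h4 : ∑ x' : G, sectionSum p F x' = sectionSum p F 1 +
      ∑ u ∈ Finset.univ.filter (fun u : G => u ≠ 1 ∧ ∃ k : ℕ, orderOf u = p ^ k),
        sectionSum p F u := by
    rw [← Finset.add_sum_erase Finset.univ _ (Finset.mem_univ (1 : G))]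
    congr 1
    rw [Finset.sum_filter]
    rw [← Finset.sum_subset (Finset.erase_subset (1 : G) Finset.univ)]
    · apply Finset.sum_congr rfl
      intro u hu
      have hu1 : u ≠ 1 := Finset.ne_of_mem_erase hu
      by_cases hup : ∃ k : ℕ, orderOf u = p ^ k
      · rw [if_pos ⟨hu1, hup⟩]
      · rw [if_neg (fun h => hup h.2), sectionSum_eq_zero F hup]
    · intro u _ hu
      have hu1 : u = 1 := by
        by_contra hne
        exact hu (Finset.mem_erase.mpr ⟨hne, Finset.mem_univ u⟩)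
      rw [if_neg (fun h => h.1 hu1)]
  rw [h1, h4, h3] at h2
  have h5 : ∀ u ∈ Finset.univ.filter (fun u : G => u ≠ 1 ∧ ∃ k : ℕ, orderOf u = p ^ k),
      sectionSum p F u = (Nat.card (Subgroup.centralizer ({u} : Set G)) : ℂ) *
          ∑ᶠ γ ∈ {γ : Set (IrrCharacter (Subgroup.centralizer ({u} : Set G))) |
              ∃ β ∈ 𝓑, IsInducedBlock M (Subgroup.centralizer ({u} : Set G)) γ β},
            (blockRank p γ : ℂ) := by
    intro u hu
    rw [hFdef]
    exact sectionSum_family hM 𝓑 h𝓑 u (Finset.mem_filter.mp hu).2.2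
  rw [Finset.sum_congr rfl h5] at h2
  rw [mul_sub, h2]
  ring

end Count

/-- **[BLK-CORE]** -/
theorem family_card_sub_rank {H : Type*} [Group H] [Finite H] {p : ℕ} [Fact p.Prime]
    {M : Ideal AlgInt} (hM : IsPModular p M)
    (𝓑 : Set (Set (IrrCharacter H))) (h𝓑 : ∀ β ∈ 𝓑, IsPBlock M β) :
    (Nat.card H : ℤ) * ((Nat.card {ψ : IrrCharacter H | ∃ β ∈ 𝓑, ψ ∈ β} : ℤ) -
        ∑ᶠ β ∈ 𝓑, (blockRank p β : ℤ)) =
      ∑ᶠ u ∈ {u : H | u ≠ 1 ∧ ∃ k : ℕ, orderOf u = p ^ k},
        (Nat.card (Subgroup.centralizer ({u} : Set H)) : ℤ) *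
          ∑ᶠ γ ∈ {γ : Set (IrrCharacter (Subgroup.centralizer ({u} : Set H))) |
              ∃ β ∈ 𝓑, IsInducedBlock M (Subgroup.centralizer ({u} : Set H)) γ β},
            (blockRank p γ : ℤ) := by
  classical
  haveI : Fintype H := Fintype.ofFinite H
  haveI hMp : M.IsPrime := isPModular_isPrime hM
  have hmain := family_card_sub_rank_complex hM 𝓑 h𝓑
  have hU : ({u : H | u ≠ 1 ∧ ∃ k : ℕ, orderOf u = p ^ k} : Set H).Finite := Set.toFinite _
  rw [finsum_mem_eq_finite_toFinset_sum _ hU]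
  have hUeq : hU.toFinset =
      Finset.univ.filter (fun u : H => u ≠ 1 ∧ ∃ k : ℕ, orderOf u = p ^ k) := by
    ext u
    simp
  rw [hUeq]
  have hcast : (((Nat.card H : ℤ) * ((Nat.card {ψ : IrrCharacter H | ∃ β ∈ 𝓑, ψ ∈ β} : ℤ) -
        ∑ᶠ β ∈ 𝓑, (blockRank p β : ℤ)) : ℤ) : ℂ) =
      ((∑ u ∈ Finset.univ.filter (fun u : H => u ≠ 1 ∧ ∃ k : ℕ, orderOf u = p ^ k),
        (Nat.card (Subgroup.centralizer ({u} : Set H)) : ℤ) *
          ∑ᶠ γ ∈ {γ : Set (IrrCharacter (Subgroup.centralizer ({u} : Set H))) |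
              ∃ β ∈ 𝓑, IsInducedBlock M (Subgroup.centralizer ({u} : Set H)) γ β},
            (blockRank p γ : ℤ) : ℤ) : ℂ) := by
    rw [Int.cast_mul, Int.cast_sub, cast_finsum_mem_nat 𝓑 (Set.toFinite 𝓑), Int.cast_sum]
    push_cast
    rw [hmain]
    apply Finset.sum_congr rfl
    intro u _
    rw [cast_finsum_mem_nat _ (Set.toFinite _)]
  exact_mod_cast hcast

end Cfsg.Agent.Lib.Helper62.S4651
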