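import Mathlib
import Cfsg.Agent.Lib.Helper82.ChainDefs
import Cfsg.Agent.Lib.Helper77.ExtFirstMainUp
import Cfsg.Agent.Lib.Helper16.BrauerHom
import Cfsg.Agent.Lib.Helper82.PullRank
import Cfsg.Agent.S0919

set_option autoImplicit false
set_option linter.unusedSectionVars false
set_option linter.style.haveILetI false

/-!
# S4651 module [BLK-TRANS] `rank_sum_centralizer_transport` (helper62)

Transport `C_{↥K}(u) ≃ K ⊓ C_G(u)` and transitivity of block induction.
-/

namespace Cfsg.Agent.Lib.Helper62.S4651

open Cfsg Cfsg.Agent.Lib.Helper82 Cfsg.Agent.Lib.Helper16 Cfsg.Agent.Lib.Helper77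

universe u

theorem pullBlock_symm_pullBlock_h62 {K₁ K₂ : Type u} [Group K₁] [Group K₂] (φ : K₁ ≃* K₂)
    (β : Set (IrrCharacter K₂)) : pullBlock φ.symm (pullBlock φ β) = β := by
  ext ξ
  rw [mem_pullBlock_iff, mem_pullBlock_iff, MulEquiv.symm_symm, irrPull_symm_irrPull]

theorem pullBlock_pullBlock_symm_h62 {K₁ K₂ : Type u} [Group K₁] [Group K₂] (φ : K₁ ≃* K₂)
    (β : Set (IrrCharacter K₁)) : pullBlock φ (pullBlock φ.symm β) = β := by
  ext ξ
  rw [mem_pullBlock_iff, mem_pullBlock_iff, MulEquiv.symm_symm, irrPull_irrPull_symm]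

/-- The identification of `C_{↥K}(u)` with `K ⊓ C_G(u)`. -/
def centInfEquiv {G : Type u} [Group G] (K : Subgroup G) (u : K) :
    ↥(Subgroup.centralizer ({u} : Set K)) ≃*
      ↥(K ⊓ Subgroup.centralizer ({(u : G)} : Set G) : Subgroup G) where
  toFun x := ⟨((x : K) : G), by
    refine Subgroup.mem_inf.mpr ⟨(x : K).2, ?_⟩
    rw [Subgroup.mem_centralizer_singleton_iff]
    have := Subgroup.mem_centralizer_singleton_iff.mp x.2
    exact congrArg Subtype.val this⟩
  invFun y := ⟨⟨(y : G), (Subgroup.mem_inf.mp y.2).1⟩, by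
    rw [Subgroup.mem_centralizer_singleton_iff]
    apply Subtype.ext
    exact Subgroup.mem_centralizer_singleton_iff.mp (Subgroup.mem_inf.mp y.2).2⟩
  left_inv x := by
    apply Subtype.ext
    apply Subtype.ext
    rfl
  right_inv y := by
    apply Subtype.ext
    rfl
  map_mul' x y := by
    apply Subtype.ext
    rfl

theorem centInfEquiv_coe {G : Type u} [Group G] (K : Subgroup G) (u : K)
    (x : ↥(Subgroup.centralizer ({u} : Set K))) :
    ((centInfEquiv K u x : ↥(K ⊓ Subgroup.centralizer ({(u : G)} : Set G) : Subgroup G)) : G) =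
      ((x : K) : G) := rfl

/-- **[BLK-TRANS]** -/
theorem rank_sum_centralizer_transport {G : Type u} [Group G] [Finite G] {p : ℕ} [Fact p.Prime]
    {M : Ideal AlgInt} (hM : IsPModular p M) {b : Set (IrrCharacter G)} (hb : IsPBlock M b)
    (K : Subgroup G) (u : K) (hu : ∃ k : ℕ, orderOf u = p ^ k) :
    (Nat.card (Subgroup.centralizer ({u} : Set K)) : ℤ) *
        ∑ᶠ γ ∈ {γ : Set (IrrCharacter (Subgroup.centralizer ({u} : Set K))) |
            ∃ β ∈ {β : Set (IrrCharacter K) | IsInducedBlock M K β b},
              IsInducedBlock M (Subgroup.centralizer ({u} : Set K)) γ β},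
          (blockRank p γ : ℤ) =
      rankFun p M b (K ⊓ Subgroup.centralizer ({(u : G)} : Set G)) := by
  classical
  haveI hMp : M.IsPrime := isPModular_isPrime hM
  haveI : Fintype G := Fintype.ofFinite G
  haveI : Fintype ↥K := Fintype.ofFinite _
  haveI : Fintype ↥(K ⊓ Subgroup.centralizer ({(u : G)} : Set G) : Subgroup G) :=
    Fintype.ofFinite _
  haveI : Fintype ↥(Subgroup.centralizer ({u} : Set K)) := Fintype.ofFinite _
  set φ := centInfEquiv K u with hφdef
  have hφ : ∀ x : ↥(Subgroup.centralizer ({u} : Set K)),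
      ((φ x : ↥(K ⊓ Subgroup.centralizer ({(u : G)} : Set G) : Subgroup G)) : G) =
        ((x : K) : G) := fun x => rfl
  unfold rankFun
  rw [Nat.card_congr φ.toEquiv]
  congr 1
  symm
  apply finsum_mem_eq_of_bijOn (pullBlock φ)
  · refine ⟨?_, ?_, ?_⟩
    · -- maps to
      intro γ hγ
      have hγ' : IsInducedBlock M
          (K ⊓ Subgroup.centralizer ({(u : G)} : Set G) : Subgroup G) γ b := hγ
      have hblock : IsPBlock M (pullBlock φ γ) := isPBlock_pullBlock φ hγ'.1
      -- the induced block exists
      obtain ⟨k, hk⟩ := hu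
      have hP : IsPGroup p ↥(Subgroup.zpowers u) :=
        IsPGroup.of_card (n := k) (by rw [Nat.card_zpowers, hk])
      have hPH : Subgroup.zpowers u ≤ Subgroup.centralizer ({u} : Set K) := by
        rw [Subgroup.zpowers_le, Subgroup.mem_centralizer_singleton_iff]
      have hCH : Subgroup.centralizer ((Subgroup.zpowers u : Subgroup K) : Set K) ≤
          Subgroup.centralizer ({u} : Set K) := by
        apply Subgroup.centralizer_le
        intro x hx
        rw [Set.mem_singleton_iff] at hx
        rw [hx]
        exact Subgroup.mem_zpowers u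
      have hHC : Subgroup.centralizer ({u} : Set K) ≤
          Subgroup.centralizer ((Subgroup.zpowers u : Subgroup K) : Set K) := by
        rw [Subgroup.le_centralizer_iff, Subgroup.zpowers_le, Subgroup.mem_centralizer_iff]
        intro h hh
        have := Subgroup.mem_centralizer_singleton_iff.mp hh
        exact this
      have hHN : Subgroup.centralizer ({u} : Set K) ≤
          Subgroup.normalizer ((Subgroup.zpowers u : Subgroup K) : Set K) :=
        hHC.trans (Subgroup.centralizer_le_normalizer _)
      obtain ⟨β, hβ⟩ := Cfsg.Agent.S0919.result p M hM (Subgroup.zpowers u)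
        (Subgroup.centralizer ({u} : Set K)) hP hPH hCH hHN (pullBlock φ γ) hblock
      have hβb : IsInducedBlock M K β b :=
        isInducedBlock_trans_transport K
          (K ⊓ Subgroup.centralizer ({(u : G)} : Set G) : Subgroup G)
          (Subgroup.centralizer ({u} : Set K)) φ hφ hβ hγ'
      exact ⟨β, hβb, hβ⟩
    · -- injective
      intro γ _ γ' _ h
      have h1 : pullBlock φ.symm (pullBlock φ γ) = pullBlock φ.symm (pullBlock φ γ') := by
        rw [h]
      rwa [pullBlock_symm_pullBlock_h62, pullBlock_symm_pullBlock_h62] at h1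
    · -- surjective
      rintro γ' ⟨β, hβb, hγ'β⟩
      have hβb' : IsInducedBlock M K β b := hβb
      refine ⟨pullBlock φ.symm γ', ?_, ?_⟩
      · have hblock : IsPBlock M (pullBlock φ.symm γ') := isPBlock_pullBlock φ.symm hγ'β.1
        have h1 : IsInducedBlock M (Subgroup.centralizer ({u} : Set K))
            (irrTransport φ '' (pullBlock φ.symm γ')) β := by
          have : irrTransport φ '' (pullBlock φ.symm γ') = γ' :=
            pullBlock_pullBlock_symm_h62 φ γ'
          rw [this]
          exact hγ'β
        exact isInducedBlock_trans_transport' K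
          (K ⊓ Subgroup.centralizer ({(u : G)} : Set G) : Subgroup G)
          (Subgroup.centralizer ({u} : Set K)) φ hφ hblock h1 hβb'
      · exact pullBlock_pullBlock_symm_h62 φ γ'
  · intro γ _
    rw [blockRank_pullBlock]

end Cfsg.Agent.Lib.Helper62.S4651
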