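/-
helper62, project SQF (helper58, S4130): module [S-ABEL], in `_of` form over [LEMMA-A].
-/
import Mathlib
import Cfsg.Prelude.Def_Solvable
import Cfsg.Agent.Lib.Helper58.SQF.Defs
import Cfsg.Agent.Lib.Helper58.SQF.Basic

set_option autoImplicit false

open Subgroup

namespace Cfsg.Agent.Lib.Helper62.SQF

open Cfsg.Agent.Lib.Helper58.SQF

namespace Abel

variable {X : Type*} [Group X]

theorem centralizer_zpowers (b : X) :
    centralizer ((zpowers b : Subgroup X) : Set X) = centralizer ({b} : Set X) := by
  ext g
  rw [mem_centralizer_iff, mem_centralizer_singleton_iff]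
  constructor
  · intro h
    exact (h b (mem_zpowers b)).symm
  · intro h y hy
    obtain ⟨n, rfl⟩ := mem_zpowers_iff.mp hy
    have hc : Commute g b := h
    exact ((hc.zpow_right n).eq).symm

/-- if `x` and `b` commute, `x ^ (p ^ k) = 1` and `b` has prime order `r ≠ p`, then anything commuting
with `x * b` commutes with `b` and with `x` -/
theorem centralizer_mul_le (p r k : ℕ) (hp : p.Prime) (hr : r.Prime) (hpr : p ≠ r) (x b : X)
    (hxb : x * b = b * x) (hx : x ^ (p ^ k) = 1) (hb : orderOf b = r) :
    centralizer ({x * b} : Set X) ≤ centralizer ({x} : Set X) ⊓ centralizer ({b} : Set X) := by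
  have hcop : Nat.Coprime (p ^ k) r := Nat.Coprime.pow_left k ((Nat.coprime_primes hp hr).mpr hpr)
  obtain ⟨t, -, ht⟩ := Nat.exists_mul_mod_eq_one_of_coprime hcop hr.one_lt
  have hcxb : Commute x b := hxb
  have hb' : (x * b) ^ (p ^ k * t) = b := by
    rw [hcxb.mul_pow, pow_mul x, hx, one_pow, one_mul, ← pow_mod_orderOf, hb, ht, pow_one]
  intro g hg
  rw [mem_centralizer_singleton_iff] at hg
  have hcg : Commute g (x * b) := hg
  have hgb : Commute g b := by
    have := hcg.pow_right (p ^ k * t)
    rwa [hb'] at this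
  have hgx : Commute g x := by
    have h1 : x = (x * b) * b⁻¹ := by group
    rw [h1]
    exact hcg.mul_right hgb.inv_right
  rw [mem_inf, mem_centralizer_singleton_iff, mem_centralizer_singleton_iff]
  exact ⟨hgx.eq, hgb.eq⟩

end Abel

open Abel in
/-- [S-ABEL], with the conclusion of [LEMMA-A] for `B = ⟨b⟩` as a hypothesis. -/
theorem abelian_of_split_of {X : Type*} [Group X] [Finite X] (hSQ : SQ X) (p r : ℕ) [Fact p.Prime]
    [Fact r.Prime] (hpr : p ≠ r) (P : Subgroup X) [P.Normal] (hP : IsPGroup p P) (b : X)
    (hb : orderOf b = r) (hbP : ¬ P ≤ centralizer ({b} : Set X))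
    (hA : ∀ B : Subgroup X, IsPGroup r B → B ≤ normalizer (P : Set X) →
      (centralizer (B : Set X)).relIndex P = p →
      Nat.card (⁅P, B⁆ : Subgroup X) = p ∧ ⁅P, B⁆ ⊓ centralizer (B : Set X) = ⊥ ∧
      (P ⊓ centralizer (B : Set X)) ⊔ ⁅P, B⁆ = P ∧
      ⁅P, B⁆ ≤ centralizer (P : Set X)) :
    ∀ x ∈ P, ∀ y ∈ P, x * y = y * x := by
  have hp : p.Prime := Fact.out
  have hr : r.Prime := Fact.out
  set B : Subgroup X := zpowers b with hBdef
  have hB : IsPGroup r B := by
    apply IsPGroup.of_card (n := 1)
    rw [pow_one, hBdef, Nat.card_zpowers, hb]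
  have hBP : B ≤ normalizer (P : Set X) := by
    rw [Subgroup.normalizer_eq_top]
    exact le_top
  have hcent : centralizer (B : Set X) = centralizer ({b} : Set X) := centralizer_zpowers b
  have hidx : (centralizer (B : Set X)).relIndex P = p := by
    rw [hcent]
    rcases (Nat.dvd_prime hp).mp (hSQ.relIndex_dvd_prime p P hP b) with h | h
    · exact absurd (Subgroup.relIndex_eq_one.mp h) hbP
    · exact h
  obtain ⟨-, -, hsup, hcentral⟩ := hA B hB hBP hidx
  rw [hcent] at hsup hidx
  set C : Subgroup X := P ⊓ centralizer ({b} : Set X) with hC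
  set R0 : Subgroup X := ⁅P, B⁆ with hR0
  have hCP : C ≤ P := inf_le_left
  have hCidx : C.relIndex P = p := by
    rw [hC, inf_comm, Subgroup.inf_relIndex_right]
    exact hidx
  -- every element of `C` commutes with every element of `C`
  have hCC : ∀ x ∈ C, C ≤ centralizer ({x} : Set X) := by
    intro x hx
    have hxP : x ∈ P := hCP hx
    have hxb : x * b = b * x := by
      have : x ∈ centralizer ({b} : Set X) := (mem_inf.mp hx).2
      rwa [mem_centralizer_singleton_iff] at this
    obtain ⟨k, hk⟩ := hP ⟨x, hxP⟩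
    have hxk : x ^ (p ^ k) = 1 := by
      have := congrArg Subtype.val hk
      simpa using this
    have h1 := centralizer_mul_le p r k hp hr hpr x b hxb hxk hb
    set D : Subgroup X := P ⊓ centralizer ({x * b} : Set X) with hD
    have hDC : D ≤ C := by
      rw [hD, hC]
      exact inf_le_inf_left _ (h1.trans inf_le_right)
    have hDidx : D.relIndex P ∣ p := by
      rw [hD, inf_comm, Subgroup.inf_relIndex_right]
      exact hSQ.relIndex_dvd_prime p P hP (x * b)
    have h2 := Subgroup.relIndex_mul_relIndex D C P hDC hCP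
    rw [hCidx] at h2
    have h3 : D.relIndex C = 1 := by
      rw [← h2] at hDidx
      have h4 : D.relIndex C * p ∣ 1 * p := by rwa [one_mul]
      have h5 := Nat.dvd_of_mul_dvd_mul_right hp.pos h4
      exact Nat.dvd_one.mp h5
    have h6 : C ≤ D := Subgroup.relIndex_eq_one.mp h3
    exact (h6.trans inf_le_right).trans (h1.trans inf_le_left)
  -- `C` centralizes `P`
  have hCcent : C ≤ centralizer (P : Set X) := by
    intro c hc
    have h1 : P ≤ centralizer ({c} : Set X) := by
      rw [← hsup]
      apply sup_le (hCC c hc)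
      intro z hz
      have h2 := hcentral hz
      rw [mem_centralizer_iff] at h2
      rw [mem_centralizer_singleton_iff]
      exact (h2 c (hCP hc)).symm
    rw [mem_centralizer_iff]
    intro u hu
    have h3 := h1 hu
    rwa [mem_centralizer_singleton_iff] at h3
  have hPcent : P ≤ centralizer (P : Set X) := by
    calc P = C ⊔ R0 := hsup.symm
      _ ≤ centralizer (P : Set X) := sup_le hCcent hcentral
  intro x hx y hy
  have h1 := hPcent hy
  rw [mem_centralizer_iff] at h1
  exact h1 x hx

end Cfsg.Agent.Lib.Helper62.SQF
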