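/-
helper62, project SQF (helper58, S4130): modules [CYC] and [SUPSOLV].
-/
import Mathlib
import Cfsg.Prelude.Def_Solvable
import Cfsg.Prelude.Def_SolvableStructure
import Cfsg.Agent.Lib.Helper9.SS
import Cfsg.Agent.Lib.Helper9.SS3

set_option autoImplicit false

open Subgroup

namespace Cfsg.Agent.Lib.Helper62.SQF

/-- [CYC] a finite abelian group of square-free order is cyclic. -/
theorem isCyclic_of_comm_of_squarefree {A : Type*} [Group A] [Finite A]
    (hcomm : ∀ a b : A, a * b = b * a) (hsq : Squarefree (Nat.card A)) : IsCyclic A := by
  haveI : IsZGroup A := IsZGroup.of_squarefree hsq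
  haveI : Group.IsNilpotent A := by
    letI : CommGroup A := { (inferInstance : Group A) with mul_comm := hcomm }
    infer_instance
  infer_instance

universe u

/-- a finite group with commutative multiplication is supersolvable -/
theorem isSupersolvable_of_comm_aux (n : ℕ) :
    ∀ (G : Type u) [Group G] [Finite G], (∀ a b : G, a * b = b * a) → Nat.card G = n →
      Cfsg.IsSupersolvable G := by
  induction n using Nat.strong_induction_on with
  | _ n ih =>
    intro G _ _ hcomm hn
    by_cases htriv : Subsingleton G
    · exact Cfsg.Agent.Lib.Helper9.isSupersolvable_of_subsingleton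
    · rw [not_subsingleton_iff_nontrivial] at htriv
      obtain ⟨g, hg⟩ := exists_ne (1 : G)
      let N : Subgroup G := Subgroup.zpowers g
      haveI hN : N.Normal := by
        constructor
        intro x hx y
        have : y * x * y⁻¹ = x := by rw [hcomm y x, mul_inv_cancel_right]
        rwa [this]
      haveI : IsCyclic N := by
        show IsCyclic (Subgroup.zpowers g)
        infer_instance
      apply Cfsg.Agent.Lib.Helper9.isSupersolvable_of_quotient_cyclic N
      have hlt : Nat.card (G ⧸ N) < n := by
        have h1 : Nat.card (G ⧸ N) * Nat.card N = Nat.card G := by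
          rw [mul_comm]
          exact (Subgroup.card_eq_card_quotient_mul_card_subgroup N).symm ▸ (mul_comm _ _)
        have h2 : 1 < Nat.card N := by
          rw [Subgroup.one_lt_card_iff_ne_bot]
          intro h
          apply hg
          have : g ∈ N := Subgroup.mem_zpowers g
          rw [h] at this
          exact Subgroup.mem_bot.mp this
        have h3 : 0 < Nat.card (G ⧸ N) := Nat.card_pos
        rw [← hn, ← h1]
        nlinarith
      refine ih _ hlt (G ⧸ N) ?_ rfl
      intro a b
      induction a using QuotientGroup.induction_on with
      | H a =>
        induction b using QuotientGroup.induction_on with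
        | H b =>
          rw [← QuotientGroup.mk_mul, ← QuotientGroup.mk_mul, hcomm]

/-- a finite group with commutative multiplication is supersolvable -/
theorem isSupersolvable_of_comm {G : Type*} [Group G] [Finite G]
    (hcomm : ∀ a b : G, a * b = b * a) : Cfsg.IsSupersolvable G :=
  isSupersolvable_of_comm_aux _ G hcomm rfl

/-- [SUPSOLV] a finite group with cyclic derived subgroup is supersolvable. -/
theorem isSupersolvable_of_cyclic_commutator {G : Type*} [Group G] [Finite G]
    (hcyc : IsCyclic (commutator G)) : Cfsg.IsSupersolvable G := by
  haveI : IsCyclic (commutator G) := hcyc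
  apply Cfsg.Agent.Lib.Helper9.isSupersolvable_of_quotient_cyclic (commutator G)
  apply isSupersolvable_of_comm
  intro a b
  induction a using QuotientGroup.induction_on with
  | H a =>
    induction b using QuotientGroup.induction_on with
    | H b =>
      rw [← QuotientGroup.mk_mul, ← QuotientGroup.mk_mul, QuotientGroup.eq]
      rw [commutator_eq_closure]
      apply Subgroup.subset_closure
      refine ⟨b⁻¹, a⁻¹, ?_⟩
      rw [commutatorElement_def]
      group

end Cfsg.Agent.Lib.Helper62.SQF
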