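/-
helper62, project SQF (helper58, S4130): module [S-DICH].
-/
import Mathlib

set_option autoImplicit false

open Subgroup

namespace Cfsg.Agent.Lib.Helper62.SQF

namespace Dich

variable {X : Type*} [Group X]

/-- the commutator map `x ↦ g x g⁻¹ x⁻¹` on an abelian normal subgroup, as a homomorphism -/
def kHom (P : Subgroup X) [hn : P.Normal] (hcomm : ∀ x ∈ P, ∀ y ∈ P, x * y = y * x) (g : X) :
    ↥P →* ↥P where
  toFun x := ⟨g * x * g⁻¹ * (x : X)⁻¹, P.mul_mem (hn.conj_mem x x.2 g) (P.inv_mem x.2)⟩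
  map_one' := by
    apply Subtype.ext
    simp
  map_mul' x y := by
    apply Subtype.ext
    show g * ((x : X) * y) * g⁻¹ * ((x : X) * y)⁻¹ =
      (g * x * g⁻¹ * (x : X)⁻¹) * (g * y * g⁻¹ * (y : X)⁻¹)
    have h1 : g * (y : X) * g⁻¹ * (y : X)⁻¹ ∈ P :=
      P.mul_mem (hn.conj_mem y y.2 g) (P.inv_mem y.2)
    have h2 : ((x : X))⁻¹ ∈ P := P.inv_mem x.2
    have h3 := hcomm _ h2 _ h1
    calc g * ((x : X) * y) * g⁻¹ * ((x : X) * y)⁻¹
        = g * x * g⁻¹ * ((g * y * g⁻¹ * (y : X)⁻¹) * (x : X)⁻¹) := by group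
      _ = g * x * g⁻¹ * ((x : X)⁻¹ * (g * y * g⁻¹ * (y : X)⁻¹)) := by rw [h3]
      _ = (g * x * g⁻¹ * (x : X)⁻¹) * (g * y * g⁻¹ * (y : X)⁻¹) := by group

theorem kHom_coe (P : Subgroup X) [P.Normal] (hcomm : ∀ x ∈ P, ∀ y ∈ P, x * y = y * x) (g : X)
    (x : ↥P) : ((kHom P hcomm g x : ↥P) : X) = g * x * g⁻¹ * (x : X)⁻¹ := rfl

theorem kHom_ker (P : Subgroup X) [P.Normal] (hcomm : ∀ x ∈ P, ∀ y ∈ P, x * y = y * x) (g : X) :
    (kHom P hcomm g).ker = (centralizer ({g} : Set X)).subgroupOf P := by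
  ext x
  rw [MonoidHom.mem_ker, mem_subgroupOf, mem_centralizer_singleton_iff]
  constructor
  · intro h
    have h1 := congrArg Subtype.val h
    rw [kHom_coe] at h1
    have h2 : g * (x : X) * g⁻¹ * (x : X)⁻¹ = 1 := h1
    calc (x : X) * g = (g * (x : X) * g⁻¹ * (x : X)⁻¹)⁻¹ * (g * x) := by group
      _ = g * x := by rw [h2, inv_one, one_mul]
  · intro h
    apply Subtype.ext
    rw [kHom_coe]
    show g * (x : X) * g⁻¹ * (x : X)⁻¹ = 1
    rw [← h]
    group

theorem card_range_kHom (P : Subgroup X) [P.Normal] (hcomm : ∀ x ∈ P, ∀ y ∈ P, x * y = y * x)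
    (g : X) : Nat.card (kHom P hcomm g).range = (centralizer ({g} : Set X)).relIndex P := by
  rw [← Subgroup.index_ker, kHom_ker]
  rfl

/-- a subgroup of prime order is contained in any subgroup sharing a non-trivial element with it -/
theorem le_of_prime_card {G : Type*} [Group G] (p : ℕ) [Fact p.Prime] (H K : Subgroup G)
    (hH : Nat.card H = p) (z : G) (hzH : z ∈ H) (hzK : z ∈ K) (hz : z ≠ 1) : H ≤ K := by
  intro w hw
  have hne : (⟨z, hzH⟩ : H) ≠ 1 := by
    intro h
    exact hz (congrArg Subtype.val h)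
  have htop := zpowers_eq_top_of_prime_card (G := H) hH hne
  have hmem : (⟨w, hw⟩ : H) ∈ Subgroup.zpowers (⟨z, hzH⟩ : H) := by
    rw [htop]
    trivial
  obtain ⟨n, hn⟩ := Subgroup.mem_zpowers_iff.mp hmem
  have h1 : z ^ n = w := by
    have := congrArg Subtype.val hn
    simpa using this
  rw [← h1]
  exact K.zpow_mem hzK n

theorem card_eq_prime_of_dvd {G : Type*} [Group G] (p : ℕ) [hp : Fact p.Prime] (H : Subgroup G)
    (hd : Nat.card H ∣ p) (z : G) (hzH : z ∈ H) (hz : z ≠ 1) : Nat.card H = p := by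
  rcases (Nat.dvd_prime hp.out).mp hd with h | h
  · exfalso
    rw [Subgroup.card_eq_one] at h
    rw [h, Subgroup.mem_bot] at hzH
    exact hz hzH
  · exact h

end Dich

open Dich in
/-- [S-DICH] `P` abelian normal, every `g` centralizes a subgroup of index dividing `p` of `P`;
if `a`, `b` act non-trivially with different fixed-point subgroups, then every commutator
`a x a⁻¹ x⁻¹` (`x ∈ P`) is a commutator `b y b⁻¹ y⁻¹` (`y ∈ P`). -/
theorem dichotomy {X : Type*} [Group X] [Finite X] (p : ℕ) [Fact p.Prime] (P : Subgroup X)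
    [P.Normal] (hcomm : ∀ x ∈ P, ∀ y ∈ P, x * y = y * x)
    (hidx : ∀ g : X, (centralizer ({g} : Set X)).relIndex P ∣ p)
    (a b : X) (ha : ¬ P ≤ centralizer ({a} : Set X)) (hb : ¬ P ≤ centralizer ({b} : Set X))
    (hne : P ⊓ centralizer ({a} : Set X) ≠ P ⊓ centralizer ({b} : Set X)) :
    ∀ x ∈ P, ∃ y ∈ P, a * x * a⁻¹ * x⁻¹ = b * y * b⁻¹ * y⁻¹ := by
  have hp : p.Prime := Fact.out
  -- the two fixed-point subgroups inside `P`
  set Ca : Subgroup ↥P := (centralizer ({a} : Set X)).subgroupOf P with hCa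
  set Cb : Subgroup ↥P := (centralizer ({b} : Set X)).subgroupOf P with hCb
  have hCab : Ca ≠ Cb := by
    intro h
    apply hne
    have := (Subgroup.subgroupOf_inj).mp h
    rw [inf_comm, this, inf_comm]
  have hCa_ne : Ca ≠ ⊤ := by
    intro h
    exact ha (Subgroup.subgroupOf_eq_top.mp h)
  have hCb_ne : Cb ≠ ⊤ := by
    intro h
    exact hb (Subgroup.subgroupOf_eq_top.mp h)
  have hCa_idx : Ca.index = p := by
    rcases (Nat.dvd_prime hp).mp (hidx a) with h | h
    · exact absurd (Subgroup.index_eq_one.mp h) hCa_ne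
    · exact h
  have hCb_idx : Cb.index = p := by
    rcases (Nat.dvd_prime hp).mp (hidx b) with h | h
    · exact absurd (Subgroup.index_eq_one.mp h) hCb_ne
    · exact h
  -- two subgroups of the same prime index, different: neither contains the other
  have key : ∀ (C D : Subgroup ↥P), C.index = p → D.index = p → C ≠ D → ¬ D ≤ C := by
    intro C D hC hD hCD hle
    have h1 := Subgroup.relIndex_mul_index hle
    rw [hC, hD] at h1
    have h2 : D.relIndex C = 1 := by
      have hp0 : 0 < p := hp.pos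
      have : D.relIndex C * p = 1 * p := by rw [h1, one_mul]
      exact Nat.eq_of_mul_eq_mul_right hp0 this
    exact hCD (le_antisymm (Subgroup.relIndex_eq_one.mp h2) hle)
  -- `x₁ ∈ C_P(b) \ C_P(a)`
  obtain ⟨x₁, hx₁b, hx₁a⟩ := Set.not_subset.mp (key Ca Cb hCa_idx hCb_idx hCab)
  -- conjugation by `b` on `P`
  let cb : ↥P ≃* ↥P := MulAut.conjNormal b
  have hcb : ∀ x : ↥P, ((cb x : ↥P) : X) = b * x * b⁻¹ := fun x => MulAut.conjNormal_apply b x
  set Ca' : Subgroup ↥P := Ca.comap cb.toMonoidHom with hCa'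
  have hCa'_idx : Ca'.index = p := by
    rw [hCa']
    exact (Subgroup.index_comap_of_surjective (f := cb.toMonoidHom) Ca cb.surjective).trans hCa_idx
  have hCa'b : Ca' ≠ Cb := by
    intro h
    apply key Ca Cb hCa_idx hCb_idx hCab
    intro x hx
    have h1 : x ∈ Ca' := by rw [h]; exact hx
    have h2 : cb x ∈ Ca := h1
    have h3 : cb x = x := by
      apply Subtype.ext
      rw [hcb]
      have h4 : (x : X) * b = b * x := by
        have := hx
        rw [hCb, mem_subgroupOf, mem_centralizer_singleton_iff] at this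
        exact this
      rw [← h4]
      group
    rwa [h3] at h2
  -- `x₂` with `b x₂ b⁻¹ ∈ C_P(a)`, `x₂ ∉ C_P(b)`
  obtain ⟨x₂, hx₂a, hx₂b⟩ := Set.not_subset.mp (key Cb Ca' hCb_idx hCa'_idx hCa'b.symm)
  -- the three homomorphisms
  set ka := kHom P hcomm a with hka
  set kb := kHom P hcomm b with hkb
  set kab := kHom P hcomm (a * b) with hkab
  have hmul : ∀ x : ↥P, kab x = ka (cb x) * kb x := by
    intro x
    apply Subtype.ext
    rw [Subgroup.coe_mul, kHom_coe, kHom_coe, kHom_coe, hcb]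
    group
  have hka_ker : ka.ker = Ca := kHom_ker P hcomm a
  have hkb_ker : kb.ker = Cb := kHom_ker P hcomm b
  -- `z₁ = ka x₁ = kab x₁ ≠ 1`
  have hz₁ : ka x₁ ≠ 1 := by
    intro h
    apply hx₁a
    rw [← hka_ker]
    exact h
  have hz₁' : kab x₁ = ka x₁ := by
    rw [hmul]
    have h1 : kb x₁ = 1 := by
      have : x₁ ∈ kb.ker := by rw [hkb_ker]; exact hx₁b
      exact this
    have h3 : cb x₁ = x₁ := by
      apply Subtype.ext
      rw [hcb]
      have h4 : (x₁ : X) * b = b * x₁ := by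
        have this : x₁ ∈ Cb := hx₁b
        rw [hCb, mem_subgroupOf, mem_centralizer_singleton_iff] at this
        exact this
      rw [← h4]
      group
    rw [h1, h3, mul_one]
  -- `z₂ = kb x₂ = kab x₂ ≠ 1`
  have hz₂ : kb x₂ ≠ 1 := by
    intro h
    apply hx₂b
    rw [← hkb_ker]
    exact h
  have hz₂' : kab x₂ = kb x₂ := by
    rw [hmul]
    have h1 : ka (cb x₂) = 1 := by
      have : cb x₂ ∈ ka.ker := by rw [hka_ker]; exact hx₂a
      exact this
    rw [h1, one_mul]
  -- cardinalities of the ranges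
  have hra : Nat.card ka.range = p := by
    apply card_eq_prime_of_dvd p ka.range _ (ka x₁) ⟨x₁, rfl⟩ hz₁
    rw [card_range_kHom]
    exact hidx a
  have hrab : Nat.card kab.range = p := by
    apply card_eq_prime_of_dvd p kab.range _ (ka x₁) ⟨x₁, hz₁'⟩ hz₁
    rw [card_range_kHom]
    exact hidx (a * b)
  have h1 : ka.range ≤ kab.range :=
    le_of_prime_card p ka.range kab.range hra (ka x₁) ⟨x₁, rfl⟩ ⟨x₁, hz₁'⟩ hz₁
  have h2 : kab.range ≤ kb.range :=
    le_of_prime_card p kab.range kb.range hrab (kb x₂) ⟨x₂, hz₂'⟩ ⟨x₂, rfl⟩ hz₂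
  intro x hx
  obtain ⟨y, hy⟩ := h2 (h1 ⟨⟨x, hx⟩, rfl⟩)
  refine ⟨y, y.2, ?_⟩
  have := congrArg Subtype.val hy
  rw [kHom_coe, kHom_coe] at this
  exact this.symm

end Cfsg.Agent.Lib.Helper62.SQF
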