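import Mathlib
import Cfsg.Agent.Lib.Helper32.SLMD.Defs2
import Cfsg.Agent.Lib.Helper47.SlmdFixRep
import Cfsg.Agent.Lib.Helper65.SlmdGPsi
import Cfsg.Agent.Lib.Helper86.SlmdNConjA2

/-!
# SLMD-[N-HFORM] (helper62): `h + (q^k − 1) m' = c`
-/

set_option autoImplicit false
set_option linter.unusedSectionVars false
set_option linter.unusedVariables false

namespace Cfsg.Agent.Lib.Helper32.SLMD

open Matrix Cfsg.Agent.Lib.Helper41 Cfsg.Agent.Lib.Helper39 Module
open scoped LinearAlgebra.Projectivization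

universe u v

namespace HForm

section generic

variable {G : Type*} [Group G] {N : Type*} [Group N] [Fintype N]
  {V : Type*} [AddCommGroup V] [Module ℂ V] [FiniteDimensional ℂ V]

theorem sum_inv_char_eq_zero (lam : N →* ℂˣ) (hlam : lam ≠ 1) :
    ∑ n : N, (((lam n)⁻¹ : ℂˣ) : ℂ) = 0 := by
  have h1 : ((Units.coeHom ℂ).comp lam⁻¹ : N →* ℂ) ≠ 1 := by
    intro h
    apply hlam
    apply MonoidHom.ext
    intro n
    have h2 := DFunLike.congr_fun h n
    have h3 : (((lam n)⁻¹ : ℂˣ) : ℂ) = 1 := by simpa using h2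
    have h4 : (lam n)⁻¹ = 1 := Units.ext h3
    simpa using h4
  have h5 := sum_hom_units_eq_zero ((Units.coeHom ℂ).comp lam⁻¹ : N →* ℂ) h1
  simpa using h5

/-- own copy of [G-CONST] `const_mult` -/
theorem const_mult_aux (ρ : Representation ℂ G V) (ν : N →* G) (τ : ℂ)
    (hτ : ∀ n : N, n ≠ 1 → ρ.character (ν n) = τ) (lam : N →* ℂˣ) (hlam : lam ≠ 1) :
    (Fintype.card N : ℂ) * (finrank ℂ ↥(eigenSub ρ ν lam) : ℂ) = (finrank ℂ V : ℂ) - τ := by
  classical
  rw [← sum_twist_character ρ ν lam]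
  have h1 : ∀ n : N, (((lam n)⁻¹ : ℂˣ) : ℂ) * ρ.character (ν n) =
      (((lam n)⁻¹ : ℂˣ) : ℂ) * τ + (if n = 1 then ((finrank ℂ V : ℂ) - τ) else 0) := by
    intro n
    by_cases hn : n = 1
    · subst hn
      simp
    · rw [if_neg hn, add_zero, hτ n hn]
  rw [Finset.sum_congr rfl (fun n _ => h1 n), Finset.sum_add_distrib, ← Finset.sum_mul,
    sum_inv_char_eq_zero lam hlam, zero_mul, zero_add, Finset.sum_ite_eq' Finset.univ (1 : N)]
  simp

/-- own copy of [G-CONST] `const_fix` -/
theorem const_fix_aux (ρ : Representation ℂ G V) (ν : N →* G) (τ : ℂ)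
    (hτ : ∀ n : N, n ≠ 1 → ρ.character (ν n) = τ) :
    (Fintype.card N : ℂ) * (finrank ℂ ↥(eigenSub ρ ν 1) : ℂ) =
      (finrank ℂ V : ℂ) + ((Fintype.card N : ℂ) - 1) * τ := by
  classical
  rw [← sum_twist_character ρ ν 1]
  have h1 : ∀ n : N, ((((1 : N →* ℂˣ) n)⁻¹ : ℂˣ) : ℂ) * ρ.character (ν n) =
      τ + (if n = 1 then ((finrank ℂ V : ℂ) - τ) else 0) := by
    intro n
    by_cases hn : n = 1
    · subst hn
      simp
    · rw [if_neg hn, add_zero, hτ n hn]
      simp
  rw [Finset.sum_congr rfl (fun n _ => h1 n), Finset.sum_add_distrib,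
    Finset.sum_ite_eq' Finset.univ (1 : N)]
  simp only [Finset.sum_const, Finset.card_univ, nsmul_eq_mul, Finset.mem_univ, if_true]
  ring

end generic

end HForm

variable {F : Type*} [Field F] [Fintype F] [DecidableEq F] {k : ℕ}

section gg

variable {V : Type*} [AddCommGroup V] [Module ℂ V] [FiniteDimensional ℂ V]

open HForm in
/-- [N-HFORM] -/
theorem hform [NeZero k] (ρ : Representation ℂ (GG F k) V) :
    ∃ m' : ℕ, (∀ lam : Multiplicative (Fin k → F) →* ℂˣ, lam ≠ 1 →
        finrank ℂ ↥(eigenSub ρ (qHom : _ →* GG F k) 1 ⊓ eigenSub ρ (a2Hom : _ →* GG F k) lam) = m') ∧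
      hR ρ + (Fintype.card F ^ k - 1) * m' = cQ ρ := by
  classical
  -- the representation of `A₂` on `U = C_V(Q)`
  set σ := uRep ρ with hσ
  set e0 : Fin k → F := Pi.single 0 1 with he0
  set τ' : ℂ := σ.character (Multiplicative.ofAdd e0) with hτ'
  have hQne : (Fintype.card (Multiplicative (F × (Fin k → F))) : ℂ) ≠ 0 := by
    exact_mod_cast Fintype.card_ne_zero
  -- the character of `σ` is constant off the identity
  have hconst : ∀ n : Multiplicative (Fin k → F), n ≠ 1 →
      σ.character ((MonoidHom.id (Multiplicative (Fin k → F))) n) = τ' := by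
    intro n hn
    have hb : (Multiplicative.toAdd n : Fin k → F) ≠ 0 := by
      intro h
      apply hn
      exact h
    obtain ⟨g, hgQ, hgb⟩ := exists_conj_a2El (Multiplicative.toAdd n) hb
    choose f hf using hgQ
    have hfinj : Function.Injective f := by
      intro x y hxy
      have h1 : g * qHom x * g⁻¹ = g * qHom y * g⁻¹ := by rw [hf x, hf y, hxy]
      have h2 : (qHom x : GG F k) = qHom y := by
        have := congrArg (fun z => g⁻¹ * z * g) h1
        simpa [mul_assoc] using this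
      exact qHom_injective h2
    have hfbij : Function.Bijective f := Finite.injective_iff_bijective.mp hfinj
    have h1 := fixRep_character ρ (qHom : _ →* GG F k) (a2Hom : _ →* GG F k)
      a2Hom_normalizes_qHom n
    have h2 := fixRep_character ρ (qHom : _ →* GG F k) (a2Hom : _ →* GG F k)
      a2Hom_normalizes_qHom (Multiplicative.ofAdd e0)
    have h3 : ∑ x : Multiplicative (F × (Fin k → F)), ρ.character (a2Hom n * qHom x) =
        ∑ x : Multiplicative (F × (Fin k → F)),
          ρ.character ((a2Hom (Multiplicative.ofAdd e0) : GG F k) * qHom x) := by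
      rw [← (Equiv.ofBijective f hfbij).sum_comp
        (fun y => ρ.character ((a2Hom (Multiplicative.ofAdd e0) : GG F k) * qHom y))]
      apply Finset.sum_congr rfl
      intro x _
      rw [Equiv.ofBijective_apply, ← hf x]
      have h4 : (a2Hom (Multiplicative.ofAdd e0) : GG F k) = g * a2Hom n * g⁻¹ := by
        rw [a2Hom_apply, a2Hom_apply, toAdd_ofAdd]
        exact hgb.symm
      rw [h4]
      have h5 : g * a2Hom n * g⁻¹ * (g * qHom x * g⁻¹) = g * (a2Hom n * qHom x) * g⁻¹ := by group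
      rw [h5, Representation.char_conj]
    have h6 : (Fintype.card (Multiplicative (F × (Fin k → F))) : ℂ) * σ.character n =
        (Fintype.card (Multiplicative (F × (Fin k → F))) : ℂ) * τ' := by
      rw [hτ', hσ]
      unfold uRep
      rw [h1, h2, h3]
    exact mul_left_cancel₀ hQne h6
  -- cardinalities
  have hcardN : Fintype.card (Multiplicative (Fin k → F)) = Fintype.card F ^ k := by
    rw [Fintype.card_multiplicative, Fintype.card_fun, Fintype.card_fin]
  have hNpos : 1 ≤ Fintype.card F ^ k := Nat.one_le_pow _ _ Fintype.card_pos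
  have hNne : ((Fintype.card F ^ k : ℕ) : ℂ) ≠ 0 := by
    exact_mod_cast (Nat.pos_iff_ne_zero.mp hNpos)
  -- identification of the eigenspaces
  have hid : ∀ lam : Multiplicative (Fin k → F) →* ℂˣ,
      finrank ℂ ↥(eigenSub σ (MonoidHom.id (Multiplicative (Fin k → F))) lam) =
        finrank ℂ ↥(eigenSub ρ (qHom : _ →* GG F k) 1 ⊓ eigenSub ρ (a2Hom : _ →* GG F k) lam) := by
    intro lam
    have := fixRep_eigen_finrank ρ (qHom : _ →* GG F k) (a2Hom : _ →* GG F k)
      a2Hom_normalizes_qHom (MonoidHom.id (Multiplicative (Fin k → F))) lam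
    rw [MonoidHom.comp_id] at this
    exact this
  have hU : finrank ℂ ↥(eigenSub ρ (qHom : _ →* GG F k) 1) = cQ ρ := rfl
  have hmult : ∀ lam : Multiplicative (Fin k → F) →* ℂˣ, lam ≠ 1 →
      ((Fintype.card F ^ k : ℕ) : ℂ) *
        (finrank ℂ ↥(eigenSub ρ (qHom : _ →* GG F k) 1 ⊓ eigenSub ρ (a2Hom : _ →* GG F k) lam) : ℂ) =
        (cQ ρ : ℂ) - τ' := by
    intro lam hlam
    have := const_mult_aux σ (MonoidHom.id (Multiplicative (Fin k → F))) τ' hconst lam hlam
    rw [hcardN, hid lam, hU] at this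
    exact this
  have hfix : ((Fintype.card F ^ k : ℕ) : ℂ) * (hR ρ : ℂ) =
      (cQ ρ : ℂ) + (((Fintype.card F ^ k : ℕ) : ℂ) - 1) * τ' := by
    have := const_fix_aux σ (MonoidHom.id (Multiplicative (Fin k → F))) τ' hconst
    rw [hcardN, hid 1, hU] at this
    exact this
  -- a non-trivial character of `A₂`
  obtain ⟨ψ, hψ⟩ := exists_addChar_ne_one (F := F)
  have hlam0 : (prChar ψ (0 : Fin k) : Multiplicative (Fin k → F) →* ℂˣ) ≠ 1 :=
    prChar_ne_one ψ hψ 0
  refine ⟨finrank ℂ ↥(eigenSub ρ (qHom : _ →* GG F k) 1 ⊓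
    eigenSub ρ (a2Hom : _ →* GG F k) (prChar ψ (0 : Fin k))), ?_, ?_⟩
  · intro lam hlam
    have h1 := hmult lam hlam
    have h2 := hmult _ hlam0
    have h3 := mul_left_cancel₀ hNne (h1.trans h2.symm)
    exact_mod_cast h3
  · have h2 := hmult _ hlam0
    set m' := finrank ℂ ↥(eigenSub ρ (qHom : _ →* GG F k) 1 ⊓
      eigenSub ρ (a2Hom : _ →* GG F k) (prChar ψ (0 : Fin k))) with hm'
    have hcast : (((Fintype.card F ^ k - 1 : ℕ)) : ℂ) = ((Fintype.card F ^ k : ℕ) : ℂ) - 1 := by
      rw [Nat.cast_sub hNpos, Nat.cast_one]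
    have h4 : ((Fintype.card F ^ k : ℕ) : ℂ) * ((hR ρ + (Fintype.card F ^ k - 1) * m' : ℕ) : ℂ) =
        ((Fintype.card F ^ k : ℕ) : ℂ) * (cQ ρ : ℂ) := by
      rw [Nat.cast_add, Nat.cast_mul, hcast, mul_add, hfix]
      have h5 : ((Fintype.card F ^ k : ℕ) : ℂ) * ((((Fintype.card F ^ k : ℕ) : ℂ) - 1) * (m' : ℂ)) =
          (((Fintype.card F ^ k : ℕ) : ℂ) - 1) * ((cQ ρ : ℂ) - τ') := by
        rw [← h2]
        ring
      rw [h5]
      ring
    have h6 := mul_left_cancel₀ hNne h4
    exact_mod_cast h6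

end gg

end Cfsg.Agent.Lib.Helper32.SLMD
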