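import Mathlib
import Cfsg.Agent.Lib.Helper94.SPMD.Defs

/-!
# SPMD-[C-CHAR2] (helper62): a finite field of even order has characteristic two
-/

set_option autoImplicit false

namespace Cfsg.Agent.Lib.Helper94.SPMD

open Matrix Module

section C
variable {F : Type*} [Field F] [Fintype F] {n : ℕ}

/-- **[C-CHAR2]** -/
theorem two_eq_zero_of_even (heven : Even (Fintype.card F)) : (2 : F) = 0 := by
  have h1 : ringChar F = 2 := by
    rw [FiniteField.even_card_iff_char_two]
    exact Nat.even_iff.mp heven
  have h2 : ((ringChar F : ℕ) : F) = 0 := ringChar.Nat.cast_ringChar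
  rw [h1] at h2
  exact_mod_cast h2

end C

end Cfsg.Agent.Lib.Helper94.SPMD
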