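import Mathlib
import Cfsg.Agent.Lib.Helper94.SPMD.Defs
import Cfsg.Agent.S0270
import Cfsg.Agent.S0269

/-!
# SPMD-[S-KER] (helper62): a normal subgroup of `Sp_{2n}(F)` with a non-central element is everything
-/

set_option autoImplicit false

namespace Cfsg.Agent.Lib.Helper94.SPMD

open Matrix Module
open scoped commutatorElement

namespace SKer

/-- in a perfect group with simple central quotient, a normal subgroup containing a non-central
element is everything -/
theorem normal_eq_top_of_simple_quotient {G : Type*} [Group G]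
    (hsimple : IsSimpleGroup (G ⧸ Subgroup.center G)) (hperf : commutator G = ⊤)
    (N : Subgroup G) [N.Normal] (x : G) (hx : x ∈ N) (hnc : ∃ g, g * x ≠ x * g) : N = ⊤ := by
  haveI := hsimple
  have hsurj : Function.Surjective (QuotientGroup.mk' (Subgroup.center G)) :=
    QuotientGroup.mk'_surjective _
  haveI hnorm : (N.map (QuotientGroup.mk' (Subgroup.center G))).Normal :=
    Subgroup.Normal.map inferInstance _ hsurj
  have hne : N.map (QuotientGroup.mk' (Subgroup.center G)) ≠ ⊥ := by
    intro h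
    have h1 : QuotientGroup.mk' (Subgroup.center G) x ∈
        N.map (QuotientGroup.mk' (Subgroup.center G)) := Subgroup.mem_map_of_mem _ hx
    rw [h, Subgroup.mem_bot] at h1
    have h2 : x ∈ Subgroup.center G := by
      rwa [QuotientGroup.mk'_apply, QuotientGroup.eq_one_iff] at h1
    obtain ⟨g, hg⟩ := hnc
    exact hg (Subgroup.mem_center_iff.mp h2 g)
  have htop : N.map (QuotientGroup.mk' (Subgroup.center G)) = ⊤ :=
    (Subgroup.Normal.eq_bot_or_eq_top hnorm).resolve_left hne
  -- every element is a product of an element of `N` and a central element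
  have hdec : ∀ g : G, ∃ a ∈ N, ∃ z ∈ Subgroup.center G, g = a * z := by
    intro g
    have h1 : QuotientGroup.mk' (Subgroup.center G) g ∈
        N.map (QuotientGroup.mk' (Subgroup.center G)) := by
      rw [htop]
      trivial
    obtain ⟨a, ha, hag⟩ := Subgroup.mem_map.mp h1
    refine ⟨a, ha, a⁻¹ * g, ?_, by group⟩
    have h2 : ((a : G) : G ⧸ Subgroup.center G) = (g : G ⧸ Subgroup.center G) := hag
    exact QuotientGroup.eq.mp h2
  have hcomm : commutator G ≤ N := by
    rw [commutator_def, Subgroup.commutator_le]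
    intro g _ h _
    obtain ⟨a, ha, z, hz, rfl⟩ := hdec g
    obtain ⟨b, hb, w, hw, rfl⟩ := hdec h
    have hz' := Subgroup.mem_center_iff.mp hz
    have hw' := Subgroup.mem_center_iff.mp hw
    have h1 : ⁅a * z, b * w⁆ = ⁅a, b⁆ := by
      rw [commutatorElement_def, commutatorElement_def]
      have e1 : (a * z)⁻¹ = a⁻¹ * z⁻¹ := by
        rw [_root_.mul_inv_rev]
        exact (Subgroup.mem_center_iff.mp (Subgroup.inv_mem _ hz) a⁻¹).symm
      have e2 : (b * w)⁻¹ = b⁻¹ * w⁻¹ := by
        rw [_root_.mul_inv_rev]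
        exact (Subgroup.mem_center_iff.mp (Subgroup.inv_mem _ hw) b⁻¹).symm
      rw [e1, e2]
      calc a * z * (b * w) * (a⁻¹ * z⁻¹) * (b⁻¹ * w⁻¹)
          = a * (z * (b * w * a⁻¹)) * z⁻¹ * (b⁻¹ * w⁻¹) := by group
        _ = a * ((b * w * a⁻¹) * z) * z⁻¹ * (b⁻¹ * w⁻¹) := by rw [← hz' (b * w * a⁻¹)]
        _ = a * b * (w * (a⁻¹ * b⁻¹)) * w⁻¹ := by group
        _ = a * b * ((a⁻¹ * b⁻¹) * w) * w⁻¹ := by rw [← hw' (a⁻¹ * b⁻¹)]
        _ = a * b * a⁻¹ * b⁻¹ := by group
    rw [h1, commutatorElement_def]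
    have h2 : a * b * a⁻¹ ∈ N := ‹N.Normal›.conj_mem b hb a
    have h3 : a * b * a⁻¹ * b⁻¹ = (a * b * a⁻¹) * b⁻¹ := rfl
    rw [h3]
    exact N.mul_mem h2 (N.inv_mem hb)
  rw [hperf] at hcomm
  exact top_le_iff.mp hcomm

end SKer

section S
variable {F : Type*} [Field F] [Fintype F] {n : ℕ}

/-- **[S-KER]** a normal subgroup of `Sp_{2n}(F)` containing a non-central element is everything -/
theorem normal_eq_top (hn : 2 ≤ n) (hex : n = 2 → 3 ≤ Fintype.card F)
    (N : Subgroup (Matrix.symplecticGroup (Fin n) F)) [N.Normal]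
    (x : Matrix.symplecticGroup (Fin n) F) (hx : x ∈ N) (hnc : ∃ g, g * x ≠ x * g) : N = ⊤ := by
  have hsimple : IsSimpleGroup (Cfsg.PSp n F) := Cfsg.Agent.S0270.result n hn hex
  have hperf : commutator (Matrix.symplecticGroup (Fin n) F) = ⊤ := by
    apply Cfsg.Agent.S0269.result n
    rcases Nat.lt_or_ge 2 n with h | h
    · exact Or.inl h
    · have h2 : n = 2 := le_antisymm h hn
      exact Or.inr (Or.inl ⟨h2, hex h2⟩)
  exact SKer.normal_eq_top_of_simple_quotient hsimple hperf N x hx hnc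

end S

end Cfsg.Agent.Lib.Helper94.SPMD
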