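import Mathlib
import Cfsg.Agent.Lib.Helper62.SympCyclicE

/-!
# Cyclic `p'`-groups acting on extraspecial groups with only central fixed points

Subgroup form: `P, H ≤ G`, `P` extraspecial of order `p ^ (2 n + 1)`, `H` cyclic of order prime to
`p` normalizing `P` with `C_P(x) = Z(P)` for `1 ≠ x ∈ H`: then `#H ∣ p ^ n + 1` or `#H ∣ p ^ n - 1`.
-/

set_option autoImplicit false

namespace Cfsg.Agent.Lib.Helper62.SympCyclic

variable {G : Type*} [Group G]

/-- conjugation by an element of the normalizer, as an automorphism of the subgroup -/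
def conjP (P : Subgroup G) (y : G) (hy : y ∈ Subgroup.normalizer (P : Set G)) : ↥P ≃* ↥P where
  toFun a := ⟨y * a * y⁻¹, (Subgroup.mem_normalizer_iff.mp hy a).mp a.2⟩
  invFun a := ⟨y⁻¹ * a * y, by
    have h1 := (Subgroup.mem_normalizer_iff.mp (Subgroup.inv_mem _ hy) a).mp a.2
    rwa [inv_inv] at h1⟩
  left_inv a := by
    apply Subtype.ext
    show y⁻¹ * (y * a * y⁻¹) * y = a
    group
  right_inv a := by
    apply Subtype.ext
    show y * (y⁻¹ * a * y) * y⁻¹ = a
    group
  map_mul' a b := by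
    apply Subtype.ext
    show y * (a * b) * y⁻¹ = (y * a * y⁻¹) * (y * b * y⁻¹)
    group

theorem conjP_apply (P : Subgroup G) (y : G) (hy : y ∈ Subgroup.normalizer (P : Set G)) (a : ↥P) :
    ((conjP P y hy a : ↥P) : G) = y * a * y⁻¹ := rfl

theorem conjP_pow_apply (P : Subgroup G) (y : G) (hy : y ∈ Subgroup.normalizer (P : Set G)) (k : ℕ)
    (a : ↥P) : (((conjP P y hy) ^ k) a : G) = y ^ k * a * (y ^ k)⁻¹ := by
  induction k generalizing a with
  | zero => simp
  | succ k ih =>
    rw [pow_succ', MulAut.mul_apply, conjP_apply, ih, pow_succ']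
    group

theorem cyclic_on_extraspecial [Finite G] {p : ℕ} [Fact p.Prime] (P H : Subgroup G)
    (hP : Cfsg.IsExtraspecial p ↥P) (n : ℕ) (hn : Nat.card P = p ^ (2 * n + 1)) (hH : IsCyclic H)
    (hcop : (Nat.card H).Coprime p) (hHP : H ≤ Subgroup.normalizer (P : Set G))
    (hfix : ∀ x ∈ H, x ≠ 1 → P ⊓ Subgroup.centralizer {x} = (Subgroup.center ↥P).map P.subtype) :
    Nat.card H ∣ p ^ n + 1 ∨ Nat.card H ∣ p ^ n - 1 := by
  classical
  obtain ⟨g, hg⟩ := hH.exists_generator
  have hord : orderOf (g : G) = Nat.card H := by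
    rw [Subgroup.orderOf_coe]
    exact orderOf_eq_card_of_forall_mem_zpowers hg
  have hgN : (g : G) ∈ Subgroup.normalizer (P : Set G) := hHP g.2
  have hcentral : ∀ y ∈ H, ∀ z ∈ Subgroup.center ↥P, y * (z : G) = z * y := by
    intro y hy z hz
    by_cases hy1 : y = 1
    · rw [hy1, one_mul, mul_one]
    · have h1 : (z : G) ∈ (Subgroup.center ↥P).map P.subtype := ⟨z, hz, rfl⟩
      rw [← hfix y hy hy1] at h1
      have h2 : (z : G) ∈ Subgroup.centralizer {y} := h1.2
      rw [Subgroup.mem_centralizer_iff] at h2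
      exact h2 y (Set.mem_singleton y)
  apply extraspecial_aut hP n hn (Nat.card H) Nat.card_pos hcop (conjP P g hgN)
  · -- `φ ^ h = 1`
    apply MulEquiv.ext
    intro a
    apply Subtype.ext
    rw [conjP_pow_apply, ← hord, pow_orderOf_eq_one]
    simp
  · -- trivial on the centre
    intro z hz
    apply Subtype.ext
    rw [conjP_apply, hcentral g g.2 z hz]
    group
  · -- fixed points are central
    intro k hk a ha
    have hy1 : (g : G) ^ k ≠ 1 := by
      intro h1
      apply hk
      rw [← hord]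
      exact orderOf_dvd_of_pow_eq_one h1
    have hyH : (g : G) ^ k ∈ H := H.pow_mem g.2 k
    have h1 : (g : G) ^ k * (a : G) * ((g : G) ^ k)⁻¹ = a := by
      rw [← conjP_pow_apply P g hgN k a, ha]
    have h2 : (a : G) ∈ P ⊓ Subgroup.centralizer {(g : G) ^ k} := by
      refine ⟨a.2, ?_⟩
      show (a : G) ∈ Subgroup.centralizer {(g : G) ^ k}
      rw [Subgroup.mem_centralizer_iff]
      intro y hy
      rw [Set.mem_singleton_iff] at hy
      subst hy
      calc (g : G) ^ k * a = ((g : G) ^ k * a * ((g : G) ^ k)⁻¹) * (g : G) ^ k := by group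
        _ = a * (g : G) ^ k := by rw [h1]
    rw [hfix _ hyH hy1] at h2
    obtain ⟨z, hz, hza⟩ := h2
    have : z = a := Subtype.ext hza
    rw [← this]
    exact hz

end Cfsg.Agent.Lib.Helper62.SympCyclic
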