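import Mathlib
import Cfsg.Agent.Lib.Helper74.FrobStar
import Cfsg.Agent.Lib.Helper81.IrrTwist

/-!
# Wielandt's generalisation of Frobenius' theorem (helper62)

`N ≤ G`, `K ⊴ N`, and `N ∩ N^g ≤ K` for `g ∉ N` (in the form: a conjugate by `g ∉ N` of an element
of `N` that lands in `N` lands in `K`).  Then there is a normal subgroup `M` of `G` with
`M ∩ N ≤ K` and `|K| [G:N] ≤ |M|`.
-/

set_option autoImplicit false

namespace Cfsg.Agent.Lib.Helper62.WielandtTI

open Cfsg Cfsg.Agent.Lib.Helper78 Cfsg.Agent.Lib.Helper75 Cfsg.Agent.Lib.Helper74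
  Cfsg.Agent.Lib.Helper77
open scoped ComplexConjugate Pointwise

universe u

section

variable {G : Type u} [Group G] [Fintype G] (N : Subgroup G) (K : Subgroup N)

/-- Wielandt's trivial-intersection hypothesis for the pair `(N, K)`. -/
def WTI : Prop :=
  ∀ g : G, g ∉ N → ∀ x : G, x ∈ N → ∀ h : g⁻¹ * x * g ∈ N, (⟨g⁻¹ * x * g, h⟩ : N) ∈ K

variable {N K}

/-- Induction from `N` of a class function vanishing on `K`: values on `N`. -/
theorem indFun_of_mem (hW : WTI N K) {θ : N → ℂ} (hθ : IsClassFunction N θ)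
    (hθK : ∀ k : N, k ∈ K → θ k = 0) {x : G} (hx : x ∈ N) :
    indFun N θ x = θ ⟨x, hx⟩ := by
  classical
  unfold indFun
  have key : ∀ g : G, extendByZero N θ (g⁻¹ * x * g) = if g ∈ N then θ ⟨x, hx⟩ else 0 := by
    intro g
    split_ifs with hg
    · rw [extendByZero_of_mem N θ (N.mul_mem (N.mul_mem (N.inv_mem hg) hx) hg)]
      have := hθ ⟨x, hx⟩ (⟨g, hg⟩⁻¹ : N)
      rw [inv_inv] at this
      exact this
    · by_cases hmem : g⁻¹ * x * g ∈ N
      · rw [extendByZero_of_mem N θ hmem]
        exact hθK _ (hW g hg x hx hmem)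
      · exact extendByZero_of_not_mem N θ hmem
  simp only [key]
  rw [Finset.sum_ite, Finset.sum_const_zero, add_zero, Finset.sum_const, nsmul_eq_mul]
  have hc : (Finset.univ.filter (· ∈ N)).card = Nat.card N :=
    (Nat.subtype_card _ (by simp)).symm
  rw [hc]
  have hH : (Nat.card N : ℂ) ≠ 0 := by
    have : Nat.card N ≠ 0 := Nat.card_pos.ne'
    exact_mod_cast this
  field_simp

/-- Induction of a class function vanishing on `K` vanishes at elements none of whose
conjugates lies in `N \ K`. -/
theorem indFun_of_forall_conj_mem {θ : N → ℂ} (hθK : ∀ k : N, k ∈ K → θ k = 0) {x : G}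
    (hx : ∀ g : G, ∀ h : g⁻¹ * x * g ∈ N, (⟨g⁻¹ * x * g, h⟩ : N) ∈ K) :
    indFun N θ x = 0 := by
  unfold indFun
  rw [Finset.sum_eq_zero, mul_zero]
  intro g _
  by_cases hmem : g⁻¹ * x * g ∈ N
  · rw [extendByZero_of_mem N θ hmem]
    exact hθK _ (hx g hmem)
  · exact extendByZero_of_not_mem N θ hmem

theorem frobStar_of_mem (hW : WTI N K) {ψ : N → ℂ} (hψ : IsClassFunction N ψ)
    (hψK : ∀ k : N, k ∈ K → ψ k = ψ 1) {x : G} (hx : x ∈ N) :
    frobStar N ψ x = ψ ⟨x, hx⟩ := by
  unfold frobStar
  rw [Pi.add_apply, indFun_of_mem hW _ _ hx]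
  · simp
  · apply isClassFunction_sub hψ
    intro g h
    rfl
  · intro k hk
    simp [hψK k hk]

theorem frobStar_of_forall_conj_mem {ψ : N → ℂ}
    (hψK : ∀ k : N, k ∈ K → ψ k = ψ 1) {x : G}
    (hx : ∀ g : G, ∀ h : g⁻¹ * x * g ∈ N, (⟨g⁻¹ * x * g, h⟩ : N) ∈ K) :
    frobStar N ψ x = ψ 1 := by
  unfold frobStar
  rw [Pi.add_apply, indFun_of_forall_conj_mem _ hx]
  · simp
  · intro k hk
    simp [hψK k hk]

/-- isometry, given that `frobStar ψ` restricts to `ψ` -/
theorem classInner_frobStar_frobStar_of_res [Fintype N]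
    {ψ : N → ℂ} (hres : (fun h : N => frobStar N ψ h) = ψ) :
    classInner (frobStar N ψ) (frobStar N ψ) = classInner ψ ψ := by
  have h1G : IsClassFunction G (1 : G → ℂ) := fun _ _ => rfl
  have hres1 : (fun h : N => (1 : G → ℂ) h) = (1 : N → ℂ) := rfl
  have hone : classInner (1 : G → ℂ) (frobStar N ψ) = classInner (1 : N → ℂ) ψ := by
    rw [← classInner_conj_symm, classInner_frobStar_left N ψ h1G, hres1, classInner_one_one,
      classInner_one_one, ← classInner_conj_symm ψ 1]
    congr 1
    ring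
  rw [classInner_frobStar_left N ψ (isClassFunction_frobStar N ψ), hres, hone]
  ring

theorem isIrrCharacter_frobStar_of_res [Fintype N] {φ : N → ℂ} (hφ : IsIrrCharacter N φ)
    (hres : (fun h : N => frobStar N φ h) = φ) : IsIrrCharacter G (frobStar N φ) := by
  apply isIrrCharacter_of_int_coeff (isClassFunction_frobStar N φ)
    (classInner_frobStar_int N (IsIrrCharacter.isCharacter hφ))
  · rw [classInner_frobStar_frobStar_of_res hres, classInner_irr_self hφ]
  · rw [frobStar_one, IsCharacter.apply_one_eq_charDegree (IsIrrCharacter.isCharacter hφ)]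
    have := IsIrrCharacter.charDegree_pos hφ
    simpa using this

end

section main

variable {G : Type u} [Group G] [Finite G] (N : Subgroup G) (K : Subgroup N) [K.Normal]

/-- **Wielandt's theorem** (counting form). -/
theorem exists_normal (hW : WTI N K) :
    ∃ M : Subgroup G, M.Normal ∧ (∀ x : N, (x : G) ∈ M → x ∈ K) ∧
      Nat.card K * N.index ≤ Nat.card M := by
  classical
  have : Fintype G := Fintype.ofFinite G
  have : Fintype N := Fintype.ofFinite N
  have : Fintype (N ⧸ K) := Fintype.ofFinite _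
  let infl : IrrCharacter (N ⧸ K) → (N → ℂ) := fun χ =>
    (χ : N ⧸ K → ℂ) ∘ (QuotientGroup.mk' K)
  have hinfl_irr : ∀ χ, IsIrrCharacter N (infl χ) := fun χ =>
    Helper81.isIrrCharacter_comp_surjective χ.2 (QuotientGroup.mk' K)
      (QuotientGroup.mk'_surjective K)
  have hinfl_one : ∀ χ : IrrCharacter (N ⧸ K), infl χ 1 = (χ : N ⧸ K → ℂ) 1 := by
    intro χ
    simp [infl]
  have hinflK : ∀ (χ : IrrCharacter (N ⧸ K)) (k : N), k ∈ K → infl χ k = infl χ 1 := by
    intro χ k hk
    have h1 : (QuotientGroup.mk' K) k = 1 := (QuotientGroup.eq_one_iff k).mpr hk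
    simp only [infl, Function.comp_apply, h1, map_one]
  have hres : ∀ χ, (fun h : N => frobStar N (infl χ) h) = infl χ := by
    intro χ
    funext h
    exact frobStar_of_mem hW
      (IsCharacter.isClassFunction (IsIrrCharacter.isCharacter (hinfl_irr χ))) (hinflK χ) h.2
  let star : IrrCharacter (N ⧸ K) → IrrCharacter G := fun χ =>
    ⟨frobStar N (infl χ), isIrrCharacter_frobStar_of_res (hinfl_irr χ) (hres χ)⟩
  let M : Subgroup G := ⨅ χ : IrrCharacter (N ⧸ K), irrKer (star χ)
  have hMn : M.Normal := Subgroup.normal_iInf_normal (fun χ => irrKer_normal (star χ))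
  have hmemM : ∀ g : G, g ∈ M ↔ ∀ χ : IrrCharacter (N ⧸ K),
      frobStar N (infl χ) g = infl χ 1 := by
    intro g
    simp only [M, Subgroup.mem_iInf, mem_irrKer]
    apply forall_congr'
    intro χ
    show frobStar N (infl χ) g = frobStar N (infl χ) 1 ↔ _
    rw [frobStar_one]
  refine ⟨M, hMn, ?_, ?_⟩
  · -- `M ∩ N ≤ K`
    intro x hx
    have hconj : IsConj ((QuotientGroup.mk' K) x) 1 := by
      apply isConj_of_forall_irr_eq
      intro χ
      have h1 := (hmemM x).mp hx χ
      have h2 : frobStar N (infl χ) (x : G) = infl χ x := congrFun (hres χ) x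
      rw [h2, hinfl_one] at h1
      exact h1
    have h1 : (QuotientGroup.mk' K) x = 1 := by
      rw [isConj_one_left] at hconj
      exact hconj
    exact (QuotientGroup.eq_one_iff x).mp h1
  · -- counting
    set X : Set G := {x | ∀ g : G, ∀ h : g⁻¹ * x * g ∈ N, (⟨g⁻¹ * x * g, h⟩ : N) ∈ K} with hX
    have hXM : X ⊆ (M : Set G) := by
      intro x hx
      exact (hmemM x).mpr (fun χ => frobStar_of_forall_conj_mem (hinflK χ) hx)
    let f : (G ⧸ N) × {d : N // d ∉ K} → G := fun p =>
      p.1.out * ((p.2 : N) : G) * (p.1.out)⁻¹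
    have hXc : Xᶜ ⊆ Set.range f := by
      intro x hx
      simp only [hX, Set.mem_compl_iff, Set.mem_ofPred_eq, not_forall] at hx
      obtain ⟨g, hmem, hnK⟩ := hx
      set q : G ⧸ N := (g : G ⧸ N) with hq
      have hn : (q.out)⁻¹ * g ∈ N := by
        have := QuotientGroup.mk_out_eq_mul N g
        obtain ⟨n, hn⟩ := this
        rw [hq, hn]
        simp
      set n : N := ⟨(q.out)⁻¹ * g, hn⟩ with hn'
      set d : N := ⟨g⁻¹ * x * g, hmem⟩ with hd
      have hndK : n * d * n⁻¹ ∉ K := by
        intro h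
        apply hnK
        have := (inferInstance : K.Normal).conj_mem _ h n⁻¹
        simpa [mul_assoc] using this
      refine ⟨(q, ⟨n * d * n⁻¹, hndK⟩), ?_⟩
      simp only [f, hn', hd, Subgroup.coe_mul, Subgroup.coe_inv]
      group
    have h1 : X.ncard + Xᶜ.ncard = Nat.card G :=
      Set.ncard_add_ncard_compl X (Set.toFinite _) (Set.toFinite _)
    have h2 : Xᶜ.ncard ≤ N.index * (Nat.card N - Nat.card K) := by
      calc Xᶜ.ncard ≤ (Set.range f).ncard := Set.ncard_le_ncard hXc (Set.toFinite _)
        _ ≤ Nat.card ((G ⧸ N) × {d : N // d ∉ K}) := by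
            rw [← Set.image_univ]
            refine (Set.ncard_image_le (Set.toFinite _)).trans ?_
            rw [Set.ncard_univ]
        _ = N.index * (Nat.card N - Nat.card K) := by
            rw [Nat.card_prod]
            congr 1
            rw [Nat.card_eq_fintype_card, Fintype.card_subtype_compl, ← Nat.card_eq_fintype_card,
              ← Nat.card_eq_fintype_card]
    have h3 : X.ncard ≤ Nat.card M := by
      have := Set.ncard_le_ncard hXM (Set.toFinite _)
      rwa [← Nat.card_coe_set_eq (M : Set G)] at this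
    have h4 : N.index * Nat.card N = Nat.card G := N.index_mul_card
    have h5 : Nat.card K ≤ Nat.card N := Subgroup.card_le_card_group K
    have h6 : N.index * (Nat.card N - Nat.card K) + N.index * Nat.card K =
        N.index * Nat.card N := by
      rw [← mul_add, Nat.sub_add_cancel h5]
    rw [mul_comm]
    generalize N.index * (Nat.card N - Nat.card K) = a at *
    generalize N.index * Nat.card K = b at *
    generalize N.index * Nat.card N = c at *
    omega

end main

end Cfsg.Agent.Lib.Helper62.WielandtTI
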