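import Mathlib
import Cfsg.Prelude.Def_OddOrderLocal
import Cfsg.Agent.Lib.Helper62.WielandtTI

/-!
# TI subgroups that are Hall in their normalizer (helper62)
-/

set_option autoImplicit false

namespace Cfsg.Agent.Lib.Helper62.TIHall

open Cfsg

universe u

variable {G : Type u} [Group G] [Finite G] (H N : Subgroup G)

omit [Finite G] in
theorem card_subgroupOf_of_le (hHN : H ≤ N) :
    Nat.card (H.subgroupOf N) = Nat.card H :=
  Nat.card_congr (Subgroup.subgroupOfEquivOfLe hHN).toEquiv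

/-- The Wielandt TI hypothesis for `(N, K)`, `N` playing the role of `N_G(H)`. -/
theorem wti_of_ti (hHN : H ≤ N) (hH'n : (H.subgroupOf N).Normal)
    (hTI : ∀ g : G, g ∉ N → ∀ x ∈ H, g * x * g⁻¹ ∈ H → x = 1)
    (hHall : (Nat.card H).Coprime (H.subgroupOf N).index)
    (K : Subgroup N) [K.Normal] (hc : K.IsComplement' (H.subgroupOf N)) :
    WielandtTI.WTI N K := by
  intro g hg x hx hmem
  have hm : (H.subgroupOf N).index = Nat.card K := hc.index_eq_card
  have ha : K.index = Nat.card H := by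
    rw [hc.symm.index_eq_card]
    exact card_subgroupOf_of_le H N hHN
  -- `y ^ m ∈ H` and `x ^ m ∈ H`
  have hym : (((⟨g⁻¹ * x * g, hmem⟩ : N) ^ (H.subgroupOf N).index : N) : G) ∈ H := by
    have := Subgroup.pow_index_mem (H.subgroupOf N) (⟨g⁻¹ * x * g, hmem⟩ : N)
    exact Subgroup.mem_subgroupOf.mp this
  have hxm : (((⟨x, hx⟩ : N) ^ (H.subgroupOf N).index : N) : G) ∈ H := by
    have := Subgroup.pow_index_mem (H.subgroupOf N) (⟨x, hx⟩ : N)
    exact Subgroup.mem_subgroupOf.mp this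
  have hconj : g * (((⟨g⁻¹ * x * g, hmem⟩ : N) ^ (H.subgroupOf N).index : N) : G) * g⁻¹ =
      (((⟨x, hx⟩ : N) ^ (H.subgroupOf N).index : N) : G) := by
    simp only [Subgroup.coe_pow]
    rw [← conj_pow]
    congr 1
    group
  have h1 : (((⟨g⁻¹ * x * g, hmem⟩ : N) ^ (H.subgroupOf N).index : N) : G) = 1 := by
    apply hTI g hg _ hym
    rw [hconj]
    exact hxm
  have h1' : (⟨g⁻¹ * x * g, hmem⟩ : N) ^ (H.subgroupOf N).index = 1 := Subtype.ext h1
  have hord : orderOf (⟨g⁻¹ * x * g, hmem⟩ : N) ∣ (H.subgroupOf N).index :=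
    orderOf_dvd_of_pow_eq_one h1'
  have hcop : (K.index).Coprime (orderOf (⟨g⁻¹ * x * g, hmem⟩ : N)) := by
    rw [ha]
    exact Nat.Coprime.coprime_dvd_right hord hHall
  obtain ⟨j, hj⟩ := exists_pow_eq_self_of_coprime hcop
  rw [← hj]
  exact K.pow_mem (Subgroup.pow_index_mem K _) j

/-- **Wielandt**: a normal complement in `N` gives a normal complement in `G`. -/
theorem exists_normal_complement (hHN : H ≤ N) (hH'n : (H.subgroupOf N).Normal)
    (hTI : ∀ g : G, g ∉ N → ∀ x ∈ H, g * x * g⁻¹ ∈ H → x = 1)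
    (hHall : (Nat.card H).Coprime (H.subgroupOf N).index)
    (K : Subgroup N) (hKn : K.Normal) (hc : K.IsComplement' (H.subgroupOf N)) :
    ∃ M : Subgroup G, M.Normal ∧ M.IsComplement' H := by
  obtain ⟨M, hMn, hMK, hcard⟩ :=
    WielandtTI.exists_normal N K (wti_of_ti H N hHN hH'n hTI hHall K hc)
  refine ⟨M, hMn, ?_⟩
  have hdisj : Disjoint M H := by
    rw [Subgroup.disjoint_def]
    intro x hxM hxH
    have hxN : x ∈ N := hHN hxH
    have h1 : (⟨x, hxN⟩ : N) ∈ K := hMK ⟨x, hxN⟩ hxM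
    have h2 : (⟨x, hxN⟩ : N) ∈ H.subgroupOf N := Subgroup.mem_subgroupOf.mpr hxH
    have h3 := (Subgroup.disjoint_def.mp hc.disjoint) h1 h2
    exact congrArg Subtype.val h3
  apply Subgroup.isComplement'_of_card_mul_and_disjoint _ hdisj
  have hle : Nat.card M * Nat.card H ≤ Nat.card G := by
    rw [← Nat.card_prod]
    exact Nat.card_le_card_of_injective _ (Subgroup.mul_injective_of_disjoint hdisj)
  have h1 : Nat.card K * Nat.card H = Nat.card N := by
    rw [← card_subgroupOf_of_le H N hHN]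
    exact hc.card_mul_card
  have h2 : N.index * Nat.card N = Nat.card G := N.index_mul_card
  have h3 : Nat.card G ≤ Nat.card M * Nat.card H := by
    calc Nat.card G = N.index * (Nat.card K * Nat.card H) := by rw [h1, h2]
      _ = (Nat.card K * N.index) * Nat.card H := by ring
      _ ≤ Nat.card M * Nat.card H := Nat.mul_le_mul_right _ hcard
  omega

omit [Finite G] in
/-- The easy converse: a normal complement in `G` restricts to `N ≥ H`. -/
theorem exists_normalizer_complement (hHN : H ≤ N) (M : Subgroup G) (hMn : M.Normal)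
    (hc : M.IsComplement' H) :
    ∃ K : Subgroup N, K.Normal ∧ K.IsComplement' (H.subgroupOf N) := by
  refine ⟨M.subgroupOf N, inferInstance, ?_⟩
  apply Subgroup.isComplement'_of_disjoint_and_mul_eq_univ
  · rw [Subgroup.disjoint_def]
    intro x hxM hxH
    have h3 := (Subgroup.disjoint_def.mp hc.disjoint) (Subgroup.mem_subgroupOf.mp hxM)
      (Subgroup.mem_subgroupOf.mp hxH)
    exact Subtype.ext h3
  · rw [Set.eq_univ_iff_forall]
    intro n
    obtain ⟨⟨m, h⟩, hmh, -⟩ := hc.existsUnique (n : G)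
    simp only at hmh
    have hhN : (h : G) ∈ N := hHN h.2
    have hmN : (m : G) ∈ N := by
      have : (m : G) = (n : G) * (h : G)⁻¹ := by rw [← hmh]; group
      rw [this]
      exact N.mul_mem n.2 (N.inv_mem hhN)
    refine ⟨⟨m, hmN⟩, Subgroup.mem_subgroupOf.mpr m.2, ⟨h, hhN⟩,
      Subgroup.mem_subgroupOf.mpr h.2, ?_⟩
    exact Subtype.ext hmh

end Cfsg.Agent.Lib.Helper62.TIHall
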