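import Mathlib
import Cfsg.Prelude.Def_Solvable
import Cfsg.Agent.Lib.Helper54.Coprime
import Cfsg.Agent.Lib.Helper22.Solvable
import Cfsg.Agent.S0036
import Cfsg.Agent.S0039
import Cfsg.Agent.S0040

/-!
# TI Hall subgroups with a normal complement are Frobenius complements (helper62)

After Wielandt's theorem we have `G = M ⋊ H` with `(|M|,|H|) = 1` and `C_M(h) ≤ C_M(H)` for all
`1 ≠ h ∈ H`.  We show that `H` is (abstractly) a Frobenius complement.
-/

set_option autoImplicit false

namespace Cfsg.Agent.Lib.Helper62.TIHallFrob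

open Cfsg

universe u

variable {G : Type u} [Group G]

/-- Product decomposition in `X ⊔ A` when `A` normalizes `X`. -/
theorem exists_mul_of_mem_sup' {X A : Subgroup G} (hA : A ≤ Subgroup.normalizer (X : Set G))
    {l : G} (hl : l ∈ X ⊔ A) : ∃ x ∈ X, ∃ a ∈ A, l = x * a := by
  have hK : ∀ k ∈ A, ∀ h ∈ X, k * h * k⁻¹ ∈ X := fun k hk h hh =>
    (Subgroup.mem_normalizer_iff.mp (hA hk) h).mp hh
  let T : Subgroup G :=
    { carrier := {x | ∃ h ∈ X, ∃ k ∈ A, x = h * k}
      one_mem' := ⟨1, X.one_mem, 1, A.one_mem, by simp⟩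
      mul_mem' := by
        rintro _ _ ⟨h, hh, k, hk, rfl⟩ ⟨h', hh', k', hk', rfl⟩
        refine ⟨h * (k * h' * k⁻¹), X.mul_mem hh (hK k hk h' hh'), k * k', A.mul_mem hk hk', ?_⟩
        group
      inv_mem' := by
        rintro _ ⟨h, hh, k, hk, rfl⟩
        refine ⟨k⁻¹ * h⁻¹ * k⁻¹⁻¹, hK k⁻¹ (A.inv_mem hk) h⁻¹ (X.inv_mem hh), k⁻¹, A.inv_mem hk, ?_⟩
        group }
  have h1 : X ≤ T := fun h hh => ⟨h, hh, 1, A.one_mem, by simp⟩
  have h2 : A ≤ T := fun k hk => ⟨1, X.one_mem, k, hk, by simp⟩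
  exact (sup_le h1 h2) hl

/-- `H` normalizes its own centralizer. -/
theorem le_normalizer_centralizer_self (H : Subgroup G) :
    H ≤ Subgroup.normalizer ((Subgroup.centralizer (H : Set G) : Subgroup G) : Set G) := by
  intro a ha
  rw [Subgroup.mem_normalizer_iff]
  intro c
  constructor
  · intro hc
    have : a * c * a⁻¹ = c := by
      have := Subgroup.mem_centralizer_iff.mp hc a ha
      rw [this]; group
    rw [this]; exact hc
  · intro hc
    have h1 := Subgroup.mem_centralizer_iff.mp hc a ha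
    -- a * (a c a⁻¹) = (a c a⁻¹) * a  ⇒ a c = a c a⁻¹ a ... so c = a c a⁻¹
    have : a * c * a⁻¹ = c := by
      have h2 : a * (a * c * a⁻¹) = a * c := by rw [h1]; group
      have h3 : a * c * a⁻¹ = c := by
        have := mul_left_cancel h2
        exact this
      exact h3
    rw [this] at hc; exact hc

/-- Normalizers grow in `p`-groups (ambient form). -/
theorem exists_mem_normalizer_not_mem_of_lt [Finite G] {p : ℕ} [Fact p.Prime] {P Q : Subgroup G}
    (hQ : IsPGroup p Q) (hlt : P < Q) :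
    ∃ x, x ∈ Q ⊓ Subgroup.normalizer (P : Set G) ∧ x ∉ P := by
  have hP : P ≤ Q := hlt.le
  have : Group.IsNilpotent Q := hQ.isNilpotent
  have hnc : NormalizerCondition Q := Group.normalizerCondition_of_isNilpotent
  have hlt' : P.subgroupOf Q < ⊤ := by
    rw [lt_top_iff_ne_top, Ne, Subgroup.subgroupOf_eq_top]
    exact not_le_of_gt hlt
  have h2 := hnc _ hlt'
  rw [← Subgroup.subgroupOf_normalizer_eq hP] at h2
  obtain ⟨a, haN, haP⟩ := SetLike.exists_of_lt h2
  refine ⟨a, ⟨a.2, Subgroup.mem_subgroupOf.mp haN⟩, ?_⟩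
  intro h
  exact haP (Subgroup.mem_subgroupOf.mpr h)

/-- The structure left after Wielandt's theorem. -/
structure Setup (M H : Subgroup G) : Prop where
  normal : M.Normal
  compl : M.IsComplement' H
  cop : (Nat.card H).Coprime (Nat.card M)
  cent : ∀ h ∈ H, h ≠ 1 → ∀ m ∈ M, m * h = h * m → m ∈ Subgroup.centralizer (H : Set G)
  nn : ¬ M ≤ Subgroup.centralizer (H : Set G)

variable [Finite G] {M H : Subgroup G}

/-- Fixed points modulo `C_M(H)` lift. -/
theorem Setup.lift (hS : Setup M H) {a x d : G} (ha : a ∈ H) (ha1 : a ≠ 1)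
    (hx : x ∈ M) (hdM : d ∈ M) (hd : d ∈ Subgroup.centralizer (H : Set G))
    (h : x⁻¹ * a * x = d * a) : x ∈ Subgroup.centralizer (H : Set G) := by
  have hcomm : Commute d a := (Subgroup.mem_centralizer_iff.mp hd a ha).symm
  have e : (x⁻¹ * a * x) ^ orderOf d = x⁻¹ * a ^ orderOf d * x := by
    have := conj_pow (a := x⁻¹) (b := a) (i := orderOf d)
    simpa [inv_inv] using this
  have h1 : x⁻¹ * a ^ orderOf d * x = a ^ orderOf d := by
    rw [← e, h, hcomm.mul_pow, pow_orderOf_eq_one, one_mul]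
  have h2 : x * a ^ orderOf d = a ^ orderOf d * x := by
    calc x * a ^ orderOf d = x * (x⁻¹ * a ^ orderOf d * x) := by rw [h1]
      _ = a ^ orderOf d * x := by group
  have h3 : a ^ orderOf d ≠ 1 := by
    intro h0
    apply ha1
    have hd1 : orderOf a ∣ orderOf d := orderOf_dvd_of_pow_eq_one h0
    have hd2 : orderOf d ∣ Nat.card M := Subgroup.orderOf_dvd_natCard M hdM
    have hd3 : orderOf a ∣ Nat.card H := Subgroup.orderOf_dvd_natCard H ha
    have hc : (orderOf a).Coprime (Nat.card M) := Nat.Coprime.coprime_dvd_left hd3 hS.cop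
    have := Nat.Coprime.eq_one_of_dvd hc (hd1.trans hd2)
    exact orderOf_eq_one_iff.mp this
  exact hS.cent _ (H.pow_mem ha _) h3 x hx h2

/-- The Frobenius section: `A ≤ H` acting on `X / (X ∩ C(H))`. -/
theorem Setup.section_frobenius (hS : Setup M H) {A X : Subgroup G} (hAH : A ≤ H) (hA : A ≠ ⊥)
    (hXM : X ≤ M) (hAX : A ≤ Subgroup.normalizer (X : Set G))
    (hXY : X ≤ Subgroup.normalizer ((X ⊓ Subgroup.centralizer (H : Set G) : Subgroup G) : Set G))
    (hXn : ¬ X ≤ Subgroup.centralizer (H : Set G)) :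
    ∃ (F : Type u) (_ : Group F) (_ : Finite F) (Kb Bb : Subgroup F), Kb.Normal ∧
      Kb.IsComplement' Bb ∧ Kb ≠ ⊥ ∧ Bb ≠ ⊥ ∧
      (∀ b ∈ Bb, b ≠ 1 → Kb ⊓ Subgroup.centralizer {b} = ⊥) ∧ Nonempty (A ≃* Bb) := by
  set Y : Subgroup G := X ⊓ Subgroup.centralizer (H : Set G) with hY
  set L : Subgroup G := X ⊔ A with hL
  have hXL : X ≤ L := le_sup_left
  have hAL : A ≤ L := le_sup_right
  have hYX : Y ≤ X := inf_le_left
  have hYL : Y ≤ L := hYX.trans hXL
  have hAcent : A ≤ Subgroup.normalizer ((Subgroup.centralizer (H : Set G) : Subgroup G) : Set G) :=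
    hAH.trans (le_normalizer_centralizer_self H)
  have hAY : A ≤ Subgroup.normalizer (Y : Set G) :=
    Cfsg.Agent.Lib.Helper54.le_normalizer_inf hAX hAcent
  have hLY : L ≤ Subgroup.normalizer (Y : Set G) := sup_le hXY hAY
  have hLX : L ≤ Subgroup.normalizer (X : Set G) := sup_le Subgroup.le_normalizer hAX
  have hYn : (Y.subgroupOf L).Normal := (Subgroup.normal_subgroupOf_iff_le_normalizer hYL).mpr hLY
  have hMH : ∀ g : G, g ∈ M → g ∈ H → g = 1 := fun g hgM hgH =>
    Subgroup.disjoint_def.mp hS.compl.disjoint hgM hgH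
  let φX : X →* (L ⧸ Y.subgroupOf L) :=
    (QuotientGroup.mk' (Y.subgroupOf L)).comp (Subgroup.inclusion hXL)
  let φA : A →* (L ⧸ Y.subgroupOf L) :=
    (QuotientGroup.mk' (Y.subgroupOf L)).comp (Subgroup.inclusion hAL)
  have hφX1 : ∀ x : X, φX x = 1 → (x : G) ∈ Y := by
    intro x hx
    have : (Subgroup.inclusion hXL x) ∈ Y.subgroupOf L := (QuotientGroup.eq_one_iff _).mp hx
    exact Subgroup.mem_subgroupOf.mp this
  have hφA1 : ∀ a : A, φA a = 1 → a = 1 := by
    intro a ha
    have : (Subgroup.inclusion hAL a) ∈ Y.subgroupOf L := (QuotientGroup.eq_one_iff _).mp ha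
    have haY : (a : G) ∈ Y := Subgroup.mem_subgroupOf.mp this
    exact Subtype.ext (hMH _ (hXM (hYX haY)) (hAH a.2))
  have hφAinj : Function.Injective φA := (injective_iff_map_eq_one φA).mpr hφA1
  -- equality in the quotient
  have hmk : ∀ l₁ l₂ : L, (QuotientGroup.mk' (Y.subgroupOf L)) l₁ =
      (QuotientGroup.mk' (Y.subgroupOf L)) l₂ ↔ (l₁ : G)⁻¹ * (l₂ : G) ∈ Y := by
    intro l₁ l₂
    rw [QuotientGroup.mk'_apply, QuotientGroup.mk'_apply, QuotientGroup.eq]
    rfl
  refine ⟨L ⧸ Y.subgroupOf L, inferInstance, inferInstance, φX.range, φA.range, ?_, ?_, ?_, ?_, ?_,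
    ⟨MonoidHom.ofInjective hφAinj⟩⟩
  · -- normal
    constructor
    rintro _ ⟨x, rfl⟩ f
    obtain ⟨l, rfl⟩ := QuotientGroup.mk'_surjective (Y.subgroupOf L) f
    have hmem : (l : G) * (x : G) * (l : G)⁻¹ ∈ X :=
      (Subgroup.mem_normalizer_iff.mp (hLX l.2) _).mp x.2
    refine ⟨⟨_, hmem⟩, ?_⟩
    show (QuotientGroup.mk' (Y.subgroupOf L)) _ = (QuotientGroup.mk' (Y.subgroupOf L)) l *
      (QuotientGroup.mk' (Y.subgroupOf L)) (Subgroup.inclusion hXL x) *
      (QuotientGroup.mk' (Y.subgroupOf L)) l⁻¹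
    rw [← map_mul, ← map_mul]
    congr 1
  · -- complement
    apply Subgroup.isComplement'_of_disjoint_and_mul_eq_univ
    · rw [Subgroup.disjoint_def]
      rintro _ ⟨x, rfl⟩ ⟨a, ha⟩
      have h1 : (a : G)⁻¹ * (x : G) ∈ Y := (hmk _ _).mp ha
      have h2 : (a : G) ∈ M := by
        have : (a : G) = (x : G) * ((a : G)⁻¹ * (x : G))⁻¹ := by group
        rw [this]
        exact M.mul_mem (hXM x.2) (M.inv_mem (hXM (hYX h1)))
      have h3 : a = 1 := Subtype.ext (hMH _ h2 (hAH a.2))
      rw [← ha, h3, map_one]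
    · rw [Set.eq_univ_iff_forall]
      intro f
      obtain ⟨l, rfl⟩ := QuotientGroup.mk'_surjective (Y.subgroupOf L) f
      obtain ⟨x, hx, a, ha, hl⟩ := exists_mul_of_mem_sup' hAX l.2
      refine ⟨φX ⟨x, hx⟩, ⟨⟨x, hx⟩, rfl⟩, φA ⟨a, ha⟩, ⟨⟨a, ha⟩, rfl⟩, ?_⟩
      show (QuotientGroup.mk' (Y.subgroupOf L)) _ * (QuotientGroup.mk' (Y.subgroupOf L)) _ = _
      rw [← map_mul]
      congr 1
      exact Subtype.ext hl.symm
  · -- `Kb ≠ ⊥`
    intro hbot
    apply hXn
    intro x hx
    have h1 : φX ⟨x, hx⟩ ∈ φX.range := ⟨_, rfl⟩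
    rw [hbot, Subgroup.mem_bot] at h1
    exact (Subgroup.mem_inf.mp (hφX1 _ h1)).2
  · -- `Bb ≠ ⊥`
    intro hbot
    apply hA
    rw [eq_bot_iff]
    intro a ha
    have h1 : φA ⟨a, ha⟩ ∈ φA.range := ⟨_, rfl⟩
    rw [hbot, Subgroup.mem_bot] at h1
    have := hφA1 _ h1
    rw [Subgroup.mem_bot]
    exact congrArg Subtype.val this
  · -- fixed-point-free
    rintro _ ⟨a, rfl⟩ hb1
    have ha1 : (a : G) ≠ 1 := by
      intro h
      apply hb1
      have : a = 1 := Subtype.ext h
      rw [this, map_one]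
    rw [eq_bot_iff]
    rintro _ ⟨⟨x, rfl⟩, hcomm⟩
    rw [Subgroup.mem_bot]
    have hc := Subgroup.mem_centralizer_iff.mp hcomm (φA a) (Set.mem_singleton _)
    -- `φA a * φX x = φX x * φA a`
    have h1 : ((a : G) * (x : G))⁻¹ * ((x : G) * (a : G)) ∈ Y := by
      have : (QuotientGroup.mk' (Y.subgroupOf L)) (Subgroup.inclusion hAL a * Subgroup.inclusion hXL x)
          = (QuotientGroup.mk' (Y.subgroupOf L))
            (Subgroup.inclusion hXL x * Subgroup.inclusion hAL a) := by
        rw [map_mul, map_mul]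
        exact hc
      exact (hmk _ _).mp this
    -- lift with `a⁻¹`
    have h2 : (x : G)⁻¹ * (a : G)⁻¹ * (x : G) =
        (((a : G) * (x : G))⁻¹ * ((x : G) * (a : G))) * (a : G)⁻¹ := by group
    have hxC : (x : G) ∈ Subgroup.centralizer (H : Set G) :=
      hS.lift (H.inv_mem (hAH a.2)) (inv_ne_one.mpr ha1) (hXM x.2) (hXM (hYX h1))
        (Subgroup.mem_inf.mp h1).2 h2
    have hxY : (x : G) ∈ Y := Subgroup.mem_inf.mpr ⟨x.2, hxC⟩
    show (QuotientGroup.mk' (Y.subgroupOf L)) (Subgroup.inclusion hXL x) = 1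
    rw [QuotientGroup.mk'_apply, QuotientGroup.eq_one_iff]
    exact Subgroup.mem_subgroupOf.mpr hxY

/-- A prime `r` for which no Sylow `r`-subgroup of `M` lies in `C(H)`. -/
theorem Setup.exists_good_prime (hS : Setup M H) :
    ∃ r : ℕ, r.Prime ∧ ∀ P : Sylow r M,
      ¬ ((P : Subgroup M).map M.subtype ≤ Subgroup.centralizer (H : Set G)) := by
  set C : Subgroup G := M ⊓ Subgroup.centralizer (H : Set G) with hC
  have hCM : C ≤ M := inf_le_left
  obtain ⟨k, hk⟩ := Subgroup.card_dvd_of_le hCM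
  have hk1 : k ≠ 1 := by
    intro h
    rw [h, mul_one] at hk
    apply hS.nn
    have : C = M := Subgroup.eq_of_le_of_card_ge hCM hk.le
    rw [← this]
    exact inf_le_right
  obtain ⟨r, hr, hrk⟩ := Nat.exists_prime_and_dvd hk1
  refine ⟨r, hr, ?_⟩
  intro P hle
  haveI := Fact.mk hr
  have hRC : (P : Subgroup M).map M.subtype ≤ C := le_inf (Subgroup.map_subtype_le _) hle
  obtain ⟨c', hc'⟩ := Subgroup.card_dvd_of_le hRC
  rw [Subgroup.card_map_of_injective (Subgroup.subtype_injective M)] at hc'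
  have h1 : (P : Subgroup M).index * Nat.card (P : Subgroup M) = Nat.card M :=
    (P : Subgroup M).index_mul_card
  have hPpos : 0 < Nat.card (P : Subgroup M) := Nat.card_pos
  have h2 : (P : Subgroup M).index = c' * k := by
    have : (P : Subgroup M).index * Nat.card (P : Subgroup M) =
        (c' * k) * Nat.card (P : Subgroup M) := by
      rw [h1, hk, hc']; ring
    exact Nat.eq_of_mul_eq_mul_right hPpos this
  have h3 : r ∣ (P : Subgroup M).index := by
    rw [h2]; exact Dvd.dvd.mul_left hrk c'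
  have h4 : r ∣ Nat.card (P : Subgroup M) := by
    apply P.dvd_card_of_dvd_card
    rw [hk]
    exact Dvd.dvd.mul_left hrk _
  have h5 := P.card_coprime_index
  have h6 : r.Coprime r := Nat.Coprime.coprime_dvd_left h4 (Nat.Coprime.coprime_dvd_right h3 h5)
  rw [Nat.coprime_self] at h6
  exact hr.one_lt.ne' h6

/-- An `A`-invariant Sylow subgroup not inside `C(H)` gives a Frobenius section. -/
theorem Setup.frob_of_invariant (hS : Setup M H) {A : Subgroup G} (hAH : A ≤ H) (hA : A ≠ ⊥)
    {r : ℕ} [Fact r.Prime] (P : Sylow r M)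
    (hgood : ¬ ((P : Subgroup M).map M.subtype ≤ Subgroup.centralizer (H : Set G)))
    (hAR : A ≤ Subgroup.normalizer (((P : Subgroup M).map M.subtype : Subgroup G) : Set G)) :
    ∃ (F : Type u) (_ : Group F) (_ : Finite F) (Kb Bb : Subgroup F), Kb.Normal ∧
      Kb.IsComplement' Bb ∧ Kb ≠ ⊥ ∧ Bb ≠ ⊥ ∧
      (∀ b ∈ Bb, b ≠ 1 → Kb ⊓ Subgroup.centralizer {b} = ⊥) ∧ Nonempty (A ≃* Bb) := by
  set R : Subgroup G := (P : Subgroup M).map M.subtype with hR
  have hRM : R ≤ M := Subgroup.map_subtype_le _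
  have hRp : IsPGroup r R := P.isPGroup'.map _
  set Y₀ : Subgroup G := R ⊓ Subgroup.centralizer (H : Set G) with hY₀
  have hlt : Y₀ < R := by
    refine lt_of_le_of_ne inf_le_left ?_
    intro h
    apply hgood
    rw [← h]
    exact inf_le_right
  obtain ⟨x, hxX, hxY⟩ := exists_mem_normalizer_not_mem_of_lt hRp hlt
  set X : Subgroup G := R ⊓ Subgroup.normalizer (Y₀ : Set G) with hX
  have hXC : X ⊓ Subgroup.centralizer (H : Set G) = Y₀ :=
    le_antisymm (inf_le_inf_right _ inf_le_left)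
      (le_inf (le_inf inf_le_left Subgroup.le_normalizer) inf_le_right)
  have hAcent : A ≤ Subgroup.normalizer ((Subgroup.centralizer (H : Set G) : Subgroup G) : Set G) :=
    hAH.trans (le_normalizer_centralizer_self H)
  have hAY₀ : A ≤ Subgroup.normalizer (Y₀ : Set G) :=
    Cfsg.Agent.Lib.Helper54.le_normalizer_inf hAR hAcent
  have hAX : A ≤ Subgroup.normalizer (X : Set G) :=
    Cfsg.Agent.Lib.Helper54.le_normalizer_inf hAR
      (Cfsg.Agent.Lib.Helper54.le_normalizer_normalizer hAY₀)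
  apply hS.section_frobenius hAH hA (inf_le_left.trans hRM) hAX
  · rw [hXC]; exact inf_le_right
  · intro h
    apply hxY
    exact ⟨hxX.1, h hxX⟩

/-- Solvable subgroups of `H` are Frobenius complements. -/
theorem Setup.frob_of_solvable (hS : Setup M H) {A : Subgroup G} (hAH : A ≤ H) (hA : A ≠ ⊥)
    (hsolv : Group.IsSolvable A) :
    ∃ (F : Type u) (_ : Group F) (_ : Finite F) (Kb Bb : Subgroup F), Kb.Normal ∧
      Kb.IsComplement' Bb ∧ Kb ≠ ⊥ ∧ Bb ≠ ⊥ ∧
      (∀ b ∈ Bb, b ≠ 1 → Kb ⊓ Subgroup.centralizer {b} = ⊥) ∧ Nonempty (A ≃* Bb) := by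
  obtain ⟨r, hr, hgood⟩ := hS.exists_good_prime
  haveI := Fact.mk hr
  haveI := hS.normal
  have hAM : A ≤ Subgroup.normalizer (M : Set G) := by
    rw [Subgroup.normalizer_eq_top]; exact le_top
  have hcop : (Nat.card A).Coprime (Nat.card M) :=
    Nat.Coprime.coprime_dvd_left (Subgroup.card_dvd_of_le hAH) hS.cop
  obtain ⟨P, hP⟩ := Cfsg.Agent.Lib.Helper54.exists_invariant_sylow A M hAM hcop (Or.inl hsolv) r
  exact hS.frob_of_invariant hAH hA P (hgood P) hP

/-- Sylow subgroups of `H` are cyclic, except possibly for `p = 2`. -/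
theorem Setup.isCyclic_sylow_or_two (hS : Setup M H) (p : ℕ) [Fact p.Prime] (P : Sylow p H) :
    IsCyclic (P : Subgroup H) ∨ p = 2 := by
  set A : Subgroup G := (P : Subgroup H).map H.subtype with hA
  have hAH : A ≤ H := Subgroup.map_subtype_le _
  by_cases hAbot : A = ⊥
  · left
    have : (P : Subgroup H) = ⊥ :=
      (Subgroup.map_eq_bot_iff_of_injective _ (Subgroup.subtype_injective H)).mp hAbot
    have hsub : Subsingleton (P : Subgroup H) := by
      rw [this]; infer_instance
    exact isCyclic_of_subsingleton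
  · have hAp : IsPGroup p A := P.isPGroup'.map _
    haveI : Group.IsNilpotent A := hAp.isNilpotent
    have hsolv : Group.IsSolvable A := inferInstance
    obtain ⟨F, _, _, Kb, Bb, hKn, hcompl, hKb, hBb, hfpf, ⟨e⟩⟩ :=
      hS.frob_of_solvable hAH hAbot hsolv
    have hBp : IsPGroup p Bb := hAp.of_equiv e
    have hu := Cfsg.Agent.Lib.Helper35.unique_subgroup_of_order_p_of_fpf Kb Bb hKb hfpf p
      (⊤ : Subgroup Bb) (hBp.to_subgroup ⊤)
    rcases Cfsg.Agent.S0016.result p (hBp.to_subgroup ⊤) hu with h | ⟨h2, -⟩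
    · left
      let f : (⊤ : Subgroup Bb) ≃* (P : Subgroup H) :=
        Subgroup.topEquiv.trans (e.symm.trans
          ((P : Subgroup H).equivMapOfInjective H.subtype (Subgroup.subtype_injective H)).symm)
      exact isCyclic_of_surjective f f.surjective
    · right; exact h2

/-- The subgroup generated by two involutions is solvable. -/
theorem isSolvable_closure_pair_of_involutions {s t : G} (hs2 : s * s = 1) (ht2 : t * t = 1) :
    Group.IsSolvable (Subgroup.closure ({s, t} : Set G)) := by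
  have hsinv : s⁻¹ = s := inv_eq_of_mul_eq_one_left hs2
  have htinv : t⁻¹ = t := inv_eq_of_mul_eq_one_left ht2
  set c := s * t with hc
  have hsc : s * c * s⁻¹ = c⁻¹ := by
    rw [hc, mul_inv_rev, hsinv, htinv]
    calc s * (s * t) * s = (s * s) * t * s := by group
      _ = t * s := by rw [hs2, one_mul]
  have hnorm : Subgroup.zpowers s ≤ Subgroup.normalizer ((Subgroup.zpowers c : Subgroup G) : Set G) := by
    rw [Subgroup.zpowers_le]
    apply Subgroup.mem_normalizer_fintype
    intro x hx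
    obtain ⟨k, rfl⟩ := Subgroup.mem_zpowers_iff.mp hx
    have : s * c ^ k * s⁻¹ = (c⁻¹) ^ k := by
      rw [← hsc, conj_zpow]
    rw [SetLike.mem_coe, this]
    exact Subgroup.zpow_mem _ (Subgroup.inv_mem _ (Subgroup.mem_zpowers c)) k
  have h1 : Group.IsSolvable (Subgroup.zpowers c) := inferInstance
  have h2 : Group.IsSolvable (Subgroup.zpowers s) := inferInstance
  have h3 := Cfsg.Agent.Lib.Helper22.isSolvable_sup_of_le_normalizer hnorm h1 h2
  apply Cfsg.Agent.Lib.Helper54.isSolvable_of_le _ h3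
  rw [Subgroup.closure_le]
  intro x hx
  rcases hx with rfl | rfl
  · exact (le_sup_right : Subgroup.zpowers x ≤ _) (Subgroup.mem_zpowers x)
  · have hs' : s ∈ (Subgroup.zpowers (s * x) ⊔ Subgroup.zpowers s : Subgroup G) :=
      (le_sup_right : Subgroup.zpowers s ≤ _) (Subgroup.mem_zpowers s)
    have hc' : s * x ∈ (Subgroup.zpowers (s * x) ⊔ Subgroup.zpowers s : Subgroup G) :=
      (le_sup_left : Subgroup.zpowers (s * x) ≤ _) (Subgroup.mem_zpowers _)
    have : x = s * (s * x) := by
      calc x = (s * s) * x := by rw [hs2, one_mul]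
        _ = s * (s * x) := by group
    rw [SetLike.mem_coe, this]
    exact Subgroup.mul_mem _ hs' hc'

/-- `H` has at most one involution. -/
theorem Setup.invol_unique (hS : Setup M H) {s t : G} (hs : s ∈ H) (hs1 : s ≠ 1)
    (hs2 : s * s = 1) (ht : t ∈ H) (ht1 : t ≠ 1) (ht2 : t * t = 1) : s = t := by
  set D : Subgroup G := Subgroup.closure ({s, t} : Set G) with hD
  have hDH : D ≤ H := by
    rw [hD, Subgroup.closure_le]
    intro x hx
    rcases hx with rfl | rfl
    · exact hs
    · exact ht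
  have hsD : s ∈ D := Subgroup.subset_closure (by simp)
  have htD : t ∈ D := Subgroup.subset_closure (by simp)
  have hDbot : D ≠ ⊥ := by
    intro h
    rw [h, Subgroup.mem_bot] at hsD
    exact hs1 hsD
  obtain ⟨F, _, _, Kb, Bb, hKn, hcompl, hKb, hBb, hfpf, ⟨e⟩⟩ :=
    hS.frob_of_solvable hDH hDbot (isSolvable_closure_pair_of_involutions hs2 ht2)
  have hFrob : Cfsg.IsFrobeniusComplement Bb :=
    (Cfsg.Agent.S0039.result Kb Bb hcompl hKb hBb).mpr hfpf
  have key : ((e ⟨s, hsD⟩ : Bb) : F) = ((e ⟨t, htD⟩ : Bb) : F) := by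
    apply Cfsg.Agent.S0036.invol_unique hFrob (e ⟨s, hsD⟩).2 _ _ (e ⟨t, htD⟩).2 _ _
    · intro h
      have h' : e ⟨s, hsD⟩ = 1 := Subtype.ext h
      rw [map_eq_one_iff e e.injective] at h'
      exact hs1 (congrArg Subtype.val h')
    · rw [← Subgroup.coe_mul, ← map_mul]
      have : (⟨s, hsD⟩ : D) * ⟨s, hsD⟩ = 1 := Subtype.ext hs2
      rw [this, map_one]; rfl
    · intro h
      have h' : e ⟨t, htD⟩ = 1 := Subtype.ext h
      rw [map_eq_one_iff e e.injective] at h'
      exact ht1 (congrArg Subtype.val h')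
    · rw [← Subgroup.coe_mul, ← map_mul]
      have : (⟨t, htD⟩ : D) * ⟨t, htD⟩ = 1 := Subtype.ext ht2
      rw [this, map_one]; rfl
  have h2 : e ⟨s, hsD⟩ = e ⟨t, htD⟩ := Subtype.ext key
  exact congrArg Subtype.val (e.injective h2)

/-- **Main theorem of the set-up**: `H` is (abstractly) a Frobenius complement. -/
theorem Setup.exists_frobenius (hS : Setup M H) :
    ∃ (F : Type u) (_ : Group F) (_ : Finite F) (C : Subgroup F),
      Cfsg.IsFrobeniusComplement C ∧ Nonempty (H ≃* C) := by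
  haveI := hS.normal
  have hHbot : H ≠ ⊥ := by
    intro h
    apply hS.nn
    rw [h]
    intro m _
    rw [Subgroup.mem_centralizer_iff]
    intro x hx
    rw [Subgroup.coe_bot, Set.mem_singleton_iff] at hx
    rw [hx]; simp
  -- it suffices to produce the fixed-point-free data for `A = H`
  suffices hsuff : ∃ (F : Type u) (_ : Group F) (_ : Finite F) (Kb Bb : Subgroup F), Kb.Normal ∧
      Kb.IsComplement' Bb ∧ Kb ≠ ⊥ ∧ Bb ≠ ⊥ ∧
      (∀ b ∈ Bb, b ≠ 1 → Kb ⊓ Subgroup.centralizer {b} = ⊥) ∧ Nonempty (H ≃* Bb) by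
    obtain ⟨F, _, _, Kb, Bb, hKn, hcompl, hKb, hBb, hfpf, he⟩ := hsuff
    exact ⟨F, inferInstance, inferInstance, Bb,
      (Cfsg.Agent.S0039.result Kb Bb hcompl hKb hBb).mpr hfpf, he⟩
  by_cases hinv : ∃ z ∈ H, z ≠ 1 ∧ z * z = 1
  · -- even case
    obtain ⟨z, hz, hz1, hz2⟩ := hinv
    have hzinv : z⁻¹ = z := inv_eq_of_mul_eq_one_left hz2
    -- `z` is central in `H`
    have hzc : ∀ h ∈ H, h * z * h⁻¹ = z := by
      intro h hh
      apply hS.invol_unique (H.mul_mem (H.mul_mem hh hz) (H.inv_mem hh)) _ _ hz hz1 hz2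
      · intro h0
        apply hz1
        have : z = h⁻¹ * (h * z * h⁻¹) * h := by group
        rw [this, h0]; group
      · calc h * z * h⁻¹ * (h * z * h⁻¹) = h * (z * z) * h⁻¹ := by group
          _ = 1 := by rw [hz2]; group
    obtain ⟨r, hr, hgood⟩ := hS.exists_good_prime
    haveI := Fact.mk hr
    have hZH : Subgroup.zpowers z ≤ H := by rw [Subgroup.zpowers_le]; exact hz
    have hZM : Subgroup.zpowers z ≤ Subgroup.normalizer (M : Set G) := by
      rw [Subgroup.normalizer_eq_top]; exact le_top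
    have hcopZ : (Nat.card (Subgroup.zpowers z)).Coprime (Nat.card M) :=
      Nat.Coprime.coprime_dvd_left (Subgroup.card_dvd_of_le hZH) hS.cop
    have hZsolv : Group.IsSolvable (Subgroup.zpowers z) := inferInstance
    obtain ⟨P, hP⟩ := Cfsg.Agent.Lib.Helper54.exists_invariant_sylow (Subgroup.zpowers z) M hZM
      hcopZ (Or.inl hZsolv) r
    set R : Subgroup G := (P : Subgroup M).map M.subtype with hR
    have hzR : z ∈ Subgroup.normalizer (R : Set G) := hP (Subgroup.mem_zpowers z)
    -- `|M|` is odd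
    have h2H : 2 ∣ Nat.card H := by
      have : orderOf z = 2 := orderOf_eq_prime (by rw [sq]; exact hz2) hz1
      rw [← this]
      exact Subgroup.orderOf_dvd_natCard H hz
    have hMM : (2 : ℕ).Coprime (Nat.card M) := Nat.Coprime.coprime_dvd_left h2H hS.cop
    -- `H` normalizes `R`
    have hHR : H ≤ Subgroup.normalizer (R : Set G) := by
      intro h hh
      have htop : h ∈ Subgroup.normalizer (R : Set G) ⊔ M := by
        rw [hR, Sylow.normalizer_sup_eq_top P]; trivial
      rw [← SetLike.mem_coe, Subgroup.mul_normal] at htop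
      obtain ⟨l, hl, m, hm, hlm⟩ := Set.mem_mul.mp htop
      have hlR : l ∈ Subgroup.normalizer (R : Set G) := hl
      have hmM : m ∈ M := hm
      -- `u = l⁻¹ z l z⁻¹ ∈ M`
      set u : G := l⁻¹ * z * l * z⁻¹ with hu
      have hl' : l = h * m⁻¹ := by rw [← hlm]; group
      have huM : u ∈ M := by
        have h1 : u = m * (z * m⁻¹ * z⁻¹) := by
          have hz' : h⁻¹ * z * h = z := by
            have := hzc h⁻¹ (H.inv_mem hh)
            simpa using this
          calc u = m * (h⁻¹ * z * h) * m⁻¹ * z⁻¹ := by rw [hu, hl']; group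
            _ = m * (z * m⁻¹ * z⁻¹) := by rw [hz']; group
        rw [h1]
        exact M.mul_mem hmM (hS.normal.conj_mem _ (M.inv_mem hmM) z)
      have huR : u ∈ Subgroup.normalizer (R : Set G) :=
        Subgroup.mul_mem _ (Subgroup.mul_mem _ (Subgroup.mul_mem _ (Subgroup.inv_mem _ hlR) hzR) hlR)
          (Subgroup.inv_mem _ hzR)
      have hzu : z * u * z⁻¹ = u⁻¹ := by
        rw [hu, hzinv]
        have : (l⁻¹ * z * l * z)⁻¹ = z⁻¹ * l⁻¹ * z⁻¹ * l := by group
        rw [this, hzinv]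
        calc z * (l⁻¹ * z * l * z) * z = z * l⁻¹ * z * l * (z * z) := by group
          _ = z * l⁻¹ * z * l := by rw [hz2, mul_one]
      -- `orderOf u` is odd
      have hodd : (2 : ℕ).Coprime (orderOf u) :=
        Nat.Coprime.coprime_dvd_right (Subgroup.orderOf_dvd_natCard M huM) hMM
      have hoddu : orderOf u % 2 = 1 := by
        rcases Nat.even_or_odd (orderOf u) with he | ho
        · exfalso
          have : 2 ∣ orderOf u := he.two_dvd
          have := Nat.Coprime.eq_one_of_dvd hodd this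
          omega
        · exact Nat.odd_iff.mp ho
      set k : ℕ := (orderOf u + 1) / 2 with hk
      have hk2 : 2 * k = orderOf u + 1 := by omega
      have huk : u ^ k * u ^ k = u := by
        rw [← pow_add, ← two_mul, hk2, pow_succ, pow_orderOf_eq_one, one_mul]
      set l' : G := l * u ^ k with hl'def
      have hl'R : l' ∈ Subgroup.normalizer (R : Set G) :=
        Subgroup.mul_mem _ hlR (Subgroup.pow_mem _ huR k)
      have hl'z : z * l' * z⁻¹ = l' := by
        have h1 : z * l * z⁻¹ = l * u := by rw [hu]; group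
        have h2 : z * u ^ k * z⁻¹ = (u⁻¹) ^ k := by rw [← hzu, conj_pow]
        have h3 : u * (u⁻¹) ^ k = u ^ k := by
          rw [inv_pow]
          calc u * (u ^ k)⁻¹ = (u ^ k * u ^ k) * (u ^ k)⁻¹ := by rw [huk]
            _ = u ^ k := by group
        calc z * l' * z⁻¹ = (z * l * z⁻¹) * (z * u ^ k * z⁻¹) := by rw [hl'def]; group
          _ = l * (u * (u⁻¹) ^ k) := by rw [h1, h2]; group
          _ = l' := by rw [h3]
      -- `m' = l' h⁻¹ ∈ M` commutes with `z`
      set m' : G := l' * h⁻¹ with hm'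
      have hm'M : m' ∈ M := by
        have : m' = h * (m⁻¹ * u ^ k) * h⁻¹ := by rw [hm', hl'def, hl']; group
        rw [this]
        exact hS.normal.conj_mem _ (M.mul_mem (M.inv_mem hmM) (M.pow_mem huM k)) h
      have hm'z : m' * z = z * m' := by
        have hz' : h⁻¹ * z = z * h⁻¹ := by
          have := hzc h⁻¹ (H.inv_mem hh)
          rw [inv_inv] at this
          calc h⁻¹ * z = (h⁻¹ * z * h) * h⁻¹ := by group
            _ = z * h⁻¹ := by rw [this]
        calc m' * z = l' * (h⁻¹ * z) := by rw [hm']; group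
          _ = l' * (z * h⁻¹) := by rw [hz']
          _ = (z * l' * z⁻¹) * z * h⁻¹ := by rw [hl'z]; group
          _ = z * m' := by rw [hm']; group
      have hm'C : m' ∈ Subgroup.centralizer (H : Set G) := hS.cent z hz hz1 m' hm'M hm'z
      have hm'h : Commute m' h := (Subgroup.mem_centralizer_iff.mp hm'C h hh).symm
      -- `l' = m' h`, so `l' ^ n = h ^ n` for `n = orderOf m'`
      have hl'eq : l' = m' * h := by rw [hm']; group
      have hpow : l' ^ orderOf m' = h ^ orderOf m' := by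
        rw [hl'eq, hm'h.mul_pow, pow_orderOf_eq_one, one_mul]
      have hhn : h ^ orderOf m' ∈ Subgroup.normalizer (R : Set G) := by
        rw [← hpow]; exact Subgroup.pow_mem _ hl'R _
      have hcop' : (orderOf m').Coprime (orderOf h) :=
        Nat.Coprime.coprime_dvd_left (Subgroup.orderOf_dvd_natCard M hm'M)
          (Nat.Coprime.coprime_dvd_right (Subgroup.orderOf_dvd_natCard H hh) hS.cop.symm)
      obtain ⟨j, hj⟩ := exists_pow_eq_self_of_coprime hcop'
      rw [← hj]
      exact Subgroup.pow_mem _ hhn j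
    exact hS.frob_of_invariant le_rfl hHbot P (hgood P) hHR
  · -- odd case: all Sylow subgroups are cyclic
    have hZ : IsZGroup H := by
      refine ⟨fun p hp P => ?_⟩
      haveI := Fact.mk hp
      rcases hS.isCyclic_sylow_or_two p P with h | h
      · exact h
      · subst h
        -- the Sylow 2-subgroup is trivial
        have hsub : Subsingleton (P : Subgroup H) := by
          by_contra hns
          rw [not_subsingleton_iff_nontrivial] at hns
          have h2 : 2 ∣ Nat.card (P : Subgroup H) := by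
            obtain ⟨n, hn0, hn⟩ := P.isPGroup'.nontrivial_iff_card.mp hns
            rw [hn]
            exact dvd_pow_self 2 (Nat.pos_iff_ne_zero.mp hn0)
          obtain ⟨x, hx⟩ := exists_prime_orderOf_dvd_card' 2 h2
          apply hinv
          refine ⟨((x : (P : Subgroup H)) : H), ((x : (P : Subgroup H)) : H).2, ?_, ?_⟩
          · intro h1
            have : x = 1 := Subtype.ext (Subtype.ext h1)
            rw [this, orderOf_one] at hx
            omega
          · have : x ^ 2 = 1 := by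
              have := pow_orderOf_eq_one x
              rwa [hx] at this
            have h3 := congrArg (fun y : (P : Subgroup H) => ((y : H) : G)) this
            simpa [sq] using h3
        exact isCyclic_of_subsingleton
    have hsolv : Group.IsSolvable H := inferInstance
    exact hS.frob_of_solvable le_rfl hHbot hsolv

/-- `p`-elements of `N` lie in the normal Hall subgroup `H` (for `p ∣ |H|`). -/
theorem mem_of_pElement {H N : Subgroup G} (hHN : H ≤ N) (hH'n : (H.subgroupOf N).Normal)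
    (hHall : (Nat.card H).Coprime (H.subgroupOf N).index) {p : ℕ} (hpH : p ∣ Nat.card H)
    {x : G} (hxN : x ∈ N) {k : ℕ} (hxk : x ^ p ^ k = 1) : x ∈ H := by
  have h1 : ((⟨x, hxN⟩ : N) ^ (H.subgroupOf N).index : N) ∈ H.subgroupOf N :=
    Subgroup.pow_index_mem (H.subgroupOf N) (⟨x, hxN⟩ : N)
  have h2 : x ^ (H.subgroupOf N).index ∈ H := by
    have := Subgroup.mem_subgroupOf.mp h1
    simpa using this
  have hord : orderOf x ∣ p ^ k := orderOf_dvd_of_pow_eq_one hxk
  have hcop : ((H.subgroupOf N).index).Coprime (orderOf x) := by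
    apply Nat.Coprime.coprime_dvd_right hord
    apply Nat.Coprime.pow_right
    exact (Nat.Coprime.coprime_dvd_left hpH hHall).symm
  obtain ⟨j, hj⟩ := exists_pow_eq_self_of_coprime hcop
  rw [← hj]
  exact H.pow_mem h2 j

/-- The set-up holds for a non-normal TI subgroup `H`, Hall in `N`, with normal complement `M`. -/
theorem Setup.of_ti {H N M : Subgroup G} (hHN : H ≤ N) (hH'n : (H.subgroupOf N).Normal)
    (hTI : ∀ g : G, g ∉ N → ∀ x ∈ H, g * x * g⁻¹ ∈ H → x = 1)
    (hHall : (Nat.card H).Coprime (H.subgroupOf N).index)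
    (hMn : M.Normal) (hc : M.IsComplement' H) (hnn : ¬ H.Normal) : Setup M H := by
  have hMH : ∀ g : G, g ∈ M → g ∈ H → g = 1 := fun g hgM hgH =>
    Subgroup.disjoint_def.mp hc.disjoint hgM hgH
  have hconjN : ∀ n ∈ N, ∀ h ∈ H, n * h * n⁻¹ ∈ H := by
    intro n hn h hh
    have := hH'n.conj_mem ⟨h, hHN hh⟩ (Subgroup.mem_subgroupOf.mpr hh) ⟨n, hn⟩
    exact Subgroup.mem_subgroupOf.mp this
  have hcent : ∀ h ∈ H, h ≠ 1 → ∀ m ∈ M, m * h = h * m →
      m ∈ Subgroup.centralizer (H : Set G) := by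
    intro h hh h1 m hm hcomm
    have hmN : m ∈ N := by
      by_contra hmN
      apply h1
      apply hTI m hmN h hh
      rw [hcomm]
      simpa using hh
    rw [Subgroup.mem_centralizer_iff]
    intro h' hh'
    have h2 : m * h' * m⁻¹ * h'⁻¹ ∈ H := H.mul_mem (hconjN m hmN h' hh') (H.inv_mem hh')
    have h3 : m * h' * m⁻¹ * h'⁻¹ ∈ M := by
      have : m * h' * m⁻¹ * h'⁻¹ = m * (h' * m⁻¹ * h'⁻¹) := by group
      rw [this]
      exact M.mul_mem hm (hMn.conj_mem _ (M.inv_mem hm) h')
    have h4 := hMH _ h3 h2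
    calc h' * m = (m * h' * m⁻¹ * h'⁻¹)⁻¹ * (m * h') := by group
      _ = m * h' := by rw [h4]; group
  refine ⟨hMn, hc, ?_, hcent, ?_⟩
  · -- coprimality
    apply Nat.coprime_of_dvd
    intro p hp hpH hpM
    haveI := Fact.mk hp
    obtain ⟨q, hq⟩ := exists_prime_orderOf_dvd_card' p hpH
    have hqH : (q : G) ∈ H := q.2
    have hq1 : (q : G) ≠ 1 := by
      intro h
      have : q = 1 := Subtype.ext h
      rw [this, orderOf_one] at hq
      exact hp.one_lt.ne hq
    have hqord : orderOf (q : G) = p := by rw [Subgroup.orderOf_coe, hq]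
    have hQ : IsPGroup p (Subgroup.zpowers (q : G)) := by
      apply IsPGroup.of_card (n := 1)
      rw [Nat.card_zpowers, hqord, pow_one]
    obtain ⟨P, hP⟩ := hQ.exists_le_sylow
    have hqP : (q : G) ∈ (P : Subgroup G) := hP (Subgroup.mem_zpowers _)
    have hPnt : Nontrivial (P : Subgroup G) :=
      ⟨⟨⟨(q : G), hqP⟩, 1, fun h => hq1 (congrArg Subtype.val h)⟩⟩
    have hcnt : Nontrivial (Subgroup.center (P : Subgroup G)) := P.isPGroup'.center_nontrivial
    obtain ⟨z, hz1⟩ := exists_ne (1 : Subgroup.center (P : Subgroup G))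
    have hzG1 : (((z : (P : Subgroup G)) : G)) ≠ 1 := by
      intro h
      apply hz1
      exact Subtype.ext (Subtype.ext h)
    have hzcomm : ∀ g ∈ (P : Subgroup G), g * ((z : (P : Subgroup G)) : G) * g⁻¹ =
        ((z : (P : Subgroup G)) : G) := by
      intro g hg
      have h := (Subgroup.mem_center_iff.mp z.2) ⟨g, hg⟩
      have h2 := congrArg (fun w : (P : Subgroup G) => (w : G)) h
      simp only [Subgroup.coe_mul] at h2
      rw [h2]; group
    have hpel : ∀ g ∈ (P : Subgroup G), ∃ k : ℕ, g ^ p ^ k = 1 := by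
      intro g hg
      obtain ⟨k, hk⟩ := P.isPGroup' ⟨g, hg⟩
      exact ⟨k, by simpa using congrArg Subtype.val hk⟩
    -- `z ∈ N`, hence in `H`
    have hzN : ((z : (P : Subgroup G)) : G) ∈ N := by
      by_contra hzN
      apply hq1
      apply hTI _ hzN _ hqH
      have h := (Subgroup.mem_center_iff.mp z.2) ⟨(q : G), hqP⟩
      have h2 := congrArg (fun w : (P : Subgroup G) => (w : G)) h
      simp only [Subgroup.coe_mul] at h2
      have : ((z : (P : Subgroup G)) : G) * (q : G) * ((z : (P : Subgroup G)) : G)⁻¹ = (q : G) := by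
        rw [← h2]; group
      rw [this]; exact hqH
    obtain ⟨kz, hkz⟩ := hpel _ (z : (P : Subgroup G)).2
    have hzH : ((z : (P : Subgroup G)) : G) ∈ H := mem_of_pElement hHN hH'n hHall hpH hzN hkz
    -- `P ≤ H`
    have hPH : (P : Subgroup G) ≤ H := by
      intro g hg
      have hgN : g ∈ N := by
        by_contra hgN
        apply hzG1
        apply hTI g hgN _ hzH
        rw [hzcomm g hg]; exact hzH
      obtain ⟨k, hk⟩ := hpel g hg
      exact mem_of_pElement hHN hH'n hHall hpH hgN hk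
    obtain ⟨j, hj⟩ := Subgroup.card_dvd_of_le hPH
    obtain ⟨i, hi⟩ := hpM
    have hGcard : Nat.card M * Nat.card H = Nat.card G := hc.card_mul_card
    have h1 : (P : Subgroup G).index * Nat.card (P : Subgroup G) = Nat.card G :=
      (P : Subgroup G).index_mul_card
    have hPpos : 0 < Nat.card (P : Subgroup G) := Nat.card_pos
    have h2 : (P : Subgroup G).index = p * i * j := by
      have : (P : Subgroup G).index * Nat.card (P : Subgroup G) =
          (p * i * j) * Nat.card (P : Subgroup G) := by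
        rw [h1, ← hGcard, hi, hj]; ring
      exact Nat.eq_of_mul_eq_mul_right hPpos this
    have h3 : p ∣ (P : Subgroup G).index := by
      rw [h2, mul_assoc]; exact dvd_mul_right p _
    have h4 : p ∣ Nat.card (P : Subgroup G) := by
      have : p ∣ Nat.card (Subgroup.zpowers (q : G)) := by rw [Nat.card_zpowers, hqord]
      exact this.trans (Subgroup.card_dvd_of_le hP)
    have h5 := P.card_coprime_index
    have h6 : p.Coprime p := Nat.Coprime.coprime_dvd_left h4 (Nat.Coprime.coprime_dvd_right h3 h5)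
    rw [Nat.coprime_self] at h6
    exact hp.one_lt.ne' h6
  · -- `M ≰ C(H)`
    intro hle
    apply hnn
    constructor
    intro h hh g
    have hg : g ∈ M ⊔ H := by rw [hc.sup_eq_top]; trivial
    haveI := hMn
    rw [← SetLike.mem_coe, Subgroup.normal_mul] at hg
    obtain ⟨m, hm, h₀, hh₀, rfl⟩ := Set.mem_mul.mp hg
    have hmM : m ∈ M := hm
    have hh₀H : h₀ ∈ H := hh₀
    have hcm := Subgroup.mem_centralizer_iff.mp (hle hmM) (h₀ * h * h₀⁻¹)
      (H.mul_mem (H.mul_mem hh₀H hh) (H.inv_mem hh₀H))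
    have : m * h₀ * h * (m * h₀)⁻¹ = h₀ * h * h₀⁻¹ := by
      calc m * h₀ * h * (m * h₀)⁻¹ = m * (h₀ * h * h₀⁻¹) * m⁻¹ := by group
        _ = (h₀ * h * h₀⁻¹) * m * m⁻¹ := by rw [← hcm]
        _ = h₀ * h * h₀⁻¹ := by group
    rw [this]
    exact H.mul_mem (H.mul_mem hh₀H hh) (H.inv_mem hh₀H)

end Cfsg.Agent.Lib.Helper62.TIHallFrob
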