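import Mathlib
import Cfsg.Agent.Lib.Helper54.Coprime
import Cfsg.Agent.S0027

/-!
# Coprime action on Z-groups (helper62)

If `Q` acts coprimely on a Z-group `H` (all Sylow subgroups cyclic), then `|C_H(Q)|` is coprime
to `|[H, Q]|`.
-/

set_option autoImplicit false

namespace Cfsg.Agent.Lib.Helper62.TIHallSepA

open scoped commutatorElement

universe u

variable {G : Type u} [Group G]

/-- If `A` normalizes `B` and both have order coprime to `c`, so has `A ⊔ B`. -/
theorem coprime_card_sup {A B : Subgroup G}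
    (hAB : A ≤ Subgroup.normalizer (B : Set G)) {c : ℕ}
    (hA : (Nat.card A).Coprime c) (hB : (Nat.card B).Coprime c) :
    (Nat.card (A ⊔ B : Subgroup G)).Coprime c := by
  have h1 := Cfsg.Agent.Lib.Helper54.relIndex_sup_of_le_normalizer hAB
  have h2 := Cfsg.Agent.Lib.Helper54.card_mul_relIndex (le_sup_right : B ≤ A ⊔ B)
  rw [← h2, h1]
  exact Nat.Coprime.mul_left hB
    (Nat.Coprime.coprime_dvd_left (Subgroup.relIndex_dvd_card B A) hA)

/-- A subgroup whose elements conjugate `A` into itself normalizes `A`. -/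
theorem le_normalizer_of_forall_conj_mem {B A : Subgroup G}
    (h : ∀ b ∈ B, ∀ x ∈ A, b * x * b⁻¹ ∈ A) : B ≤ Subgroup.normalizer (A : Set G) := by
  intro b hb
  rw [Subgroup.mem_normalizer_iff]
  intro x
  constructor
  · exact h b hb x
  · intro hx
    have h1 := h b⁻¹ (B.inv_mem hb) _ hx
    have e : b⁻¹ * (b * x * b⁻¹) * b⁻¹⁻¹ = x := by group
    rwa [e] at h1

/-- A subgroup normalizing `X` and `Y` normalizes `X ⊔ Y`. -/
theorem le_normalizer_sup {A X Y : Subgroup G} (hX : A ≤ Subgroup.normalizer (X : Set G))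
    (hY : A ≤ Subgroup.normalizer (Y : Set G)) :
    A ≤ Subgroup.normalizer ((X ⊔ Y : Subgroup G) : Set G) := by
  intro a ha
  rw [Cfsg.Agent.Lib.Helper54.mem_normalizer_iff_conj_smul, Subgroup.smul_sup,
    Cfsg.Agent.Lib.Helper54.mem_normalizer_iff_conj_smul.mp (hX ha),
    Cfsg.Agent.Lib.Helper54.mem_normalizer_iff_conj_smul.mp (hY ha)]

/-- `H` normalizes `⁅H, Q⁆`: elementwise form. -/
theorem conj_mem_commutator_left {H Q : Subgroup G} {h : G} (hh : h ∈ H) {y : G}
    (hy : y ∈ ⁅H, Q⁆) : h * y * h⁻¹ ∈ ⁅H, Q⁆ := by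
  have hle : ⁅H, Q⁆ ≤ (⁅H, Q⁆).comap (MulAut.conj h).toMonoidHom := by
    rw [Subgroup.commutator_le]
    intro a ha q hq
    rw [Subgroup.mem_comap]
    have e : (MulAut.conj h).toMonoidHom ⁅a, q⁆ = ⁅h * a, q⁆ * ⁅h, q⁆⁻¹ := by
      simp only [MulEquiv.coe_toMonoidHom, MulAut.conj_apply, commutatorElement_def]
      group
    rw [e]
    exact Subgroup.mul_mem _ (Subgroup.commutator_mem_commutator (H.mul_mem hh ha) hq)
      (Subgroup.inv_mem _ (Subgroup.commutator_mem_commutator hh hq))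
  have h1 := hle hy
  rw [Subgroup.mem_comap] at h1
  simpa [MulAut.conj_apply] using h1

theorem le_normalizer_commutator_left (H Q : Subgroup G) :
    H ≤ Subgroup.normalizer ((⁅H, Q⁆ : Subgroup G) : Set G) :=
  le_normalizer_of_forall_conj_mem fun _ hb _ hx => conj_mem_commutator_left hb hx

theorem le_normalizer_commutator_right (H Q : Subgroup G) :
    Q ≤ Subgroup.normalizer ((⁅H, Q⁆ : Subgroup G) : Set G) := by
  rw [Subgroup.commutator_comm]
  exact le_normalizer_commutator_left Q H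

/-- `⁅H, Q⁆ ≤ H` when `Q` normalizes `H`. -/
theorem commutator_le_of_le_normalizer {H Q : Subgroup G}
    (hQ : Q ≤ Subgroup.normalizer (H : Set G)) : ⁅H, Q⁆ ≤ H := by
  rw [Subgroup.commutator_le]
  intro h hh q hq
  rw [commutatorElement_def]
  have h1 : q * h⁻¹ * q⁻¹ ∈ H := (Subgroup.mem_normalizer_iff.mp (hQ hq) _).mp (H.inv_mem hh)
  have e : h * q * h⁻¹ * q⁻¹ = h * (q * h⁻¹ * q⁻¹) := by group
  rw [e]
  exact H.mul_mem hh h1

/-- A coprime automorphism of a cyclic `p`-group fixing a nontrivial element is trivial. -/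
theorem smul_eq_self_of_fix {P : Type*} [Group P] {p : ℕ} [Fact p.Prime] [IsCyclic P] [Finite P]
    (hP : IsPGroup p P) {K : Type*} [Group K] [MulDistribMulAction K P]
    (hPK : (Nat.card P).Coprime (Nat.card K)) (k : K) (x : P) (hx1 : x ≠ 1)
    (hfix : k • x = x) : ∀ g : P, k • g = g := by
  let ϕ := MulDistribMulAction.toMonoidHomZModOfIsCyclic P K rfl
  have h (g : P) (k : K) (n : ℤ) (h : ϕ k - 1 = n) : k • g * g⁻¹ = g ^ n := by
    rw [sub_eq_iff_eq_add, ← Int.cast_one, ← Int.cast_add] at h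
    rw [MulDistribMulAction.toMonoidHomZModOfIsCyclic_apply rfl k g (n + 1) h,
      zpow_add_one, mul_inv_cancel_right]
  have hk : ϕ k = 1 ∨ IsUnit (ϕ k - 1) := by
    obtain ⟨n, hn⟩ := hP.exists_card_eq
    exact ZMod.eq_one_or_isUnit_sub_one hn (ϕ k)
      (hPK.symm.coprime_dvd_left ((orderOf_map_dvd ϕ k).trans (orderOf_dvd_natCard k)))
  rcases hk with h1 | h2
  · intro g
    have h3 := h g k 0 (by rw [h1, sub_self, Int.cast_zero])
    rw [zpow_zero] at h3
    exact mul_inv_eq_one.mp h3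
  · exfalso
    obtain ⟨⟨u, v, -, hvu⟩, hu : u = ϕ k - 1⟩ := h2
    rw [← u.intCast_zmod_cast] at hu hvu
    rw [← v.intCast_zmod_cast, ← Int.cast_mul, ← Int.cast_one,
      ZMod.intCast_eq_intCast_iff] at hvu
    have hx : x ^ (u.cast : ℤ) = 1 := by
      rw [← h x k u.cast hu.symm, hfix, mul_inv_cancel]
    apply hx1
    have h3 : x ^ ((v.cast : ℤ) * (u.cast : ℤ)) = x ^ (1 : ℤ) := by
      rw [zpow_eq_zpow_iff_modEq]
      exact hvu.of_dvd (Int.natCast_dvd_natCast.mpr (orderOf_dvd_natCard x))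
    rw [zpow_one, mul_comm, zpow_mul, hx, one_zpow] at h3
    exact h3.symm

/-- Concrete form: a coprime group of automorphisms of a cyclic `p`-subgroup fixing a nontrivial
element centralizes it. -/
theorem conj_eq_self_of_fix [Finite G] {p : ℕ} [Fact p.Prime] {P K : Subgroup G} [IsCyclic P]
    (hP : IsPGroup p P) (hKP : K ≤ Subgroup.normalizer (P : Set G))
    (hPK : (Nat.card P).Coprime (Nat.card K)) {x : G} (hxP : x ∈ P) (hx1 : x ≠ 1)
    (hfix : ∀ k ∈ K, k * x * k⁻¹ = x) : ∀ k ∈ K, ∀ g ∈ P, k * g * k⁻¹ = g := by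
  let _ := MulDistribMulAction.compHom P (P.normalizerMonoidHom.comp (Subgroup.inclusion hKP))
  intro k hk g hg
  have h := smul_eq_self_of_fix hP hPK (⟨k, hk⟩ : K) (⟨x, hxP⟩ : P)
    (fun h => hx1 (congrArg Subtype.val h)) (Subtype.ext (hfix k hk)) ⟨g, hg⟩
  exact congrArg Subtype.val h

theorem commutator_mul_of_conj_eq {t y q : G} (hyq : y * q * y⁻¹ = q) :
    ⁅t * y, q⁆ = t * (q * t⁻¹ * q⁻¹) := by
  rw [commutatorElement_def]
  calc t * y * q * (t * y)⁻¹ * q⁻¹ = t * (y * q * y⁻¹) * t⁻¹ * q⁻¹ := by group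
    _ = t * (q * t⁻¹ * q⁻¹) := by rw [hyq]; group

/-- Burnside's transfer theorem with operators: if `Q` normalizes `C` and centralizes a Sylow
`p`-subgroup `S` of `C` with `N_C(S) ≤ C_C(S)`, then `⁅C, Q⁆` is a `p'`-group. -/
theorem burnside_commutator [Finite G] {p : ℕ} [Fact p.Prime] {C Q : Subgroup G}
    (hQC : Q ≤ Subgroup.normalizer (C : Set G)) (S : Sylow p C)
    (hNS : Subgroup.normalizer (S : Set C) ≤ Subgroup.centralizer (S : Set C))
    (hQS : ∀ q ∈ Q, ∀ y : C, y ∈ S → q * (y : G) * q⁻¹ = y) :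
    ¬ p ∣ Nat.card ↥⁅C, Q⁆ := by
  have hc : Subgroup.IsComplement' (MonoidHom.transferSylow S hNS).ker (S : Subgroup C) :=
    MonoidHom.ker_transferSylow_isComplement' S hNS
  obtain ⟨T₀, hT₀⟩ : ∃ T₀ : Subgroup C, T₀ = (MonoidHom.transferSylow S hNS).ker := ⟨_, rfl⟩
  haveI hTn : T₀.Normal := by rw [hT₀]; infer_instance
  rw [← hT₀] at hc
  have hidx : T₀.index = Nat.card (S : Subgroup C) := hc.symm.index_eq_card
  have hcard : Nat.card T₀ = (S : Subgroup C).index := hc.index_eq_card.symm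
  have hpT : ¬ p ∣ Nat.card T₀ := by rw [hcard]; exact S.not_dvd_index
  have hmem : ∀ c : C, (orderOf (c : G)).Coprime p → c ∈ T₀ := by
    intro c hcop
    rw [Subgroup.orderOf_coe] at hcop
    have h1 : c ^ T₀.index ∈ T₀ := Subgroup.pow_index_mem T₀ c
    obtain ⟨k, hk⟩ := S.isPGroup'.exists_card_eq
    have hcop' : (T₀.index).Coprime (orderOf c) := by
      rw [hidx, hk]; exact Nat.Coprime.pow_left k hcop.symm
    obtain ⟨j, hj⟩ := exists_pow_eq_self_of_coprime hcop'
    rw [← hj]; exact T₀.pow_mem h1 j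
  have hord : ∀ t ∈ T₀, (orderOf ((t : C) : G)).Coprime p := by
    intro t ht
    rw [Subgroup.orderOf_coe]
    have h1 : orderOf t ∣ Nat.card T₀ := Subgroup.orderOf_dvd_natCard T₀ ht
    exact Nat.Coprime.coprime_dvd_left h1
      (((Nat.Prime.coprime_iff_not_dvd Fact.out).mpr hpT).symm)
  have key : ⁅C, Q⁆ ≤ T₀.map C.subtype := by
    rw [Subgroup.commutator_le]
    intro c hcC q hq
    obtain ⟨⟨t, y⟩, hty, -⟩ := hc.existsUnique (⟨c, hcC⟩ : C)
    simp only at hty
    have hc_eq : c = ((t : C) : G) * ((y : C) : G) := by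
      have h1 := congrArg Subtype.val hty
      simpa using h1.symm
    have hy := hQS q hq (y : C) y.2
    have hyq : ((y : C) : G) * q * ((y : C) : G)⁻¹ = q := by
      have h1 : q * ((y : C) : G) = ((y : C) : G) * q := mul_inv_eq_iff_eq_mul.mp hy
      rw [← h1]; group
    have hmemC : q * ((t : C) : G)⁻¹ * q⁻¹ ∈ C :=
      (Subgroup.mem_normalizer_iff.mp (hQC hq) _).mp (C.inv_mem (t : C).2)
    have ht' : (⟨q * ((t : C) : G)⁻¹ * q⁻¹, hmemC⟩ : C) ∈ T₀ := by
      apply hmem
      show (orderOf (q * ((t : C) : G)⁻¹ * q⁻¹)).Coprime p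
      have h1 : orderOf (q * ((t : C) : G)⁻¹ * q⁻¹) = orderOf ((t : C) : G) := by
        have h2 := orderOf_injective (MulAut.conj q).toMonoidHom (MulAut.conj q).injective
          (((t : C) : G)⁻¹)
        simpa [MulAut.conj_apply] using h2
      rw [h1]; exact hord _ t.2
    refine ⟨(t : C) * ⟨_, hmemC⟩, T₀.mul_mem t.2 ht', ?_⟩
    show ((t : C) : G) * (q * ((t : C) : G)⁻¹ * q⁻¹) = ⁅c, q⁆
    rw [hc_eq, commutator_mul_of_conj_eq hyq]
  have hdvd : Nat.card ↥⁅C, Q⁆ ∣ Nat.card T₀ := by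
    have h1 := Subgroup.card_dvd_of_le key
    rwa [Subgroup.card_map_of_injective (Subgroup.subtype_injective C)] at h1
  exact fun h => hpT (h.trans hdvd)

/-- In a Z-group, a Sylow subgroup inside the commutator subgroup is normal. -/
theorem sylow_normal_of_le_commutator {H : Type*} [Group H] [Finite H] [IsZGroup H] {p : ℕ}
    [Fact p.Prime] (P : Sylow p H) (h : (P : Subgroup H) ≤ commutator H) :
    (P : Subgroup H).Normal := by
  haveI : IsCyclic (commutator H) := IsZGroup.isCyclic_commutator H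
  have hcomm : ∀ a b : commutator H, a * b = b * a := fun a b =>
    (IsCyclic.commGroup (α := commutator H)).mul_comm a b
  have hSn : ((P.subtype h : Sylow p (commutator H)) : Subgroup (commutator H)).Normal := by
    constructor
    intro n hn g
    have e : g * n * g⁻¹ = n := by rw [hcomm g n]; group
    rwa [e]
  haveI := Sylow.characteristic_of_normal (P.subtype h) hSn
  have h1 : (((P.subtype h : Sylow p (commutator H)) : Subgroup (commutator H)).map
      (commutator H).subtype).Normal := inferInstance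
  rwa [Sylow.coe_subtype, Subgroup.map_subgroupOf_eq_of_le h] at h1

/-- If `Q` (coprime) centralizes a normal abelian Sylow `p`-subgroup `P` of `H`, then `⁅H, Q⁆` is a
`p'`-group. -/
theorem not_dvd_card_commutator_of_normal [Finite G] {p : ℕ} [Fact p.Prime] {H Q P : Subgroup G}
    (hQ : Q ≤ Subgroup.normalizer (H : Set G)) (hcop : (Nat.card Q).Coprime (Nat.card H))
    (hsolv : Group.IsSolvable H) (hPH : P ≤ H) (hPp : IsPGroup p P)
    (hidxH : ¬ p ∣ P.relIndex H) (hPcomm : ∀ a ∈ P, ∀ b ∈ P, a * b = b * a)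
    (hconj : ∀ h ∈ H, ∀ y ∈ P, h * y * h⁻¹ ∈ P) (hcent : ∀ q ∈ Q, ∀ y ∈ P, q * y * q⁻¹ = y) :
    ¬ p ∣ Nat.card ↥⁅H, Q⁆ := by
  have hRH : ⁅H, Q⁆ ≤ H := commutator_le_of_le_normalizer hQ
  have hRc : ⁅H, Q⁆ ≤ Subgroup.centralizer (P : Set G) := by
    rw [Subgroup.commutator_le]
    intro h hh q hq
    rw [Subgroup.mem_centralizer_iff]
    intro y hy
    have h1 : h⁻¹ * y * h ∈ P := by
      have h0 := hconj h⁻¹ (H.inv_mem hh) y hy
      rwa [inv_inv] at h0
    have hc1 : q * (h⁻¹ * y * h) = h⁻¹ * y * h * q :=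
      mul_inv_eq_iff_eq_mul.mp (hcent q hq _ h1)
    have hc0 : q * y = y * q := mul_inv_eq_iff_eq_mul.mp (hcent q hq y hy)
    have hc2 : q⁻¹ * y = y * q⁻¹ := (Commute.inv_left (show Commute q y from hc0))
    rw [commutatorElement_def]
    calc y * (h * q * h⁻¹ * q⁻¹) = h * ((h⁻¹ * y * h) * q) * h⁻¹ * q⁻¹ := by group
      _ = h * (q * (h⁻¹ * y * h)) * h⁻¹ * q⁻¹ := by rw [hc1]
      _ = h * q * h⁻¹ * (y * q⁻¹) := by group
      _ = h * q * h⁻¹ * (q⁻¹ * y) := by rw [hc2]
      _ = h * q * h⁻¹ * q⁻¹ * y := by group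
  have hQcP : Q ≤ Subgroup.centralizer (P : Set G) := by
    intro q hq
    rw [Subgroup.mem_centralizer_iff]
    intro y hy
    exact (mul_inv_eq_iff_eq_mul.mp (hcent q hq y hy)).symm
  obtain ⟨C, hC⟩ : ∃ C : Subgroup G, C = H ⊓ Subgroup.centralizer (P : Set G) := ⟨_, rfl⟩
  have hCH : C ≤ H := by rw [hC]; exact inf_le_left
  have hCc : C ≤ Subgroup.centralizer (P : Set G) := by rw [hC]; exact inf_le_right
  have hQC : Q ≤ Subgroup.normalizer (C : Set G) := by
    rw [hC]
    exact Cfsg.Agent.Lib.Helper54.le_normalizer_inf hQ (hQcP.trans Subgroup.le_normalizer)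
  have hPcomm' : P ≤ Subgroup.centralizer (P : Set G) := by
    intro a ha
    rw [Subgroup.mem_centralizer_iff]
    intro b hb
    exact hPcomm b hb a ha
  have hPC : P ≤ C := by rw [hC]; exact le_inf hPH hPcomm'
  have hidx : ¬ p ∣ (P.subgroupOf C).index := by
    have h1 := Subgroup.relIndex_mul_relIndex P C H hPC hCH
    intro hdvd
    apply hidxH
    rw [← h1]
    exact Dvd.dvd.mul_right hdvd _
  have hPp' : IsPGroup p (P.subgroupOf C) := hPp.comap_subtype
  have hNS : Subgroup.normalizer ((hPp'.toSylow hidx : Sylow p C) : Set C) ≤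
      Subgroup.centralizer ((hPp'.toSylow hidx : Sylow p C) : Set C) := by
    intro g _
    rw [Subgroup.mem_centralizer_iff]
    intro y hy
    have hyP : (y : G) ∈ P := hy
    have hg : (g : G) ∈ Subgroup.centralizer (P : Set G) := hCc g.2
    exact Subtype.ext (Subgroup.mem_centralizer_iff.mp hg _ hyP)
  have hQS' : ∀ q ∈ Q, ∀ y : C, y ∈ (hPp'.toSylow hidx : Sylow p C) →
      q * (y : G) * q⁻¹ = y := by
    intro q hq y hy
    exact hcent q hq _ hy
  have h4 := burnside_commutator hQC (hPp'.toSylow hidx) hNS hQS'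
  have h27 := Cfsg.Agent.S0027.result Q H hQ hcop (Or.inr hsolv)
  have hle : ⁅H, Q⁆ ≤ ⁅C, Q⁆ := by
    calc ⁅H, Q⁆ = ⁅⁅H, Q⁆, Q⁆ := h27.symm
      _ ≤ ⁅C, Q⁆ := Subgroup.commutator_mono (by rw [hC]; exact le_inf hRH hRc) le_rfl
  exact fun hp2 => h4 (hp2.trans (Subgroup.card_dvd_of_le hle))

/-- **Coprime action on a Z-group**: `|C_H(Q)|` is coprime to `|[H, Q]|`. -/
theorem coprime_centralizer_commutator [Finite G] (H Q : Subgroup G) [IsZGroup H]
    (hQ : Q ≤ Subgroup.normalizer (H : Set G)) (hcop : (Nat.card Q).Coprime (Nat.card H)) :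
    (Nat.card ↥(H ⊓ Subgroup.centralizer (Q : Set G))).Coprime (Nat.card ↥⁅H, Q⁆) := by
  apply Nat.coprime_of_dvd
  intro p hp hp1 hp2
  haveI := Fact.mk hp
  have hsolv : Group.IsSolvable H := inferInstance
  obtain ⟨x, hx⟩ := exists_prime_orderOf_dvd_card' p hp1
  have hxH : (x : G) ∈ H := (Subgroup.mem_inf.mp x.2).1
  have hxC : (x : G) ∈ Subgroup.centralizer (Q : Set G) := (Subgroup.mem_inf.mp x.2).2
  have hxord : orderOf (x : G) = p := by rw [Subgroup.orderOf_coe, hx]
  have hx1 : (x : G) ≠ 1 := by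
    intro h
    rw [h, orderOf_one] at hxord
    exact hp.one_lt.ne hxord
  have hfix : ∀ q ∈ Q, q * (x : G) * q⁻¹ = x := by
    intro q hq
    have h1 := Subgroup.mem_centralizer_iff.mp hxC q hq
    rw [h1]; group
  have hUp : IsPGroup p (Subgroup.zpowers (x : G)) := by
    apply IsPGroup.of_card (n := 1)
    rw [Nat.card_zpowers, hxord, pow_one]
  have hUH : Subgroup.zpowers (x : G) ≤ H := by rw [Subgroup.zpowers_le]; exact hxH
  have hUQ : Q ≤ Subgroup.normalizer ((Subgroup.zpowers (x : G) : Subgroup G) : Set G) := by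
    have h1 : Q ≤ Subgroup.centralizer ((Subgroup.zpowers (x : G) : Subgroup G) : Set G) := by
      intro q hq
      rw [Subgroup.mem_centralizer_iff]
      intro y hy
      obtain ⟨n, rfl⟩ := Subgroup.mem_zpowers_iff.mp hy
      have hc : Commute (x : G) q := (Subgroup.mem_centralizer_iff.mp hxC q hq).symm
      exact hc.zpow_left n
    exact h1.trans (Subgroup.centralizer_le_normalizer _)
  obtain ⟨P₀, hUP, hQP⟩ := Cfsg.Agent.Lib.Helper54.exists_invariant_sylow_ge Q H hQ hcop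
    (Or.inr hsolv) p (Subgroup.zpowers (x : G)) hUH hUp hUQ
  haveI hcyc : IsCyclic ((P₀ : Subgroup H).map H.subtype) := by
    let e := (P₀ : Subgroup H).equivMapOfInjective H.subtype (Subgroup.subtype_injective H)
    exact isCyclic_of_surjective e e.surjective
  have hPp : IsPGroup p ((P₀ : Subgroup H).map H.subtype) := P₀.isPGroup'.map _
  have hPH : (P₀ : Subgroup H).map H.subtype ≤ H := Subgroup.map_subtype_le _
  have hcopP : (Nat.card ((P₀ : Subgroup H).map H.subtype)).Coprime (Nat.card Q) :=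
    Nat.Coprime.coprime_dvd_left (Subgroup.card_dvd_of_le hPH) hcop.symm
  have hcent := conj_eq_self_of_fix hPp hQP hcopP (hUP (Subgroup.mem_zpowers _)) hx1 hfix
  have hQS : ∀ q ∈ Q, ∀ y : H, y ∈ P₀ → q * (y : G) * q⁻¹ = y := by
    intro q hq y hy
    exact hcent q hq _ (Subgroup.mem_map_of_mem H.subtype hy)
  rcases Sylow.normalizer_le_centralizer_or_le_commutator P₀ with hN | hD
  · exact burnside_commutator hQ P₀ hN hQS hp2
  · have hPn : (P₀ : Subgroup H).Normal := sylow_normal_of_le_commutator P₀ hD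
    have hconj : ∀ h ∈ H, ∀ y ∈ (P₀ : Subgroup H).map H.subtype,
        h * y * h⁻¹ ∈ (P₀ : Subgroup H).map H.subtype := by
      intro h hh y hy
      obtain ⟨y₀, hy₀, rfl⟩ := Subgroup.mem_map.mp hy
      exact ⟨⟨h, hh⟩ * y₀ * ⟨h, hh⟩⁻¹, hPn.conj_mem y₀ hy₀ ⟨h, hh⟩, rfl⟩
    have hPcomm : ∀ a ∈ (P₀ : Subgroup H).map H.subtype,
        ∀ b ∈ (P₀ : Subgroup H).map H.subtype, a * b = b * a := by
      intro a ha b hb
      have h1 := (IsCyclic.commGroup (α := ((P₀ : Subgroup H).map H.subtype))).mul_comm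
        ⟨a, ha⟩ ⟨b, hb⟩
      exact congrArg Subtype.val h1
    have hidxH : ¬ p ∣ ((P₀ : Subgroup H).map H.subtype).relIndex H := by
      have h2 : ((P₀ : Subgroup H).map H.subtype).relIndex H = (P₀ : Subgroup H).index := by
        unfold Subgroup.relIndex
        congr 1
        exact Subgroup.comap_map_eq_self_of_injective (Subgroup.subtype_injective H) _
      rw [h2]
      exact P₀.not_dvd_index
    exact not_dvd_card_commutator_of_normal hQ hcop hsolv hPH hPp hidxH hPcomm hconj hcent hp2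

end Cfsg.Agent.Lib.Helper62.TIHallSepA
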