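import Mathlib
import Cfsg.Prelude.Def_OddOrderLocal
import Cfsg.Agent.Lib.Helper62.TIHallFrob
import Cfsg.Agent.Lib.Helper54.Coprime
import Cfsg.Agent.S0016

/-!
# TI subgroups, Hall in their normalizer, of `π`-separable groups (helper62)

For a non-normal TI subgroup `H` that is Hall in `N_G(H)`, in a `π(H)`-separable group `G`:
`H` is a Hall subgroup of `G`, `G = K N_G(H)` for a normal `π'`-subgroup `K`, and `H` is a
Z-group once its Sylow `2`-subgroups are abelian.
-/

set_option autoImplicit false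

namespace Cfsg.Agent.Lib.Helper62.TIHallSepB

open Cfsg Cfsg.Agent.Lib.Helper62.TIHallFrob

open scoped Pointwise

universe u

variable {G : Type u} [Group G] [Finite G]

/-- Abelian `p`-subgroups of `H` are cyclic in the Frobenius-like set-up. -/
theorem Setup.isCyclic_of_isPGroup {M H : Subgroup G} (hS : Setup M H) {p : ℕ} [Fact p.Prime]
    {A : Subgroup G} (hAH : A ≤ H) (hAp : IsPGroup p A)
    (hcomm : p = 2 → ∀ a ∈ A, ∀ b ∈ A, a * b = b * a) : IsCyclic A := by
  by_cases hAbot : A = ⊥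
  · have hsub : Subsingleton A := by rw [hAbot]; infer_instance
    exact isCyclic_of_subsingleton
  · haveI : Group.IsNilpotent A := hAp.isNilpotent
    have hsolv : Group.IsSolvable A := inferInstance
    obtain ⟨F, _, _, Kb, Bb, hKn, hcompl, hKb, hBb, hfpf, ⟨e⟩⟩ :=
      hS.frob_of_solvable hAH hAbot hsolv
    have hBp : IsPGroup p Bb := hAp.of_equiv e
    have hu := Cfsg.Agent.Lib.Helper35.unique_subgroup_of_order_p_of_fpf Kb Bb hKb hfpf p
      (⊤ : Subgroup Bb) (hBp.to_subgroup ⊤)
    let f : (⊤ : Subgroup Bb) ≃* A := Subgroup.topEquiv.trans e.symm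
    rcases Cfsg.Agent.S0016.result p (hBp.to_subgroup ⊤) hu with h | ⟨h2, n, ⟨eq⟩⟩
    · exact isCyclic_of_surjective f f.surjective
    · let g : A ≃* QuaternionGroup (2 ^ n) := f.symm.trans eq
      have hcommQ : ∀ u v : QuaternionGroup (2 ^ n), u * v = v * u := by
        intro u v
        have h1 := hcomm h2 (g.symm u) (g.symm u).2 (g.symm v) (g.symm v).2
        have h3 : g.symm u * g.symm v = g.symm v * g.symm u := Subtype.ext h1
        have h4 := congrArg g h3
        simpa using h4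
      rcases Nat.eq_zero_or_pos n with hn | hn
      · subst hn
        haveI : IsCyclic (QuaternionGroup (2 ^ 0)) := by
          rw [pow_zero]
          exact QuaternionGroup.quaternionGroup_one_isCyclic
        exact isCyclic_of_surjective g.symm g.symm.surjective
      · exfalso
        have h3 := hcommQ (QuaternionGroup.a 1) (QuaternionGroup.xa 0)
        rw [QuaternionGroup.a_mul_xa, QuaternionGroup.xa_mul_a] at h3
        have h4 : (0 - 1 : ZMod (2 * 2 ^ n)) = 0 + 1 := QuaternionGroup.xa.inj h3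
        have h5 : ((2 : ℕ) : ZMod (2 * 2 ^ n)) = 0 := by
          push_cast
          linear_combination (-1 : ZMod (2 * 2 ^ n)) * h4
        rw [ZMod.natCast_eq_zero_iff] at h5
        have h6 : 2 * 2 ^ n ≤ 2 := Nat.le_of_dvd (by norm_num) h5
        have h7 : 2 ^ 1 ≤ 2 ^ n := Nat.pow_le_pow_right (by norm_num) hn
        omega

omit [Finite G] in
theorem card_subgroupOf_of_le' {H N : Subgroup G} (hHN : H ≤ N) :
    Nat.card (H.subgroupOf N) = Nat.card H :=
  Nat.card_congr (Subgroup.subgroupOfEquivOfLe hHN).toEquiv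

variable {H : Subgroup G}

omit [Finite G] in
/-- Normalizers of nontrivial subgroups of a TI subgroup `H` lie in `N_G(H)`. -/
theorem normalizer_le_of_ti (hTI : Cfsg.IsTISubset (H : Set G)) {P : Subgroup G} (hPH : P ≤ H)
    (hP : P ≠ ⊥) : Subgroup.normalizer (P : Set G) ≤ Subgroup.normalizer (H : Set G) := by
  intro g hg
  by_contra hgN
  obtain ⟨⟨x, hxP⟩, hx1⟩ := Subgroup.ne_bot_iff_exists_ne_one.mp hP
  apply hx1
  apply Subtype.ext
  exact hTI g hgN x (hPH hxP) (hPH ((Subgroup.mem_normalizer_iff.mp hg x).mp hxP))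

/-- For `p ∣ |H|`, some Sylow `p`-subgroup of `G` lies in `H`. -/
theorem exists_sylow_le_of_ti (hTI : Cfsg.IsTISubset (H : Set G))
    (hHall : (Nat.card H).Coprime (H.subgroupOf (Subgroup.normalizer (H : Set G))).index)
    {p : ℕ} [Fact p.Prime] (hpH : p ∣ Nat.card H) : ∃ S : Sylow p G, (S : Subgroup G) ≤ H := by
  have hHN : H ≤ Subgroup.normalizer (H : Set G) := Subgroup.le_normalizer
  have hH'n : (H.subgroupOf (Subgroup.normalizer (H : Set G))).Normal :=
    Subgroup.normal_in_normalizer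
  obtain ⟨q, hq⟩ := exists_prime_orderOf_dvd_card' p hpH
  have hqH : (q : G) ∈ H := q.2
  have hp : p.Prime := Fact.out
  have hq1 : (q : G) ≠ 1 := by
    intro h
    have : q = 1 := Subtype.ext h
    rw [this, orderOf_one] at hq
    exact hp.one_lt.ne hq
  have hqord : orderOf (q : G) = p := by rw [Subgroup.orderOf_coe, hq]
  have hQ : IsPGroup p (Subgroup.zpowers (q : G)) := by
    apply IsPGroup.of_card (n := 1)
    rw [Nat.card_zpowers, hqord, pow_one]
  obtain ⟨P, hP⟩ := hQ.exists_le_sylow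
  have hqP : (q : G) ∈ (P : Subgroup G) := hP (Subgroup.mem_zpowers _)
  have hPnt : Nontrivial (P : Subgroup G) :=
    ⟨⟨⟨(q : G), hqP⟩, 1, fun h => hq1 (congrArg Subtype.val h)⟩⟩
  have hcnt : Nontrivial (Subgroup.center (P : Subgroup G)) := P.isPGroup'.center_nontrivial
  obtain ⟨z, hz1⟩ := exists_ne (1 : Subgroup.center (P : Subgroup G))
  have hzG1 : (((z : (P : Subgroup G)) : G)) ≠ 1 := by
    intro h
    apply hz1
    exact Subtype.ext (Subtype.ext h)
  have hzcomm : ∀ g ∈ (P : Subgroup G), g * ((z : (P : Subgroup G)) : G) * g⁻¹ =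
      ((z : (P : Subgroup G)) : G) := by
    intro g hg
    have h := (Subgroup.mem_center_iff.mp z.2) ⟨g, hg⟩
    have h2 := congrArg (fun w : (P : Subgroup G) => (w : G)) h
    simp only [Subgroup.coe_mul] at h2
    rw [h2]; group
  have hpel : ∀ g ∈ (P : Subgroup G), ∃ k : ℕ, g ^ p ^ k = 1 := by
    intro g hg
    obtain ⟨k, hk⟩ := P.isPGroup' ⟨g, hg⟩
    exact ⟨k, by simpa using congrArg Subtype.val hk⟩
  have hzN : ((z : (P : Subgroup G)) : G) ∈ Subgroup.normalizer (H : Set G) := by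
    by_contra hzN
    apply hq1
    apply hTI _ hzN _ hqH
    have h := (Subgroup.mem_center_iff.mp z.2) ⟨(q : G), hqP⟩
    have h2 := congrArg (fun w : (P : Subgroup G) => (w : G)) h
    simp only [Subgroup.coe_mul] at h2
    have : ((z : (P : Subgroup G)) : G) * (q : G) * ((z : (P : Subgroup G)) : G)⁻¹ = (q : G) := by
      rw [← h2]; group
    rw [this]; exact hqH
  obtain ⟨kz, hkz⟩ := hpel _ (z : (P : Subgroup G)).2
  have hzH : ((z : (P : Subgroup G)) : G) ∈ H := mem_of_pElement hHN hH'n hHall hpH hzN hkz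
  refine ⟨P, ?_⟩
  intro g hg
  have hgN : g ∈ Subgroup.normalizer (H : Set G) := by
    by_contra hgN
    apply hzG1
    apply hTI g hgN _ hzH
    rw [hzcomm g hg]; exact hzH
  obtain ⟨k, hk⟩ := hpel g hg
  exact mem_of_pElement hHN hH'n hHall hpH hgN hk

/-- `H` is a Hall subgroup of `G`. -/
theorem hall_of_ti (hTI : Cfsg.IsTISubset (H : Set G))
    (hHall : (Nat.card H).Coprime (H.subgroupOf (Subgroup.normalizer (H : Set G))).index) :
    (Nat.card H).Coprime H.index := by
  apply Nat.coprime_of_dvd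
  intro p hp hpH hpI
  haveI := Fact.mk hp
  obtain ⟨S, hS⟩ := exists_sylow_le_of_ti hTI hHall hpH
  exact S.not_dvd_index (hpI.trans (Subgroup.index_dvd_of_le hS))

/-- For normal `L`, some Sylow `p`-subgroup of `L` lies in a given Sylow `p`-subgroup of `G`. -/
theorem exists_sylow_le_of_normal {p : ℕ} [Fact p.Prime] (L : Subgroup G) [L.Normal]
    (S : Sylow p G) : ∃ P₀ : Sylow p L, (P₀ : Subgroup L).map L.subtype ≤ S := by
  obtain ⟨P₁⟩ : Nonempty (Sylow p L) := inferInstance
  have hA : IsPGroup p ((P₁ : Subgroup L).map L.subtype) := P₁.isPGroup'.map _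
  obtain ⟨S', hS'⟩ := hA.exists_le_sylow
  obtain ⟨g, hg⟩ := MulAction.exists_smul_eq G S' S
  have hgS : MulAut.conj g • (S' : Subgroup G) = (S : Subgroup G) := by
    rw [← hg]; rfl
  have hBS : MulAut.conj g • (P₁ : Subgroup L).map L.subtype ≤ (S : Subgroup G) := by
    rw [← hgS]
    exact Cfsg.Agent.Lib.Helper54.conj_smul_le_conj_smul hS'
  have hBL : MulAut.conj g • (P₁ : Subgroup L).map L.subtype ≤ L := by
    have h1 : MulAut.conj g • (P₁ : Subgroup L).map L.subtype ≤ MulAut.conj g • L :=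
      Cfsg.Agent.Lib.Helper54.conj_smul_le_conj_smul (Subgroup.map_subtype_le _)
    have h2 : g ∈ Subgroup.normalizer (L : Set G) := by
      rw [Subgroup.normalizer_eq_top]; trivial
    rwa [Cfsg.Agent.Lib.Helper54.mem_normalizer_iff_conj_smul.mp h2] at h1
  obtain ⟨P₀, hP₀⟩ := Cfsg.Agent.Lib.Helper54.exists_sylow_of_card (p := p) L
    (MulAut.conj g • (P₁ : Subgroup L).map L.subtype) hBL
    (by rw [Cfsg.Agent.Lib.Helper54.card_conj_smul, Cfsg.Agent.Lib.Helper54.card_map_sylow])
  exact ⟨P₀, hP₀ ▸ hBS⟩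

/-- For normal `L`, `[L : L ∩ H]` divides `[G : H]`. -/
theorem relIndex_dvd_index_of_normal_right (H L : Subgroup G) [L.Normal] :
    H.relIndex L ∣ H.index := by
  have e1 := Cfsg.Agent.Lib.Helper54.card_mul_relIndex (inf_le_left : L ⊓ H ≤ L)
  rw [Subgroup.inf_relIndex_left] at e1
  have e2 := Cfsg.Agent.Lib.Helper54.card_mul_relIndex (inf_le_right : L ⊓ H ≤ H)
  rw [Subgroup.inf_relIndex_right] at e2
  have e3 := Cfsg.Agent.Lib.Helper54.card_mul_relIndex (le_sup_left : L ≤ L ⊔ H)
  rw [Subgroup.relIndex_sup_left] at e3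
  have e4 := Cfsg.Agent.Lib.Helper54.card_mul_relIndex (le_sup_right : H ≤ L ⊔ H)
  have key : H.relIndex (L ⊔ H) = H.relIndex L := by
    have h1 : (Nat.card ↥(L ⊓ H) * L.relIndex H) * H.relIndex (L ⊔ H) =
        (Nat.card ↥(L ⊓ H) * L.relIndex H) * H.relIndex L := by
      calc (Nat.card ↥(L ⊓ H) * L.relIndex H) * H.relIndex (L ⊔ H)
          = Nat.card H * H.relIndex (L ⊔ H) := by rw [e2]
        _ = Nat.card ↥(L ⊔ H) := e4
        _ = Nat.card L * L.relIndex H := e3.symm
        _ = (Nat.card ↥(L ⊓ H) * H.relIndex L) * L.relIndex H := by rw [e1]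
        _ = (Nat.card ↥(L ⊓ H) * L.relIndex H) * H.relIndex L := by ring
    have hpos : 0 < Nat.card ↥(L ⊓ H) * L.relIndex H := by rw [e2]; exact Nat.card_pos
    exact Nat.eq_of_mul_eq_mul_left hpos h1
  rw [← key]
  exact Subgroup.relIndex_dvd_index_of_le le_sup_right

omit [Finite G] in
/-- Extract from a `π`-separable chain a normal `π'`-subgroup `K` and a normal `L ≥ K` with `L/K`
a nontrivial `π`-group. -/
theorem exists_section (H : Subgroup G) (hnc : ¬ (Nat.card G).Coprime (Nat.card H)) (n : ℕ)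
    (M : Fin (n + 1) → Subgroup G) (hM0 : M 0 = ⊥) (hMlast : M (Fin.last n) = ⊤)
    (hmono : Monotone M) (hMn : ∀ i, (M i).Normal)
    (hfac : ∀ i : Fin n, (∀ q : ℕ, q.Prime → q ∣ (M i.castSucc).relIndex (M i.succ) →
        q ∣ Nat.card H) ∨ ((M i.castSucc).relIndex (M i.succ)).Coprime (Nat.card H)) :
    ∃ K L : Subgroup G, K.Normal ∧ L.Normal ∧ K ≤ L ∧ (Nat.card K).Coprime (Nat.card H) ∧
      K.relIndex L ≠ 1 ∧ ∀ q : ℕ, q.Prime → q ∣ K.relIndex L → q ∣ Nat.card H := by
  by_contra hno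
  have hall : ∀ i : Fin (n + 1), (Nat.card (M i)).Coprime (Nat.card H) := by
    intro i
    induction i using Fin.induction with
    | zero => rw [hM0, Subgroup.card_bot]; exact Nat.coprime_one_left _
    | succ i ih =>
      have hle : M i.castSucc ≤ M i.succ := hmono (Fin.castSucc_le_succ i)
      have hcard := Cfsg.Agent.Lib.Helper54.card_mul_relIndex hle
      rcases hfac i with h | h
      · by_cases h1 : (M i.castSucc).relIndex (M i.succ) = 1
        · rw [← hcard, h1, mul_one]; exact ih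
        · exact absurd ⟨M i.castSucc, M i.succ, hMn _, hMn _, hle, ih, h1, h⟩ hno
      · rw [← hcard]; exact Nat.Coprime.mul_left ih h
  apply hnc
  have h1 := hall (Fin.last n)
  rwa [hMlast, Subgroup.card_top] at h1

/-- The Frattini step: `G = K N_G(H)`. -/
theorem sup_normalizer_eq_top (hTI : Cfsg.IsTISubset (H : Set G))
    (hHall : (Nat.card H).Coprime (H.subgroupOf (Subgroup.normalizer (H : Set G))).index)
    {K L : Subgroup G} (hLn : L.Normal) (hr1 : K.relIndex L ≠ 1)
    (hr : ∀ q : ℕ, q.Prime → q ∣ K.relIndex L → q ∣ Nat.card H) :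
    K ⊔ Subgroup.normalizer (H : Set G) = ⊤ := by
  obtain ⟨p, hp, hpr⟩ := Nat.exists_prime_and_dvd hr1
  haveI := Fact.mk hp
  have hpH := hr p hp hpr
  obtain ⟨S, hSH⟩ := exists_sylow_le_of_ti hTI hHall hpH
  obtain ⟨P₀, hP₀⟩ := exists_sylow_le_of_normal L S
  have hPH : (P₀ : Subgroup L).map L.subtype ≤ H := hP₀.trans hSH
  have hPne : (P₀ : Subgroup L).map L.subtype ≠ ⊥ := by
    intro hbot
    have hcard := Cfsg.Agent.Lib.Helper54.card_map_sylow L P₀
    rw [hbot, Subgroup.card_bot] at hcard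
    have hpL : p ∣ Nat.card L := hpr.trans (Subgroup.relIndex_dvd_card K L)
    have hpos : 0 < (Nat.card L).factorization p :=
      hp.factorization_pos_of_dvd Nat.card_pos.ne' hpL
    have h1 : 1 < p ^ (Nat.card L).factorization p := Nat.one_lt_pow hpos.ne' hp.one_lt
    omega
  have hNP := normalizer_le_of_ti hTI hPH hPne
  have hfr : Subgroup.normalizer (((P₀ : Subgroup L).map L.subtype : Subgroup G) : Set G) ⊔ L
      = ⊤ := Sylow.normalizer_sup_eq_top P₀
  have hL : L ≤ K ⊔ (L ⊓ H) := by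
    rw [← Subgroup.relIndex_eq_one]
    have hd1 : (K ⊔ (L ⊓ H)).relIndex L ∣ K.relIndex L :=
      Subgroup.relIndex_dvd_of_le_left L le_sup_left
    have hd2 : (K ⊔ (L ⊓ H)).relIndex L ∣ H.relIndex L := by
      have h1 := Subgroup.relIndex_dvd_of_le_left L (le_sup_right : L ⊓ H ≤ K ⊔ (L ⊓ H))
      rwa [Subgroup.inf_relIndex_left] at h1
    have hcop : (K.relIndex L).Coprime (H.relIndex L) := by
      apply Nat.coprime_of_dvd
      intro q hq h1 h2
      have h3 : q.Coprime H.index :=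
        Nat.Coprime.coprime_dvd_left (hr q hq h1) (hall_of_ti hTI hHall)
      exact (Nat.Prime.coprime_iff_not_dvd hq).mp h3
        (h2.trans (relIndex_dvd_index_of_normal_right H L))
    exact Nat.eq_one_of_dvd_coprimes hcop hd1 hd2
  apply top_le_iff.mp
  rw [← hfr]
  apply sup_le
  · exact hNP.trans le_sup_right
  · exact hL.trans (sup_le_sup_left (inf_le_right.trans Subgroup.le_normalizer) K)

/-- `H` is a Z-group. -/
theorem isZGroup_of_ti (hTI : Cfsg.IsTISubset (H : Set G)) (hnn : ¬ H.Normal) {K : Subgroup G}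
    (hKn : K.Normal) (hK : (Nat.card K).Coprime (Nat.card H))
    (hKN : K ⊔ Subgroup.normalizer (H : Set G) = ⊤)
    (h2 : ∀ P : Sylow 2 H, IsMulCommutative (P : Subgroup H)) : IsZGroup H := by
  haveI := hKn
  have hdisj : K ⊓ H = ⊥ := (Subgroup.disjoint_of_coprime_natCard hK).eq_bot
  have hKX : K ≤ K ⊔ H := le_sup_left
  have hHX : H ≤ K ⊔ H := le_sup_right
  have hHK : H ≤ Subgroup.normalizer (K : Set G) := by
    rw [Subgroup.normalizer_eq_top]; exact le_top
  have hcardX : Nat.card (K ⊔ H : Subgroup G) = Nat.card K * Nat.card H :=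
    Cfsg.Agent.Lib.Helper54.card_sup_of_le_normalizer hHK hdisj
  have hS : Setup (K.subgroupOf (K ⊔ H)) (H.subgroupOf (K ⊔ H)) := by
    refine ⟨inferInstance, ?_, ?_, ?_, ?_⟩
    · apply Subgroup.isComplement'_of_coprime
      · rw [card_subgroupOf_of_le' hKX, card_subgroupOf_of_le' hHX, hcardX]
      · rw [card_subgroupOf_of_le' hKX, card_subgroupOf_of_le' hHX]; exact hK
    · rw [card_subgroupOf_of_le' hKX, card_subgroupOf_of_le' hHX]; exact hK.symm
    · intro h hh h1 m hm hcomm
      have hhH : (h : G) ∈ H := Subgroup.mem_subgroupOf.mp hh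
      have hmK : (m : G) ∈ K := Subgroup.mem_subgroupOf.mp hm
      have hcomm' : (m : G) * h = h * m := by simpa using congrArg Subtype.val hcomm
      have hmN : (m : G) ∈ Subgroup.normalizer (H : Set G) := by
        by_contra hmN
        apply h1
        apply Subtype.ext
        apply hTI _ hmN _ hhH
        rw [hcomm']
        simpa using hhH
      rw [Subgroup.mem_centralizer_iff]
      intro h' hh'
      have hh'H : (h' : G) ∈ H := Subgroup.mem_subgroupOf.mp hh'
      have h3 : (m : G) * h' * (m : G)⁻¹ * (h' : G)⁻¹ ∈ H :=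
        H.mul_mem ((Subgroup.mem_normalizer_iff.mp hmN _).mp hh'H) (H.inv_mem hh'H)
      have h4 : (m : G) * h' * (m : G)⁻¹ * (h' : G)⁻¹ ∈ K := by
        have e : (m : G) * h' * (m : G)⁻¹ * (h' : G)⁻¹ =
            m * (h' * (m : G)⁻¹ * (h' : G)⁻¹) := by group
        rw [e]
        exact K.mul_mem hmK (hKn.conj_mem _ (K.inv_mem hmK) _)
      have h5 : (m : G) * h' * (m : G)⁻¹ * (h' : G)⁻¹ = 1 := by
        have h6 : (m : G) * h' * (m : G)⁻¹ * (h' : G)⁻¹ ∈ K ⊓ H := ⟨h4, h3⟩
        rw [hdisj] at h6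
        exact Subgroup.mem_bot.mp h6
      apply Subtype.ext
      show (h' : G) * m = m * h'
      calc (h' : G) * m = ((m : G) * h' * (m : G)⁻¹ * (h' : G)⁻¹)⁻¹ * (m * h') := by group
        _ = m * h' := by rw [h5]; group
    · intro hle
      apply hnn
      rw [← Subgroup.normalizer_eq_top_iff, ← hKN]
      refine (sup_eq_right.mpr ?_).symm
      intro k hk
      have hkX : k ∈ K ⊔ H := hKX hk
      have h3 := hle (show (⟨k, hkX⟩ : ↥(K ⊔ H)) ∈ K.subgroupOf (K ⊔ H) from
        Subgroup.mem_subgroupOf.mpr hk)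
      have hkc : k ∈ Subgroup.centralizer (H : Set G) := by
        rw [Subgroup.mem_centralizer_iff]
        intro h hh
        have h4 := Subgroup.mem_centralizer_iff.mp h3 ⟨h, hHX hh⟩
          (Subgroup.mem_subgroupOf.mpr hh)
        exact congrArg Subtype.val h4
      exact Subgroup.centralizer_le_normalizer _ hkc
  constructor
  intro p hp P
  haveI := Fact.mk hp
  have hle : (P : Subgroup H).map H.subtype ≤ K ⊔ H := (Subgroup.map_subtype_le _).trans hHX
  let e1 : (((P : Subgroup H).map H.subtype).subgroupOf (K ⊔ H)) ≃*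
      ((P : Subgroup H).map H.subtype) := Subgroup.subgroupOfEquivOfLe hle
  let e2 : (P : Subgroup H) ≃* ((P : Subgroup H).map H.subtype) :=
    (P : Subgroup H).equivMapOfInjective H.subtype (Subgroup.subtype_injective H)
  let e : (((P : Subgroup H).map H.subtype).subgroupOf (K ⊔ H)) ≃* (P : Subgroup H) :=
    e1.trans e2.symm
  have hAp : IsPGroup p (((P : Subgroup H).map H.subtype).subgroupOf (K ⊔ H)) :=
    P.isPGroup'.of_equiv e.symm
  have hAH : ((P : Subgroup H).map H.subtype).subgroupOf (K ⊔ H) ≤ H.subgroupOf (K ⊔ H) := by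
    intro x hx
    exact Subgroup.mem_subgroupOf.mpr
      (Subgroup.map_subtype_le _ (Subgroup.mem_subgroupOf.mp hx))
  have hcyc : IsCyclic (((P : Subgroup H).map H.subtype).subgroupOf (K ⊔ H)) := by
    apply Setup.isCyclic_of_isPGroup hS hAH hAp
    intro hp2 a ha b hb
    subst hp2
    have hc := h2 P
    have h3 : e ⟨a, ha⟩ * e ⟨b, hb⟩ = e ⟨b, hb⟩ * e ⟨a, ha⟩ := hc.is_comm.comm _ _
    have h4 : (⟨a, ha⟩ : ((P : Subgroup H).map H.subtype).subgroupOf (K ⊔ H)) * ⟨b, hb⟩ =
        ⟨b, hb⟩ * ⟨a, ha⟩ := by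
      apply e.injective
      rw [map_mul, map_mul, h3]
    exact congrArg Subtype.val h4
  exact isCyclic_of_surjective e e.surjective

end Cfsg.Agent.Lib.Helper62.TIHallSepB
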