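import Mathlib
import Cfsg.Prelude.Def_Characters
import Cfsg.Prelude.Def_Blocks
import Cfsg.Agent.Lib.Helper26.ThreeDegQuot
import Cfsg.Agent.Lib.Helper75.Clifford
import Cfsg.Agent.Lib.Helper77.Linear
import Cfsg.Agent.Lib.Helper80.CharOrth

/-!
# S4460 module [TD-A-INV] (helper62)

`hom_conj_eq_of_no_ppow_degree`: statement verbatim from helper48's board post #4536.

Proof: pick `χ ∈ Irr(G)` over `lam`.  By Clifford `χ|_H` is a multiple of a sum of conjugates of
`lam`, all linear, so `χ` is trivial on `[H,H]`; by Ito in `G/[H,H]` (helper26's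
`charDegree_dvd_index_of_trivial_on_commutator`) `χ(1) ∣ [G:H] = p^k`, hence `χ(1) = 1` by
hypothesis, `χ|_H = lam`, and `lam` is invariant because `χ` is a class function.
(The hypothesis `hab` is not needed.)
-/

set_option autoImplicit false

namespace Cfsg.Agent.Lib.Helper62.ThreeDeg

open Cfsg
open scoped commutatorElement

universe u

/-- A function which is a multiple of a sum of linear characters of `H` takes at every element of
`[H,H]` the same value as at `1`. -/
theorem hom_apply_eq_one_of_mem_commutator {G : Type u} [Group G] (H : Subgroup G)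
    (mu : H →* ℂˣ) (x : G) (hx : x ∈ ⁅H, H⁆) (hxH : x ∈ H) : mu ⟨x, hxH⟩ = 1 := by
  rw [← Subgroup.map_subtype_commutator] at hx
  obtain ⟨y, hy, hyx⟩ := Subgroup.mem_map.mp hx
  have hker : commutator H ≤ mu.ker := Abelianization.commutator_subset_ker mu
  have h1 := MonoidHom.mem_ker.mp (hker hy)
  have h2 : y = ⟨x, hxH⟩ := Subtype.ext hyx
  rw [← h2]
  exact h1

/-- **[TD-A-INV]** -/
theorem hom_conj_eq_of_no_ppow_degree {G : Type u} [Group G] [Finite G] (p : ℕ) (hp : p.Prime)
    (H : Subgroup G) [hH : H.Normal] (k : ℕ) (hidx : H.index = p ^ k)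
    (hab : ∀ x y : G, x * y * x⁻¹ * y⁻¹ ∈ H)
    (hdeg : ∀ χ : IrrCharacter G, ∀ j : ℕ, charDegree (χ : G → ℂ) = p ^ j →
      charDegree (χ : G → ℂ) = 1)
    (lam : H →* ℂˣ) (g : G) (h : H) :
    lam ⟨g * h * g⁻¹, hH.conj_mem h h.2 g⟩ = lam h := by
  classical
  let _ : Fintype G := Fintype.ofFinite G
  let _ : Fintype H := Fintype.ofFinite H
  set θ : H → ℂ := fun h => ((lam h : ℂˣ) : ℂ) with hθdef
  have hθ : IsIrrCharacter H θ := Helper80.isIrrCharacter_of_hom lam
  obtain ⟨χ, hχ, hconst⟩ := Helper80.exists_irr_over' H hθ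
  have hχc : IsCharacter G χ := Helper80.isCharacter_of_isIrr hχ
  have hcl := Helper75.clifford_finset H hχ hθ hconst
  -- members of the orbit are linear, so take at `x ∈ [H,H]` the value they take at `1`
  have horb : ∀ φ ∈ Helper75.conjOrbit H θ, ∀ (x : G) (hx : x ∈ ⁅H, H⁆) (hxH : x ∈ H),
      (φ : H → ℂ) ⟨x, hxH⟩ = (φ : H → ℂ) 1 := by
    intro φ hφ x hx hxH
    obtain ⟨g', hg'⟩ := (Helper75.mem_conjOrbit H).mp hφ
    let mu : H →* ℂˣ := lam.comp (MulAut.conjNormal (H := H) g').toMonoidHom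
    have hmu : ∀ n : H, (φ : H → ℂ) n = ((mu n : ℂˣ) : ℂ) := by
      intro n
      rw [← hg', Helper75.conjFun_apply]
      rfl
    rw [hmu, hmu, hom_apply_eq_one_of_mem_commutator H mu x hx hxH, map_one]
  have hker : ∀ x ∈ ⁅H, H⁆, χ x = χ 1 := by
    intro x hx
    have hxH : x ∈ H := Subgroup.commutator_le_left H H hx
    have h1 := congrFun hcl ⟨x, hxH⟩
    have h2 := congrFun hcl 1
    simp only [Pi.smul_apply, Finset.sum_apply, smul_eq_mul] at h1 h2
    rw [Finset.sum_congr rfl (fun φ hφ => horb φ hφ x hx hxH)] at h1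
    have h3 : χ x = χ ((1 : H) : G) := h1.trans h2.symm
    rw [h3]
    simp
  have hdvd := Helper26.ThreeDeg.charDegree_dvd_index_of_trivial_on_commutator H ⟨χ, hχ⟩ hker
  rw [hidx] at hdvd
  obtain ⟨j, -, hj⟩ := (Nat.dvd_prime_pow hp).mp hdvd
  have hone : charDegree χ = 1 := hdeg ⟨χ, hχ⟩ j hj
  have hχ1 : χ 1 = 1 := by
    rw [Helper80.char_one_eq_charDegree hχc, hone]
    simp
  -- the restriction is a linear character of `H`
  have hres : IsCharacter H (fun n : H => χ n) := Helper75.isCharacter_res H hχc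
  obtain ⟨mu, hmu⟩ := Helper77.exists_monoidHom_of_degree_one hres (by simpa using hχ1)
  have hresirr : IsIrrCharacter H (fun n : H => χ n) := by
    have : (fun n : H => χ n) = fun n : H => ((mu n : ℂˣ) : ℂ) := funext hmu
    rw [this]
    exact Helper80.isIrrCharacter_of_hom mu
  have heq : (fun n : H => χ n) = θ := by
    by_contra hne
    exact hconst (Helper80.classInner_irr_ne hresirr hθ hne)
  have hcf : IsClassFunction G χ := Helper80.isClassFunction_of_isCharacter hχc
  apply Units.ext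
  have e1 := congrFun heq ⟨g * h * g⁻¹, hH.conj_mem h h.2 g⟩
  have e2 := congrFun heq h
  simp only [hθdef] at e1 e2
  rw [← e1, ← e2]
  exact hcf (h : G) g

end Cfsg.Agent.Lib.Helper62.ThreeDeg
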