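import Mathlib
import Cfsg.Prelude.Def_Characters
import Cfsg.Prelude.Def_Blocks
import Cfsg.Agent.S0178
import Cfsg.Agent.Lib.Helper26.ThreeDegQuot

/-!
# S4460 module [TD-B2-AB] (helper62): the abstract `p`-group lemma

`commutator_le_of_family`: statement verbatim from helper48's board post #4536.
-/

set_option autoImplicit false

namespace Cfsg.Agent.Lib.Helper62.ThreeDeg

open Cfsg

universe u

/-- Character form of S0178: the degree of an irreducible character is at most the index of any
abelian subgroup. -/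
theorem charDegree_le_index_of_abelian {G : Type u} [Group G] [Finite G] (A : Subgroup G)
    (hA : ∀ a ∈ A, ∀ b ∈ A, a * b = b * a) (χ : G → ℂ) (hχ : IsIrrCharacter G χ) :
    charDegree χ ≤ A.index := by
  obtain ⟨n, ρ, hirr, rfl⟩ := hχ
  haveI := hirr
  have h1 := Cfsg.Agent.S0178.result ρ A hA
  rw [Module.finrank_fin_fun] at h1
  have h2 : charDegree ρ.character = n := by
    unfold charDegree
    rw [Representation.char_one, Module.finrank_fin_fun]
    simp
  omega

/-- The intersection of a conjugation-closed family of subgroups is normal. -/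
theorem sInf_normal_of_conj_closed {X : Type u} [Group X] (𝓢 : Set (Subgroup X))
    (hconj : ∀ S ∈ 𝓢, ∀ x : X, S.map (MulAut.conj x).toMonoidHom ∈ 𝓢) :
    (sInf 𝓢 : Subgroup X).Normal := by
  constructor
  intro c hc x
  rw [Subgroup.mem_sInf] at hc ⊢
  intro S hS
  have h1 := hc _ (hconj S hS x⁻¹)
  obtain ⟨s, hs, hsc⟩ := Subgroup.mem_map.mp h1
  have : x * c * x⁻¹ = s := by
    rw [← hsc]
    simp [MulAut.conj_apply, mul_assoc]
  rw [this]
  exact hs

/-- **[TD-B2-AB]** -/
theorem commutator_le_of_family {X : Type u} [Group X] [Finite X] (p : ℕ) [Fact p.Prime]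
    (hX : IsPGroup p X) (e : ℕ)
    (hcd : ∀ β : IrrCharacter X, charDegree (β : X → ℂ) = 1 ∨ charDegree (β : X → ℂ) = p ^ e)
    (𝓢 : Set (Subgroup X))
    (hconj : ∀ S ∈ 𝓢, ∀ x : X, S.map (MulAut.conj x).toMonoidHom ∈ 𝓢)
    (h𝓢 : ∀ S ∈ 𝓢, S = ⊤ ∨ ((∀ a ∈ S, ∀ b ∈ S, a * b = b * a) ∧ S.index = p ^ e)) :
    ∀ S ∈ 𝓢, commutator X ≤ S := by
  classical
  let _ : Fintype X := Fintype.ofFinite X
  set C : Subgroup X := sInf 𝓢 with hC
  haveI hCn : C.Normal := sInf_normal_of_conj_closed 𝓢 hconj
  have hmain : commutator X ≤ C := by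
    apply Helper26.ThreeDeg.commutator_le_of_forall_linear C
    intro χ hχ
    rcases hcd χ with h1 | h1
    · exact h1
    -- degree `p ^ e`: find an abelian subgroup of `X ⧸ C` of smaller index
    let _ : Fintype (X ⧸ C) := Fintype.ofFinite _
    have hdefl := Helper26.ThreeDeg.charDegree_deflate C χ hχ
    have hbound : ∀ A : Subgroup (X ⧸ C), (∀ a ∈ A, ∀ b ∈ A, a * b = b * a) →
        charDegree (χ : X → ℂ) ≤ A.index := by
      intro A hA
      rw [← hdefl]
      exact charDegree_le_index_of_abelian A hA _ (Helper77.deflate C χ hχ).2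
    by_cases htop : C = ⊤
    · -- the quotient is trivial
      have hsub : Subsingleton (X ⧸ C) := by
        rw [htop]
        exact QuotientGroup.subsingleton_quotient_top
      have h2 := hbound ⊤ (fun a _ b _ => Subsingleton.elim _ _)
      rw [Subgroup.index_top] at h2
      have h3 : 1 ≤ p ^ e := Nat.one_le_pow _ _ (Fact.out : p.Prime).pos
      omega
    · -- nontrivial `p`-group quotient: nontrivial centre
      have hQ : IsPGroup p (X ⧸ C) := hX.to_quotient C
      haveI : Nontrivial (X ⧸ C) := by
        by_contra hnt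
        rw [not_nontrivial_iff_subsingleton] at hnt
        apply htop
        rw [eq_top_iff]
        intro x _
        have : (x : X ⧸ C) = 1 := Subsingleton.elim _ _
        exact (QuotientGroup.eq_one_iff x).mp this
      haveI := hQ.center_nontrivial
      obtain ⟨⟨zb, hzb⟩, hz1⟩ := exists_ne (1 : Subgroup.center (X ⧸ C))
      have hzb1 : zb ≠ 1 := fun h => hz1 (Subtype.ext h)
      obtain ⟨z, rfl⟩ := QuotientGroup.mk_surjective zb
      have hzC : z ∉ C := fun h => hzb1 ((QuotientGroup.eq_one_iff z).mpr h)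
      have hex : ∃ S ∈ 𝓢, z ∉ S := by
        by_contra hcon
        push Not at hcon
        exact hzC ((Subgroup.mem_sInf).mpr hcon)
      obtain ⟨S, hS, hzS⟩ := hex
      have hCS : C ≤ S := sInf_le hS
      rcases h𝓢 S hS with hStop | ⟨hSab, hSidx⟩
      · exact absurd (hStop ▸ Subgroup.mem_top z) hzS
      set Sb : Subgroup (X ⧸ C) := S.map (QuotientGroup.mk' C) with hSb
      set A : Subgroup (X ⧸ C) := Sb ⊔ Subgroup.center (X ⧸ C) with hAdef
      have hAab : ∀ a ∈ A, ∀ b ∈ A, a * b = b * a := by
        intro a ha b hb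
        rw [hAdef, ← SetLike.mem_coe, Subgroup.mul_normal] at ha hb
        obtain ⟨s1, hs1, c1, hc1, rfl⟩ := Set.mem_mul.mp ha
        obtain ⟨s2, hs2, c2, hc2, rfl⟩ := Set.mem_mul.mp hb
        obtain ⟨t1, ht1, rfl⟩ := Subgroup.mem_map.mp hs1
        obtain ⟨t2, ht2, rfl⟩ := Subgroup.mem_map.mp hs2
        have hc1' := Subgroup.mem_center_iff.mp hc1
        have hc2' := Subgroup.mem_center_iff.mp hc2
        have ht : (QuotientGroup.mk' C) t1 * (QuotientGroup.mk' C) t2 =
            (QuotientGroup.mk' C) t2 * (QuotientGroup.mk' C) t1 := by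
          rw [← map_mul, ← map_mul, hSab t1 ht1 t2 ht2]
        calc (QuotientGroup.mk' C) t1 * c1 * ((QuotientGroup.mk' C) t2 * c2)
            = (QuotientGroup.mk' C) t1 * (c1 * (QuotientGroup.mk' C) t2) * c2 := by group
          _ = (QuotientGroup.mk' C) t1 * ((QuotientGroup.mk' C) t2 * c1) * c2 := by
              rw [← hc1' ((QuotientGroup.mk' C) t2)]
          _ = ((QuotientGroup.mk' C) t1 * (QuotientGroup.mk' C) t2) * (c1 * c2) := by group
          _ = ((QuotientGroup.mk' C) t2 * (QuotientGroup.mk' C) t1) * (c2 * c1) := by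
              rw [ht, ← hc2' c1]
          _ = (QuotientGroup.mk' C) t2 * ((QuotientGroup.mk' C) t1 * c2) * c1 := by group
          _ = (QuotientGroup.mk' C) t2 * (c2 * (QuotientGroup.mk' C) t1) * c1 := by
              rw [hc2' ((QuotientGroup.mk' C) t1)]
          _ = (QuotientGroup.mk' C) t2 * c2 * ((QuotientGroup.mk' C) t1 * c1) := by group
      have hSbidx : Sb.index = p ^ e := by
        rw [hSb, Subgroup.index_map_eq _ (QuotientGroup.mk'_surjective C), hSidx]
        rw [QuotientGroup.ker_mk']
        exact hCS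
      have hSbA : Sb ≤ A := le_sup_left
      have hzA : (QuotientGroup.mk z : X ⧸ C) ∈ A :=
        (le_sup_right : Subgroup.center (X ⧸ C) ≤ A) hzb
      have hzSb : (QuotientGroup.mk z : X ⧸ C) ∉ Sb := by
        intro hmem
        obtain ⟨s, hs, hsz⟩ := Subgroup.mem_map.mp hmem
        have h2 : s⁻¹ * z ∈ C := by
          rw [← QuotientGroup.eq]
          exact hsz
        apply hzS
        have : z = s * (s⁻¹ * z) := by group
        rw [this]
        exact S.mul_mem hs (hCS h2)
      have hrel := Subgroup.relIndex_mul_index hSbA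
      have hrel1 : Sb.relIndex A ≠ 1 := by
        intro h1'
        rw [Subgroup.relIndex_eq_one] at h1'
        exact hzSb (h1' hzA)
      have hApos : A.index ≠ 0 := Subgroup.index_ne_zero_of_finite
      have hlt : A.index < p ^ e := by
        rw [hSbidx] at hrel
        have hrel0 : Sb.relIndex A ≠ 0 := by
          intro h0
          rw [h0, zero_mul] at hrel
          have h3 : 1 ≤ p ^ e := Nat.one_le_pow _ _ (Fact.out : p.Prime).pos
          omega
        have h2 : 2 ≤ Sb.relIndex A := by omega
        calc A.index < 2 * A.index := by omega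
          _ ≤ Sb.relIndex A * A.index := Nat.mul_le_mul_right _ h2
          _ = p ^ e := hrel
      have h2 := hbound A hAab
      omega
  intro S hS
  exact hmain.trans (sInf_le hS)

end Cfsg.Agent.Lib.Helper62.ThreeDeg
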