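import Mathlib
import Cfsg.Prelude.Def_Blocks
import Cfsg.Agent.Lib.Helper78.CharMore

/-!
# TB-[FINAL] in `_of` form (sheet: helper82, S2441)

A finite group all of whose blocks of positive defect are principal, all of whose blocks of defect zero are
the block of a fixed class function `St` whose block is a block different from the principal one, has exactly
two blocks.
-/

set_option autoImplicit false
open Cfsg

namespace Cfsg.Agent.Lib.Helper62.TwoBlocks

/-- The principal block is a block. -/
theorem isPBlock_principalBlock_h62 {G : Type*} [Group G] (M : Ideal AlgInt) :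
    IsPBlock M (principalBlock M G) :=
  ⟨⟨fun _ => 1, Cfsg.Agent.Lib.Helper78.isIrrCharacter_one⟩, rfl⟩

/-- FINAL, `_of` form: exactly two blocks. -/
theorem card_blocks_eq_two_of {G : Type*} [Group G] (p : ℕ) (M : Ideal AlgInt) (St : G → ℂ)
    (hSt : IsPBlock M (blockOf M St))
    (hpos : ∀ B : Set (IrrCharacter G), IsPBlock M B → 0 < blockDefect p B → B = principalBlock M G)
    (hzero : ∀ B : Set (IrrCharacter G), IsPBlock M B → blockDefect p B = 0 → B = blockOf M St)
    (hne : blockOf M St ≠ principalBlock M G) :
    Nat.card {B : Set (IrrCharacter G) // IsPBlock M B} = 2 := by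
  classical
  have hset : {B : Set (IrrCharacter G) | IsPBlock M B} = {blockOf M St, principalBlock M G} := by
    ext B
    simp only [Set.mem_ofPred_eq, Set.mem_insert_iff, Set.mem_singleton_iff]
    constructor
    · intro hB
      rcases Nat.eq_zero_or_pos (blockDefect p B) with h0 | h0
      · exact Or.inl (hzero B hB h0)
      · exact Or.inr (hpos B hB h0)
    · rintro (rfl | rfl)
      · exact hSt
      · exact isPBlock_principalBlock_h62 M
  have : Nat.card {B : Set (IrrCharacter G) // IsPBlock M B} =
      Nat.card ↥({blockOf M St, principalBlock M G} : Set (Set (IrrCharacter G))) := by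
    rw [← hset]; rfl
  rw [this, Nat.card_coe_set_eq, Set.ncard_pair hne]

end Cfsg.Agent.Lib.Helper62.TwoBlocks
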